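import Mathlib

/-!
# Irreducible components and dense open embeddings (helper3)
-/

set_option autoImplicit false
set_option linter.unusedSectionVars false

open Topology TopologicalSpace Set

namespace Groth.Agent.H3.Decent

variable {A B : Type*} [TopologicalSpace A] [TopologicalSpace B]

/-- An open subspace of a space with finitely many irreducible components has finitely many
irreducible components. -/
theorem finite_irreducibleComponents_of_isOpenEmbedding {e : A → B} (he : IsOpenEmbedding e)
    (hB : (irreducibleComponents B).Finite) : (irreducibleComponents A).Finite := by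
  refine (hB.image (fun C => e ⁻¹' C)).subset ?_
  intro T hT
  have hTirr : IsIrreducible T := hT.1
  obtain ⟨C, hC, hTC⟩ := exists_mem_irreducibleComponents_subset_of_isIrreducible (e '' T)
    (hTirr.image e he.continuous.continuousOn)
  refine ⟨C, hC, ?_⟩
  have hne : (C ∩ Set.range e).Nonempty := by
    obtain ⟨a, ha⟩ := hTirr.nonempty
    exact ⟨e a, hTC ⟨a, ha, rfl⟩, a, rfl⟩
  have hpre : e ⁻¹' C ∈ irreducibleComponents A := preimage_mem_irreducibleComponents hC he hne
  have hsub : T ⊆ e ⁻¹' C := fun a ha => hTC ⟨a, ha, rfl⟩
  exact (Set.Subset.antisymm hsub (hT.2 hpre.1 hsub)).symm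

/-- For a dense open embedding whose source has finitely many irreducible components, the target is
the union of the closures of their images. -/
theorem iUnion_closure_image_eq_univ {e : A → B} (hd : DenseRange e)
    (hA : (irreducibleComponents A).Finite) :
    ⋃ T ∈ irreducibleComponents A, closure (e '' T) = Set.univ := by
  rw [← hA.closure_biUnion, ← Set.image_iUnion₂, ← Set.sUnion_eq_biUnion,
    sUnion_irreducibleComponents, Set.image_univ]
  exact hd.closure_range

/-- Every irreducible component of the target of a dense open embedding whose source has finitely
many irreducible components is the closure of the image of an irreducible component. -/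
theorem exists_closure_image_eq_of_mem_irreducibleComponents {e : A → B} (he : Continuous e)
    (hd : DenseRange e) (hA : (irreducibleComponents A).Finite) {C : Set B}
    (hC : C ∈ irreducibleComponents B) :
    ∃ T ∈ irreducibleComponents A, closure (e '' T) = C := by
  have hcov := iUnion_closure_image_eq_univ hd hA
  have hCsub : C ⊆ ⋃₀ ((hA.image (fun T => closure (e '' T))).toFinset : Set (Set B)) := by
    rw [Set.Finite.coe_toFinset, Set.sUnion_image, hcov]
    exact Set.subset_univ _
  obtain ⟨Z, hZ, hCZ⟩ := isIrreducible_iff_sUnion_isClosed.mp hC.1 _ (fun Z hZ => by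
    rw [Set.Finite.mem_toFinset] at hZ
    obtain ⟨T, -, rfl⟩ := hZ
    exact isClosed_closure) hCsub
  rw [Set.Finite.mem_toFinset] at hZ
  obtain ⟨T, hT, rfl⟩ := hZ
  refine ⟨T, hT, ?_⟩
  have hirr : IsIrreducible (closure (e '' T)) := (hT.1.image e he.continuousOn).closure
  exact (Set.Subset.antisymm hCZ (hC.2 hirr hCZ)).symm

/-- The target of a dense open embedding whose source has finitely many irreducible components has
finitely many irreducible components. -/
theorem finite_irreducibleComponents_of_denseRange {e : A → B} (he : Continuous e)
    (hd : DenseRange e) (hA : (irreducibleComponents A).Finite) :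
    (irreducibleComponents B).Finite := by
  refine (hA.image (fun T => closure (e '' T))).subset ?_
  intro C hC
  obtain ⟨T, hT, rfl⟩ := exists_closure_image_eq_of_mem_irreducibleComponents he hd hA hC
  exact ⟨T, hT, rfl⟩

/-- Every point of the target of a dense embedding whose (quasi-sober) source has finitely
many irreducible components is a specialization of the image of a generic point. -/
theorem exists_generic_specializes {e : A → B} (he : Continuous e) (hd : DenseRange e)
    [QuasiSober A] (hA : (irreducibleComponents A).Finite) (b : B) :
    ∃ a : A, (∃ T ∈ irreducibleComponents A, IsGenericPoint a T) ∧ e a ⤳ b := by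
  have hb : b ∈ ⋃ T ∈ irreducibleComponents A, closure (e '' T) := by
    rw [iUnion_closure_image_eq_univ hd hA]
    exact Set.mem_univ b
  obtain ⟨T, hT, hbT⟩ := Set.mem_iUnion₂.1 hb
  obtain ⟨a, ha⟩ := QuasiSober.sober hT.1 (isClosed_of_mem_irreducibleComponents T hT)
  refine ⟨a, ⟨T, hT, ha⟩, ?_⟩
  rw [specializes_iff_mem_closure]
  have h1 : e '' T ⊆ closure {e a} := by
    rw [← ha.def]
    refine (image_closure_subset_closure_image he).trans ?_
    rw [Set.image_singleton]
  exact closure_minimal h1 isClosed_closure hbT

end Groth.Agent.H3.Decent
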