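import Groth.Agent.Lib.Helper3.Decent.ReducedFactor
import Groth.Agent.Lib.Helper5.Descent.ImmersionDescent

set_option autoImplicit false
universe u

open CategoryTheory CategoryTheory.Limits AlgebraicGeometry TensorProduct
open AlgSp Topology

namespace Groth.Agent.H3.Decent

open Groth.Agent.H5.AlgSp Groth.Agent.H3.FinQuot Groth.Agent.H5.Descent

variable {S : Scheme.{u}}

/-- **A quasi-compact monomorphism from the spectrum of a field whose point is closed is a closed
immersion.** -/
theorem repWith_isClosedImmersion_of_isClosed_point {X : Sp S} (hX : IsAlgSpace X) {k : Type u}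
    [Field k] (str : Spec (CommRingCat.of k) ⟶ S) (ρ : (yon S).obj (Over.mk str) ⟶ X) [Mono ρ]
    (hq : RepWith @QuasiCompact ρ)
    (hcl : IsClosed ({Points.mk (fpOfHom str ρ)} : Set (Points X))) :
    RepWith @IsClosedImmersion ρ := by
  obtain ⟨V, b, hbe, hbs⟩ := hX.atlas
  let FV : Over S := hq.rep.pullback b
  let g1 : FV ⟶ Over.mk str := hq.rep.fst' b
  let g2 : FV ⟶ V := hq.rep.snd b
  have sqF : IsPullback ((yon S).map g1) ((yon S).map g2) ρ b := hq.rep.isPullback' b
  have hpre : IsPreimmersion g2.left := isPreimmersion_fibre_of_qc_mono str ρ hq b hbe g1 g2 sqF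
  have hrange : Set.range g2.left = Points.ofPt b ⁻¹' {Points.mk (fpOfHom str ρ)} := by
    ext v
    constructor
    · rintro ⟨e, rfl⟩
      rw [Set.mem_preimage, Set.mem_singleton_iff, ← ofPt_yon_map_comp, ← sqF.w,
        ← Points.map_ofPt, points_map_field]
    · intro hv
      obtain ⟨e, he, -⟩ := exists_point_of_isPullback sqF
        (Points.ofScheme (Over.mk str) (IsLocalRing.closedPoint k)) v (by
          rw [points_map_field]; exact hv.symm)
      exact ⟨e, he⟩
  have hclosed : IsClosed (Set.range g2.left) := by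
    rw [hrange]
    exact hcl.preimage (Points.continuous_ofPt b)
  have hci : IsClosedImmersion g2.left := IsClosedImmersion.of_isPreimmersion _ hclosed
  exact repWith_isClosedImmersion_of_baseChange (repWith_mono etale_le_flat hbe)
    (repWith_mono etale_le_lfp hbe) hbs sqF ((repWith_yon_map_iff _ _).2 hci)

/-- The image of a morphism `Spec L ⟶ Z` to a scheme over a field `K`, with `L` integral over
`K`, is a closed point. -/
theorem isClosed_singleton_of_integral_field {K L : Type u} [Field K] [Field L] {Z : Scheme.{u}}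
    (zs : Z ⟶ Spec (CommRingCat.of K)) (m : Spec (CommRingCat.of L) ⟶ Z)
    (ψ : CommRingCat.of K ⟶ CommRingCat.of L) (hm : m ≫ zs = Spec.map ψ) (hψ : ψ.hom.IsIntegral) :
    IsClosed ({m (IsLocalRing.closedPoint L)} : Set ↥Z) := by
  set z := m (IsLocalRing.closedPoint L) with hz
  rw [← closure_subset_iff_isClosed]
  intro z' hz'
  have hspec : z ⤳ z' := specializes_iff_mem_closure.2 hz'
  obtain ⟨_, ⟨(W : Z.Opens), hW, rfl⟩, hz'W, -⟩ := Z.isBasis_affineOpens.exists_subset_of_mem_open
    (Set.mem_univ z') isOpen_univ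
  have hzW : z ∈ W := hspec.mem_open W.2 hz'W
  have hV := isAffineOpen_top (Spec (CommRingCat.of L))
  have hsub : Subsingleton ↥(Spec (CommRingCat.of L)) :=
    inferInstanceAs (Subsingleton (PrimeSpectrum L))
  have hVW : (⊤ : (Spec (CommRingCat.of L)).Opens) ≤ m ⁻¹ᵁ W := by
    intro y _
    have : y = IsLocalRing.closedPoint L := Subsingleton.elim _ _
    change m y ∈ W
    rw [this]
    exact hzW
  have hcomap := IsAffineOpen.comap_primeIdealOf_appLE (f := m) (x := IsLocalRing.closedPoint L)
    W hW ⊤ hV hVW trivial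
  -- the prime of the closed point of `Spec L` is maximal
  have hpmax : (hV.primeIdealOf ⟨IsLocalRing.closedPoint L, trivial⟩).asIdeal.IsMaximal := by
    apply hV.primeIdealOf_isMaximal_of_isClosed
    exact (Set.subsingleton_singleton.isClosed) 
  -- integrality
  have hK := isAffineOpen_top (Spec (CommRingCat.of K))
  have hWK : W ≤ zs ⁻¹ᵁ (⊤ : (Spec (CommRingCat.of K)).Opens) := le_top
  have key : ∀ (g : Spec (CommRingCat.of L) ⟶ Spec (CommRingCat.of K))
      (e : (⊤ : (Spec (CommRingCat.of L)).Opens) ≤ g ⁻¹ᵁ ⊤), g = Spec.map ψ →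
      (g.appLE ⊤ ⊤ e).hom.IsIntegral := by
    rintro g e rfl
    have h1 : (Spec.map ψ).appLE ⊤ ⊤ e = (Spec.map ψ).appTop := by
      simp [Scheme.Hom.appLE]
    have h2 : (Spec.map ψ).appTop = (Scheme.ΓSpecIso _).hom ≫ ψ ≫ (Scheme.ΓSpecIso _).inv := by
      rw [← Scheme.ΓSpecIso_naturality_assoc, Iso.hom_inv_id, Category.comp_id]
    rw [h1, h2]
    simp only [CommRingCat.hom_comp]
    refine RingHom.IsIntegral.trans _ _ ?_ (RingHom.IsIntegral.trans _ _ hψ ?_)
    · exact RingHom.isIntegral_of_surjective _
        (ConcreteCategory.bijective_of_isIso (Scheme.ΓSpecIso (CommRingCat.of K)).hom).surjective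
    · exact RingHom.isIntegral_of_surjective _
        (ConcreteCategory.bijective_of_isIso (Scheme.ΓSpecIso (CommRingCat.of L)).inv).surjective
  have hint : (m.appLE W ⊤ hVW).hom.IsIntegral := by
    have h1 := key (m ≫ zs) (hVW.trans ((TopologicalSpace.Opens.map m.base).map
      (homOfLE hWK)).le) hm
    rw [← Scheme.Hom.appLE_comp_appLE m zs ⊤ W ⊤ hWK hVW, CommRingCat.hom_comp] at h1
    exact RingHom.IsIntegral.tower_top _ _ h1
  have hzmax : (hW.primeIdealOf ⟨z, hzW⟩).asIdeal.IsMaximal := by
    rw [← hcomap]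
    exact Ideal.isMaximal_comap_of_isIntegral_of_isMaximal' _ hint _
  have hle : hW.primeIdealOf ⟨z, hzW⟩ ≤ hW.primeIdealOf ⟨z', hz'W⟩ := by
    rw [PrimeSpectrum.le_iff_specializes]
    have h1 : (⟨z, hzW⟩ : ↥W) ⤳ ⟨z', hz'W⟩ := (subtype_specializes_iff _ _).2 hspec
    exact h1.map hW.isoSpec.hom.continuous
  have heq : hW.primeIdealOf ⟨z, hzW⟩ = hW.primeIdealOf ⟨z', hz'W⟩ := by
    apply PrimeSpectrum.ext
    exact hzmax.eq_of_le (hW.primeIdealOf ⟨z', hz'W⟩).isPrime.ne_top hle
  have hinj : Function.Injective hW.primeIdealOf := by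
    intro a b hab
    have h1 := congrArg hW.isoSpec.inv hab
    simp only [IsAffineOpen.primeIdealOf, ← Scheme.Hom.comp_apply, Iso.hom_inv_id] at h1
    exact h1
  exact (congrArg Subtype.val (hinj heq)).symm

/-- **On a decent space, a point defined over a field algebraic over the residue field of a closed
point of the base is closed.** -/
theorem isClosed_point_of_integral_over_closed {X : Sp S} (hX : IsAlgSpace X) (hXd : IsDecent X)
    (s : ↥S) (hs : IsClosed ({s} : Set ↥S)) (k : Type u) [Field k]
    (φ : S.residueField s ⟶ CommRingCat.of k) (hφ : φ.hom.IsIntegral)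
    (p : (yon S).obj (Over.mk (Spec.map φ ≫ S.fromSpecResidueField s)) ⟶ X)
    (t : ↥(Spec (CommRingCat.of k))) :
    IsClosed ({Points.ofPt p t} : Set (Points X)) := by
  set x := Points.ofPt p t with hx
  rw [← closure_subset_iff_isClosed]
  intro y hy
  have hxy : x ⤳ y := specializes_iff_mem_closure.2 hy
  obtain ⟨U, a, hae, has⟩ := hX.atlas
  obtain ⟨u0, hu0⟩ := ofPt_surjective_of_repWith has y
  obtain ⟨u, hu, hux⟩ := exists_specializes_ofPt_of_fieldPt hxy (hXd x) a hae u0 hu0
  -- the fibre product
  have hrep : Representable p := hX.representable_from_yon p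
  let E : Over S := hrep.pullback a
  let e1 : E ⟶ Over.mk (Spec.map φ ≫ S.fromSpecResidueField s) := hrep.fst' a
  let e2 : E ⟶ U := hrep.snd a
  have sqE : IsPullback ((yon S).map e1) ((yon S).map e2) p a := hrep.isPullback' a
  have he1 : Etale e1.left := by
    have := (RepWith @Etale).of_isPullback sqE.flip hae
    exact (repWith_yon_map_iff @Etale e1).1 this
  obtain ⟨w, hw2, -⟩ := exists_point_of_isPullback sqE (Points.ofScheme _ t) u (by
    rw [← Points.ofPt_eq_map_ofScheme]; exact hux.symm)
  obtain ⟨L, hL, c, hc, ⟨z, hz⟩⟩ := exists_field_chart_of_etale_field e1.left w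
  have hzc : z = IsLocalRing.closedPoint L := Subsingleton.elim (α := PrimeSpectrum L) _ _
  -- the field extension
  have hce : Etale (c ≫ e1.left) := inferInstance
  have hcf : IsFinite (c ≫ e1.left) := isFinite_of_etale_fields (c ≫ e1.left)
  obtain ⟨θ, hθ⟩ : ∃ θ : CommRingCat.of k ⟶ CommRingCat.of L, Spec.map θ = c ≫ e1.left :=
    ⟨Spec.preimage _, Spec.map_preimage _⟩
  have hθint : θ.hom.IsIntegral := by
    rw [← hθ, IsFinite.SpecMap_iff] at hcf
    exact hcf.to_isIntegral
  -- the fibre
  have w' : (c ≫ e2.left) ≫ U.hom = (c ≫ e1.left ≫ Spec.map φ) ≫ S.fromSpecResidueField s := by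
    have h1 : e2.left ≫ U.hom = E.hom := Over.w e2
    have h2 : e1.left ≫ (Spec.map φ ≫ S.fromSpecResidueField s) = E.hom := Over.w e1
    simp only [Category.assoc]
    rw [h1, h2]
  let m : Spec (CommRingCat.of L) ⟶ U.hom.fiber s := pullback.lift _ _ w'
  have hm1 : m ≫ U.hom.fiberι s = c ≫ e2.left := pullback.lift_fst _ _ _
  have hm2 : m ≫ U.hom.fiberToSpecResidueField s = Spec.map (φ ≫ θ) := by
    rw [Spec.map_comp, hθ, Category.assoc]
    exact pullback.lift_snd _ _ _
  have hcl := isClosed_singleton_of_integral_field (K := ↑(S.residueField s))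
    (U.hom.fiberToSpecResidueField s) m (φ ≫ θ) hm2 (by
      rw [CommRingCat.hom_comp]; exact RingHom.IsIntegral.trans _ _ hφ hθint)
  set ū := m (IsLocalRing.closedPoint L) with hū
  have hιū : U.hom.fiberι s ū = u := by
    rw [hū, ← Scheme.Hom.comp_apply, hm1, Scheme.Hom.comp_apply, ← hzc, hz, hw2]
  have hπu : U.hom u = s := by
    have : u ∈ Set.range (U.hom.fiberι s) := ⟨ū, hιū⟩
    rw [Scheme.Hom.range_fiberι] at this
    exact this
  have hπu0 : U.hom u0 = s := by
    have h1 : U.hom u ⤳ U.hom u0 := hu.map U.hom.continuous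
    rw [hπu] at h1
    have h2 : U.hom u0 ∈ closure ({s} : Set ↥S) := specializes_iff_mem_closure.1 h1
    rw [hs.closure_eq] at h2
    exact h2
  obtain ⟨ū0, hū0⟩ : u0 ∈ Set.range (U.hom.fiberι s) := by
    rw [Scheme.Hom.range_fiberι]; exact hπu0
  have hspec : ū ⤳ ū0 := by
    rw [← (U.hom.fiberι s).isEmbedding.isInducing.specializes_iff, hιū, hū0]
    exact hu
  have h3 : ū0 ∈ closure ({ū} : Set _) := specializes_iff_mem_closure.1 hspec
  rw [hcl.closure_eq] at h3
  have h4 : u0 = u := by rw [← hū0, h3, hιū]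
  change y = x
  rw [← hu0, h4, hux]

/-- The sheaf of a reduced scheme is a reduced space. -/
lemma isReducedSp_yon (T : Over S) [IsReduced T.left] : IsReducedSp ((yon S).obj T) :=
  ⟨T, 𝟙 _, repWith_id _ T, repWith_id _ T, ‹_›⟩

/-- **On a decent space, a morphism from the spectrum of a field finite over the residue field of
a closed point of the base is finite, and a closed immersion if the field is the residue field.** -/
theorem repWith_isFinite_fieldPt_of_finite_over_closed {X : Sp S} (hX : IsAlgSpace X)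
    (hXd : IsDecent X) (s : ↥S) (hs : IsClosed ({s} : Set ↥S)) (k : Type u) [Field k]
    (φ : S.residueField s ⟶ CommRingCat.of k) (hφ : φ.hom.Finite)
    (p : (yon S).obj (Over.mk (Spec.map φ ≫ S.fromSpecResidueField s)) ⟶ X) :
    RepWith @IsFinite p ∧ (Function.Bijective φ.hom → RepWith @IsClosedImmersion p) := by
  have hcl := isClosed_point_of_integral_over_closed hX hXd s hs k φ hφ.to_isIntegral p
    (IsLocalRing.closedPoint k)
  rw [ofPt_closedPoint] at hcl
  obtain ⟨kx, hkx, strx, ρ, hρ, hm, hq⟩ := isDecent_iff.1 hXd (Points.mk (fpOfHom (Spec.map φ ≫ S.fromSpecResidueField s) p))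
  have hρcl : RepWith @IsClosedImmersion ρ := by
    apply repWith_isClosedImmersion_of_isClosed_point hX strx ρ hq
    rw [hρ]; exact hcl
  have hred : IsReduced (Over.mk (Spec.map φ ≫ S.fromSpecResidueField s)).left :=
    inferInstanceAs (IsReduced (Spec (CommRingCat.of k)))
  obtain ⟨g, hg⟩ := exists_factor_qc_mono_point_of_reduced (IsAlgSpace.yon_obj _) hX p strx ρ hq
    (isReducedSp_yon _) (fun y => by rw [points_map_field, hρ])
  obtain ⟨γ, rfl⟩ := (yon S).map_surjective g
  obtain ⟨θ, hθ⟩ : ∃ θ : CommRingCat.of kx ⟶ CommRingCat.of k, Spec.map θ = γ.left :=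
    ⟨Spec.preimage _, Spec.map_preimage _⟩
  have hγw : Spec.map θ ≫ strx = Spec.map φ ≫ S.fromSpecResidueField s := by
    rw [hθ]; exact Over.w γ
  -- the image point
  set s' := strx (IsLocalRing.closedPoint kx) with hs'
  have hss' : s' = s := by
    have h1 := congrArg (fun f : Spec (CommRingCat.of k) ⟶ S => f (IsLocalRing.closedPoint k)) hγw
    simp only [Scheme.Hom.comp_apply, Scheme.fromSpecResidueField_apply] at h1
    rw [← h1, hs']
    congr 1
    exact Subsingleton.elim (α := PrimeSpectrum kx) _ _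
  have hfac := Scheme.descResidueField_stalkClosedPointTo_fromSpecResidueField kx S strx
  set φ' := Scheme.descResidueField (Scheme.stalkClosedPointTo strx) with hφ'
  have hcongr := S.residueFieldCongr_fromSpecResidueField hss'
  have hcomp : φ' ≫ θ = (S.residueFieldCongr hss').hom ≫ φ := by
    apply Spec.map_injective
    rw [← cancel_mono (S.fromSpecResidueField s'), Spec.map_comp, Spec.map_comp, Category.assoc,
      Category.assoc, hfac, hcongr, hγw]
  have hθfin : θ.hom.Finite := by
    have h1 : (φ' ≫ θ).hom.Finite := by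
      rw [hcomp, CommRingCat.hom_comp]
      exact hφ.comp (RingHom.Finite.of_surjective _
        (ConcreteCategory.bijective_of_isIso (S.residueFieldCongr hss').hom).surjective)
    rw [CommRingCat.hom_comp] at h1
    exact RingHom.Finite.of_comp_finite h1
  have hγfin : IsFinite γ.left := by rw [← hθ, IsFinite.SpecMap_iff]; exact hθfin
  have hρfin : RepWith @IsFinite ρ :=
    repWith_mono (fun _ _ f hf => by
      have : IsClosedImmersion f := hf
      exact (inferInstance : IsFinite f)) hρcl
  refine ⟨?_, fun hbij => ?_⟩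
  · rw [← hg]
    exact MorphismProperty.comp_mem _ _ _ ((repWith_yon_map_iff _ _).2 hγfin) hρfin
  · have hθbij : Function.Bijective θ.hom := by
      refine ⟨θ.hom.injective, ?_⟩
      have h1 : Function.Surjective (φ' ≫ θ).hom := by
        rw [hcomp, CommRingCat.hom_comp]
        exact hbij.surjective.comp
          (ConcreteCategory.bijective_of_isIso (S.residueFieldCongr hss').hom).surjective
      rw [CommRingCat.hom_comp] at h1
      exact Function.Surjective.of_comp h1
    have hθiso : IsIso θ := by
      rw [ConcreteCategory.isIso_iff_bijective]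
      exact hθbij
    have hγiso : IsIso γ.left := by rw [← hθ]; infer_instance
    have hγci : IsClosedImmersion γ.left := inferInstance
    rw [← hg]
    exact MorphismProperty.comp_mem _ _ _ ((repWith_yon_map_iff _ _).2 hγci) hρcl

end Groth.Agent.H3.Decent
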