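import Groth.Agent.Lib.Helper3.Decent.OpenSubscheme

/-!
# Points of locally constant degree lie in the schematic locus (helper3)
-/

set_option autoImplicit false
set_option linter.unusedSectionVars false
universe u

open CategoryTheory CategoryTheory.Limits AlgebraicGeometry TensorProduct
open AlgSp

namespace Groth.Agent.H3.Decent

open Groth.Agent.H5.AlgSp Groth.Agent.H3.FinQuot Groth.Agent.H3.EtaleDeg

variable {S : Scheme.{u}}

/-- **Constant degree implies schematic.**  Let `p : Spec A ⟶ X` be an étale chart with kernel pair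
`s, t : R ⟶ Spec A`, `s` separated.  If on a basic open `D(g₀)` the degree of `s` is constantly `n`
then every point of `D(g₀)` with finite orbit maps into the schematic locus of `X`. -/
theorem mem_schematicSet_of_constant_degree {X : Sp S}
    {A : CommRingCat.{u}} (str : Spec A ⟶ S) (p : (yon S).obj (Over.mk str) ⟶ X)
    (hp : RepWith @Etale p) {R : Over S} (s t : R ⟶ Over.mk str)
    (sq : IsPullback ((yon S).map t) ((yon S).map s) p p)
    (n : ℕ) (g₀ : A)
    (hle : ∀ v : PrimeSpectrum A, v ∈ PrimeSpectrum.basicOpen g₀ → specPt v ∈ degGE s.left n)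
    (hdisj : ∀ v : PrimeSpectrum A, v ∈ PrimeSpectrum.basicOpen g₀ →
      specPt v ∉ degGE s.left (n + 1))
    (u₁ : PrimeSpectrum A) (hu₁ : u₁ ∈ PrimeSpectrum.basicOpen g₀)
    (hOfin : (Points.ofPt p ⁻¹' {Points.ofPt p (specPt u₁)}).Finite) :
    Points.ofPt p (specPt u₁) ∈ schematicSet X := by
  classical
  have hse : Etale s.left := hp.property p _ s sq
  have hUaff : IsAffine (Over.mk str).left := (inferInstance : IsAffine (Spec A))
  have hstr : IsSeparated (Over.mk str).hom := (inferInstance : IsSeparated str)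
  have hsep : IsSeparated s.left := isSeparated_snd_of_kernelPair p s t sq
  -- the saturation of `D(g₀)`
  let U' : Set (PrimeSpectrum A) :=
    {q | ∃ v : PrimeSpectrum A, v ∈ PrimeSpectrum.basicOpen g₀ ∧
      Points.ofPt p (specPt q) = Points.ofPt p (specPt v)}
  have hU'open : IsOpen U' := by
    have h1 : IsOpen (Points.ofPt p '' ((PrimeSpectrum.basicOpen g₀ : Set (PrimeSpectrum A)) :
        Set ↥(Spec A))) :=
      isOpenMap_ofPt_of_etale hp _ (PrimeSpectrum.basicOpen g₀).2
    have h2 := h1.preimage (Points.continuous_ofPt p)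
    have h3 : U' = Points.ofPt p ⁻¹' (Points.ofPt p ''
        ((PrimeSpectrum.basicOpen g₀ : Set (PrimeSpectrum A)) : Set ↥(Spec A))) := by
      apply Set.ext
      intro q
      constructor
      · rintro ⟨v, hv, hqv⟩
        exact ⟨v, hv, hqv.symm⟩
      · rintro ⟨v, hv, hqv⟩
        exact ⟨v, hv, hqv.symm⟩
    rw [h3]
    exact h2
  have hU'deg : ∀ q ∈ U', specPt q ∈ degGE s.left n ∧ specPt q ∉ degGE s.left (n + 1) := by
    rintro q ⟨v, hv, hqv⟩
    rw [degGE_iff_of_ofPt_eq p s t sq n hqv, degGE_iff_of_ofPt_eq p s t sq (n + 1) hqv]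
    exact ⟨hle v hv, hdisj v hv⟩
  obtain ⟨I, hI⟩ := (PrimeSpectrum.isClosed_iff_zeroLocus_ideal _).1 hU'open.isClosed_compl
  have hIU' : ∀ q : PrimeSpectrum A, ¬ (I ≤ q.asIdeal) → q ∈ U' := by
    intro q hq
    by_contra hno
    have : q ∈ U'ᶜ := hno
    rw [hI] at this
    exact hq this
  have hO : ∀ q ∈ hOfin.toFinset, ¬ (I ≤ q.asIdeal) := by
    intro q hq hle'
    have hq' : Points.ofPt p (specPt q) = Points.ofPt p (specPt u₁) :=
      (Set.Finite.mem_toFinset hOfin).1 hq
    have : q ∈ PrimeSpectrum.zeroLocus (I : Set A) := hle'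
    rw [← hI] at this
    exact this ⟨u₁, hu₁, hq'⟩
  obtain ⟨g, hgI, hgO⟩ := exists_mem_forall_notMem I hOfin.toFinset hO
  have hDg : ∀ q : PrimeSpectrum A, g ∉ q.asIdeal → q ∈ U' := fun q hq =>
    hIU' q (fun hle' => hq (hle' hgI))
  -- finiteness over `D(g)`
  have hpb : IsPullback (pullback.fst s (jg str g)) (pullback.snd s (jg str g)) s (jg str g) :=
    IsPullback.of_hasPullback _ _
  have hpb' : IsPullback (pullback.fst s (jg str g)).left (pullback.snd s (jg str g)).left s.left
      (jg str g).left := hpb.map (Over.forget S)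
  have hπe : Etale (pullback.snd s (jg str g)).left :=
    MorphismProperty.of_isPullback (P := @Etale) hpb' hse
  have hπs : IsSeparated (pullback.snd s (jg str g)).left :=
    MorphismProperty.of_isPullback (P := @IsSeparated) hpb' hsep
  have hjg : ∀ z : ↥(Ug str g).left, primePt (B := A) ((jg str g).left z) ∈ U' := by
    intro z
    apply hDg
    change g ∉ (PrimeSpectrum.comap (algebraMap A (Localization.Away g)) (primePt z)).asIdeal
    intro hmem
    have hu : IsUnit (algebraMap A (Localization.Away g) g) :=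
      IsLocalization.Away.algebraMap_isUnit g
    exact (primePt z).2.ne_top (Ideal.eq_top_of_isUnit_mem _ hmem hu)
  have h1 : degGE (pullback.snd s (jg str g)).left n = Set.univ := by
    rw [Set.eq_univ_iff_forall]
    intro z
    rw [mem_degGE_iff_of_isPullback hpb' n z]
    exact (hU'deg _ (hjg z)).1
  have h2 : degGE (pullback.snd s (jg str g)).left (n + 1) = ∅ := by
    rw [Set.eq_empty_iff_forall_notMem]
    intro z
    rw [mem_degGE_iff_of_isPullback hpb' (n + 1) z]
    exact (hU'deg _ (hjg z)).2
  have hfin : IsFinite (pullback.snd s (jg str g)).left := isFinite_of_degGE n _ h1 h2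
  apply mem_schematicSet_of_finite_over_basicOpen str p hp s t sq g _ _ hpb hfin u₁
  intro u' hu'
  exact hgO u' ((Set.Finite.mem_toFinset hOfin).2 hu')

end Groth.Agent.H3.Decent
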