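import Groth.Agent.Lib.Helper3.Decent.QCPoint

set_option autoImplicit false
universe u

open CategoryTheory CategoryTheory.Limits AlgebraicGeometry TensorProduct
open AlgSp

namespace Groth.Agent.H3.Decent

open Groth.Agent.H5.AlgSp

variable {S : Scheme.{u}}

/-- A morphism is decent if its base changes to affine schemes have decent source. -/
theorem isDecentMor_of_forall_affine {X Y : Sp S} (hX : IsAlgSpace X) (hY : IsAlgSpace Y)
    (f : X ⟶ Y)
    (h : ∀ (Z : Over S) (g : (yon S).obj Z ⟶ Y) (P : Sp S) (fst : P ⟶ X)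
      (snd : P ⟶ (yon S).obj Z), IsAffine Z.left → IsPullback fst snd f g → IsDecent P) :
    IsDecentMor f := by
  intro T F' g fst snd sq
  have hF' : IsAlgSpace F' := isAlgSpace_pullback hY.diag hX (IsAlgSpace.yon_obj T) sq
  let Xi : T.left.affineOpens → Sp S := fun W => pullback snd ((yon S).map (overOpenι T W.1))
  have sqW : ∀ W : T.left.affineOpens, IsPullback (pullback.fst snd ((yon S).map (overOpenι T W.1)))
      (pullback.snd snd ((yon S).map (overOpenι T W.1))) snd ((yon S).map (overOpenι T W.1)) :=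
    fun W => IsPullback.of_hasPullback _ _
  refine isDecent_of_zarCover hF' Xi (fun W => ?_) (fun W => pullback.fst _ _) (fun W => ?_)
    (fun x => ?_) (fun W => ?_)
  · exact isAlgSpace_pullback (IsAlgSpace.yon_obj T).diag hF' (IsAlgSpace.yon_obj _) (sqW W)
  · exact MorphismProperty.of_isPullback (P := RepWith @IsOpenImmersion) (sqW W).flip
      (repWith_overOpenι @IsOpenImmersion (fun _ _ => inferInstance) T W.1)
  · obtain ⟨t, ht⟩ := ofScheme_surjective T (Points.map snd x)
    obtain ⟨_, ⟨W, hW, rfl⟩, htW, -⟩ := T.left.isBasis_affineOpens.exists_subset_of_mem_open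
      (Set.mem_univ t) isOpen_univ
    refine ⟨⟨W, hW⟩, ?_⟩
    rw [range_points_map_fst (sqW ⟨W, hW⟩)]
    refine ⟨Points.ofScheme _ ⟨t, htW⟩, ?_⟩
    rw [← Points.ofPt_eq_map_ofScheme, ← Category.comp_id ((yon S).map (overOpenι T W)),
      ofPt_yon_map_comp, Points.ofPt_eq_map_ofScheme, Points.map_id, ← ht]
    congr 1
  · exact h (overOpen T W.1) _ _ _ _ W.2 ((sqW W).paste_horiz sq)

end Groth.Agent.H3.Decent
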