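import Groth.Agent.Lib.Helper3.FinQuot.EtaleField
import Groth.Agent.Lib.Helper5.AlgSp.Decent
import Groth.Agent.Lib.Helper5.AlgSp.EtaleMor
import Groth.Agent.Lib.Helper5.AlgSp.LocPCalc
import Groth.Agent.Lib.Helper5.AlgSp.FibreProduct

set_option autoImplicit false
universe u

open CategoryTheory CategoryTheory.Limits AlgebraicGeometry TensorProduct
open AlgSp

namespace Groth.Agent.H3.Decent

open Groth.Agent.H5.AlgSp Groth.Agent.H3.FinQuot

variable {S : Scheme.{u}} {F G : Sp S}

/-- A scheme is decent. -/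
theorem isDecent_yon (M : Over S) : IsDecent ((yon S).obj M) := by
  rw [isDecent_iff]
  intro x
  obtain ⟨m, rfl⟩ := ofScheme_surjective M x
  refine ⟨↥(M.left.residueField m), inferInstance, M.left.fromSpecResidueField m ≫ M.hom,
    (yon S).map (Over.homMk (M.left.fromSpecResidueField m) rfl), ?_, ?_, ?_⟩
  · have := ofPt_eq_mk (𝟙 ((yon S).obj M)) m
    rw [Category.comp_id] at this
    rw [← this, Points.ofPt_eq_map_ofScheme, Points.map_id]
  · have : Mono (Over.homMk (M.left.fromSpecResidueField m) rfl :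
        Over.mk (M.left.fromSpecResidueField m ≫ M.hom) ⟶ M) := by
      have : Mono (Over.homMk (M.left.fromSpecResidueField m) rfl :
        Over.mk (M.left.fromSpecResidueField m ≫ M.hom) ⟶ M).left :=
        inferInstanceAs (Mono (M.left.fromSpecResidueField m))
      exact mono_of_mono_left _
    exact mono_yon_map_of_mono _
  · exact (repWith_yon_map_iff _ _).2 (quasiCompact_of_field (M.left.fromSpecResidueField m))

/-- a representable sheaf is decent -/
theorem isDecent_of_isRepresentable (h : F.obj.IsRepresentable) : IsDecent F := by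
  obtain ⟨M, ⟨e⟩⟩ := h
  exact (isDecent_yon M).of_iso (isoOfRepresentableBy e)

/-- Etale morphisms are stable under base change. -/
theorem isEtaleMor_of_isPullback {F' G' : Sp S} {f : F ⟶ G} {g : G' ⟶ G} {fst : F' ⟶ F}
    {f' : F' ⟶ G'} (sq : IsPullback fst f' f g) (hF : IsAlgSpace F) (hG : IsAlgSpace G)
    (hG' : IsAlgSpace G') (hf : IsEtaleMor f) : IsEtaleMor f' :=
  isEtaleMor_of_locP_etale hG'
    (locP_of_isPullback le_rfl sq hF hG hG' (locP_etale_of_isEtaleMor hf))

/-- **An algebraic space etale over a decent space is decent.** -/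
theorem isDecent_of_isEtaleMor {f : F ⟶ G} (hF : IsAlgSpace F) (hG : IsAlgSpace G)
    (hf : IsEtaleMor f) (hGd : IsDecent G) : IsDecent F := by
  have hG' := isDecent_iff.1 hGd
  rw [isDecent_iff]
  intro x
  obtain ⟨K, _, str, η, hη, hmono, hqc⟩ := hG' (Points.map f x)
  have sqP := IsPullback.of_hasPullback f η
  have hPalg : IsAlgSpace (pullback f η) := isAlgSpace_pullback hG.diag hF (IsAlgSpace.yon_obj _) sqP
  have hsnd : IsEtaleMor (pullback.snd f η) :=
    isEtaleMor_of_isPullback sqP hF hG (IsAlgSpace.yon_obj _) hf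
  have hP : IsDecent (pullback f η) :=
    isDecent_of_isRepresentable (isRepresentable_of_isEtaleMor_to_field hPalg K str _ hsnd)
  obtain ⟨z, hz, -⟩ := points_pullback_surjective sqP x (Points.mk (fpOfHom str (𝟙 _))) (by
    rw [map_mk_fpOfHom, Category.id_comp, hη])
  obtain ⟨K', _, str', ξ, hξ, hm, hq⟩ := isDecent_iff.1 hP z
  have hm1 : Mono (pullback.fst f η) := sqP.flip.mono_snd_of_mono
  have hq1 : RepWith @QuasiCompact (pullback.fst f η) :=
    MorphismProperty.of_isPullback (P := RepWith @QuasiCompact) sqP.flip hqc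
  refine ⟨K', inferInstance, str', ξ ≫ pullback.fst f η, ?_, mono_comp _ _,
    MorphismProperty.comp_mem _ _ _ hq hq1⟩
  rw [← map_mk_fpOfHom, hξ, hz]

end Groth.Agent.H3.Decent
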