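import Groth.Agent.Lib.Helper3.Decent.OpenSubscheme
import Groth.Agent.Lib.Helper5.AlgSp.RedInduced
import Groth.Agent.Lib.Helper5.AlgSp.ImmersionTop

set_option autoImplicit false
set_option linter.unusedSectionVars false
universe u

open CategoryTheory CategoryTheory.Limits AlgebraicGeometry Topology
open AlgSp

namespace Groth.Agent.H3.Decent

open Groth.Agent.H5.AlgSp

variable {S : Scheme.{u}}

lemma isClosedImmersion_le_isImmersion :
    (@IsClosedImmersion : MorphismProperty Scheme.{u}) ≤ @IsImmersion := fun _ _ f hf => by
  have : IsClosedImmersion f := hf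
  exact (inferInstance : IsImmersion f)

lemma isOpenImmersion_le_isImmersion :
    (@IsOpenImmersion : MorphismProperty Scheme.{u}) ≤ @IsImmersion := fun _ _ f hf => by
  have : IsOpenImmersion f := hf
  exact (inferInstance : IsImmersion f)

/-- an open immersion from a scheme induces an open embedding on points -/
theorem isOpenEmbedding_ofPt_of_isOpenImmersion {Z : Sp S} (hZ : IsAlgSpace Z) {T : Over S}
    (j : (yon S).obj T ⟶ Z) (hj : RepWith @IsOpenImmersion j) : IsOpenEmbedding (Points.ofPt j) := by
  obtain ⟨V, p, hpe, hps⟩ := hZ.atlas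
  have h1 := (isEmbedding_points_map_of_isImmersion j
    (repWith_mono isOpenImmersion_le_isImmersion hj) hpe hps).1
  have h2 : Points.ofPt j = Points.map j ∘ Points.schemeHomeo T := by
    funext t
    exact Points.ofPt_eq_map_ofScheme j t
  have h3 : IsEmbedding (Points.ofPt j) := by
    rw [h2]
    exact h1.comp (Points.schemeHomeo T).isEmbedding
  exact IsOpenEmbedding.of_isEmbedding_isOpenMap h3
    (isOpenMap_ofPt_of_etale (repWith_mono isOpenImmersion_le_etale hj))

/-- **The space of points of a decent algebraic space is quasi-sober.** -/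
theorem quasiSober_points_of_isDecent {X : Sp S} (hX : IsAlgSpace X) (hd : IsDecent X) :
    QuasiSober (Points X) := by
  refine ⟨fun {T} hTirr hTcl => ?_⟩
  obtain ⟨Z, i, hZ, hcl, hrange, -⟩ := exists_isRedInduced hX T hTcl
  have hdZ : IsDecent Z := isDecent_of_representable hcl.rep hd
  obtain ⟨V, p, hpe, hps⟩ := hX.atlas
  have hemb : IsEmbedding (Points.map i) :=
    (isEmbedding_points_map_of_isImmersion i
      (repWith_mono isClosedImmersion_le_isImmersion hcl) hpe hps).1
  -- `|Z|` is irreducible
  have hirrR : IrreducibleSpace (Set.range (Points.map i)) := by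
    rw [hrange]
    exact Subtype.irreducibleSpace hTirr
  have hirrZ : IrreducibleSpace (Points Z) :=
    (hemb.toHomeomorph.irreducibleSpace_iff).2 hirrR
  have hneZ : Nonempty (Points Z) := hirrZ.toNonempty
  obtain ⟨z₀, T₀, j, hj, t₀, rfl⟩ := nonempty_schematicSet_of_isDecent hZ hdZ
  have hoe := isOpenEmbedding_ofPt_of_isOpenImmersion hZ j hj
  have hneT : Nonempty ↥T₀.left := ⟨t₀⟩
  have hirrT : IrreducibleSpace ↥T₀.left := hoe.irreducibleSpace
  let η : ↥T₀.left := genericPoint ↥T₀.left
  have hη : closure ({η} : Set ↥T₀.left) = Set.univ := (genericPoint_spec ↥T₀.left).def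
  refine ⟨Points.map i (Points.ofPt j η), ?_⟩
  change closure {Points.map i (Points.ofPt j η)} = T
  apply subset_antisymm
  · apply closure_minimal _ hTcl
    rw [Set.singleton_subset_iff, ← hrange]
    exact ⟨_, rfl⟩
  · -- `T ⊆ closure {ξ}`
    have hW₀ : Dense (Set.range (Points.ofPt j)) :=
      hoe.isOpen_range.dense ⟨_, ⟨t₀, rfl⟩⟩
    have h1 : Set.range (Points.ofPt j) ⊆ closure {Points.ofPt j η} := by
      rw [← Set.image_univ, ← hη, ← Set.image_singleton]
      exact image_closure_subset_closure_image (Points.continuous_ofPt j)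
    have h2 : (Set.univ : Set (Points Z)) ⊆ closure {Points.ofPt j η} := by
      rw [← hW₀.closure_eq]
      exact closure_minimal h1 isClosed_closure
    rw [← hrange, ← Set.image_univ]
    refine (Set.image_mono h2).trans ?_
    have h3 := image_closure_subset_closure_image (s := {Points.ofPt j η})
      (Points.continuous_map i)
    rw [Set.image_singleton] at h3
    exact h3

end Groth.Agent.H3.Decent
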