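import Mathlib
import Groth.Agent.Lib.Helper3.Decent.Sober
import Groth.Agent.Lib.Helper3.AlgSpMor.Codim0
import Groth.Agent.Lib.Helper3.AlgSpProp.HasAt
import Groth.Agent.Lib.Helper5.AlgSp.DecentT0
import Groth.Agent.Lib.Helper5.AlgSp.PointsTop
import Groth.Agent.Lib.Helper3.Decent.Etale

set_option autoImplicit false
set_option linter.unusedSectionVars false

universe u

open CategoryTheory CategoryTheory.Limits AlgebraicGeometry MorphismProperty Opposite Topology Order
open TopologicalSpace

namespace Groth.Agent.H3.Decent

open _root_.AlgSp Groth.Agent.H5.AlgSp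

variable {S : Scheme.{u}}

/-! ### Topological lemmas on generic points of irreducible components -/

/-- In a quasi-sober space, a point without nontrivial generizations is the generic point of its
irreducible component. -/
theorem isGenericPoint_irreducibleComponent_of_forall_specializes {X : Type*} [TopologicalSpace X]
    [QuasiSober X] (x : X) (h : ∀ x' : X, x' ⤳ x → x' = x) :
    IsGenericPoint x (irreducibleComponent x) := by
  obtain ⟨ξ, hξ⟩ := QuasiSober.sober (isIrreducible_irreducibleComponent (x := x))
    isClosed_irreducibleComponent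
  have h1 : ξ ⤳ x := by
    rw [specializes_iff_mem_closure, hξ.def]
    exact mem_irreducibleComponent
  have h2 := h ξ h1
  subst h2
  exact hξ

/-- In a `T0` space, the generic point of an irreducible component has no nontrivial
generizations. -/
theorem eq_of_specializes_of_isGenericPoint_component {X : Type*} [TopologicalSpace X]
    [T0Space X] {x x' : X} {T : Set X} (hT : T ∈ irreducibleComponents X)
    (hx : IsGenericPoint x T) (h : x' ⤳ x) : x' = x := by
  have h1 : T ⊆ closure {x'} := by
    rw [← hx.def]
    exact (specializes_iff_closure_subset.1 h)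
  have h2 : IsIrreducible (closure ({x'} : Set X)) := isIrreducible_singleton.closure
  have h3 : closure ({x'} : Set X) ⊆ T := hT.2 h2 h1
  have h4 : closure ({x'} : Set X) = T := le_antisymm h3 h1
  have h5 : IsGenericPoint x' T := h4
  exact (h5.inseparable hx).eq

/-! ### Points of codimension zero on decent spaces -/

/-- A point of codimension `0` in an étale chart of a decent space has no nontrivial generizations
in `|F|`. -/
theorem eq_of_specializes_of_dim_zero {F : Sp S} (hF : IsDecent F) {U : Over S}
    (a : (yon S).obj U ⟶ F) (ha : RepWith @Etale a) (u : ↥U.left)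
    (hu : ringKrullDim ↥(U.left.presheaf.stalk u) = 0) {x' : Points F}
    (h : x' ⤳ Points.ofPt a u) : x' = Points.ofPt a u := by
  obtain ⟨u', hu', rfl⟩ := exists_specializes_ofPt_of_fieldPt h (hF x') a ha u rfl
  rw [ringKrullDim_stalk_eq_coheight] at hu
  have h0 : coheight u = 0 := by exact_mod_cast hu
  rw [coheight_eq_zero] at h0
  have h1 : u ⤳ u' := h0 (show u ≤ u' from hu')
  rw [(h1.antisymm hu').eq]

/-- **Generic points of irreducible components of a decent algebraic space are the points of
codimension zero.** -/
theorem isGenericPoint_component_iff_codimZero {F : Sp S} (hX : IsAlgSpace F) (hF : IsDecent F)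
    (x : Points F) :
    (∃ T ∈ irreducibleComponents (Points F), IsGenericPoint x T) ↔
      HasAt (fun U u => ringKrullDim ↥(U.presheaf.stalk u) = 0) F x := by
  have : T0Space (Points F) := t0Space_points_of_isDecent hX hF
  have : QuasiSober (Points F) := quasiSober_points_of_isDecent hX hF
  constructor
  · rintro ⟨T, hT, hx⟩
    obtain ⟨U, a, hae, has⟩ := hX.atlas
    obtain ⟨u, hu⟩ := ofPt_surjective_of_repWith has x
    obtain ⟨η, hη, hdim⟩ := exists_generization_dim_zero U.left u
    refine ⟨U, a, η, hae, ?_, hdim⟩
    have h1 : Points.ofPt a η ⤳ Points.ofPt a u := hη.map (Points.continuous_ofPt a)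
    rw [hu] at h1
    exact eq_of_specializes_of_isGenericPoint_component hT hx h1
  · rintro ⟨U, a, u, hae, rfl, hdim⟩
    exact ⟨_, irreducibleComponent_mem_irreducibleComponents _,
      isGenericPoint_irreducibleComponent_of_forall_specializes _
        (fun x' hx' => eq_of_specializes_of_dim_zero hF a hae u hdim hx')⟩

end Groth.Agent.H3.Decent

namespace Groth.Agent.H3.Decent

open _root_.AlgSp Groth.Agent.H5.AlgSp Groth.Agent.H3.AlgSpProp

variable {S : Scheme.{u}}

/-- Codimension zero at a point is insensitive to étale morphisms of algebraic spaces. -/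
theorem hasAt_codimZero_iff_of_isEtaleMor {F G : Sp S} (hF : IsAlgSpace F) (hG : IsAlgSpace G)
    (f : F ⟶ G) (hf : IsEtaleMor f) (y : Points F) :
    HasAt (fun U u => ringKrullDim ↥(U.presheaf.stalk u) = 0) F y ↔
      HasAt (fun U u => ringKrullDim ↥(U.presheaf.stalk u) = 0) G (Points.map f y) := by
  constructor
  · rintro ⟨U, a, u, hae, rfl, hdim⟩
    exact ⟨U, a ≫ f, u, hf a hae, (Points.map_ofPt a f u).symm, hdim⟩
  · intro h
    have hall := (hasAt_iff_forall (etaleLocalAt_ringKrullDim_stalk 0) hG _).1 h
    obtain ⟨U, a, hae, has⟩ := hF.atlas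
    obtain ⟨u, rfl⟩ := ofPt_surjective_of_repWith has y
    exact ⟨U, a, u, hae, rfl, hall U (a ≫ f) u (hf a hae) (Points.map_ofPt a f u).symm⟩

/-- Generic points of irreducible components correspond under étale morphisms to a decent
space. -/
theorem isGenericPoint_component_iff_of_isEtaleMor {F G : Sp S} (hF : IsAlgSpace F)
    (hG : IsAlgSpace G) (hGd : IsDecent G) (f : F ⟶ G) (hf : IsEtaleMor f) (y : Points F) :
    (∃ T ∈ irreducibleComponents (Points F), IsGenericPoint y T) ↔
      (∃ T ∈ irreducibleComponents (Points G), IsGenericPoint (Points.map f y) T) := by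
  rw [isGenericPoint_component_iff_codimZero hF (isDecent_of_isEtaleMor hF hG hf hGd),
    isGenericPoint_component_iff_codimZero hG hGd]
  exact hasAt_codimZero_iff_of_isEtaleMor hF hG f hf y

end Groth.Agent.H3.Decent
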