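import Mathlib
import Groth.Prelude.Def_Flat
import Groth.Agent.Lib.Helper3.Decent.GenericPt
import Groth.Agent.Lib.Helper3.AlgSpMor.EtaleDim

set_option autoImplicit false
set_option linter.unusedSectionVars false

universe u

open CategoryTheory CategoryTheory.Limits AlgebraicGeometry MorphismProperty Opposite Topology Order
open TopologicalSpace

namespace Groth.Agent.H3.Decent

open _root_.AlgSp Groth.Agent.H5.AlgSp Groth.Agent.H3.EtaleDim

variable {S : Scheme.{u}}

section Top

variable {A B : Type*} [TopologicalSpace A] [TopologicalSpace B] [QuasiSober A] [T0Space A]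
  [QuasiSober B] [T0Space B]

/-- Local dimension is preserved by a continuous open map of sober spaces that preserves the
codimension of points. -/
theorem localDim_eq_of_isOpenMap (f : A → B) (hc : Continuous f) (ho : IsOpenMap f)
    (hco : ∀ a, @coheight B (specializationOrder B).toPreorder (f a) =
      @coheight A (specializationOrder A).toPreorder a) (a : A) :
    FlatMor.localDim A a = FlatMor.localDim B (f a) := by
  unfold FlatMor.localDim
  refine le_antisymm (le_iInf ?_) (le_iInf ?_)
  · rintro ⟨V, hV⟩
    refine (iInf_le _ (⟨V.comap ⟨f, hc⟩, hV⟩ : {W : Opens A // a ∈ W})).trans ?_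
    change topologicalKrullDim ↥((V.comap ⟨f, hc⟩ : Opens A) : Set A) ≤
      topologicalKrullDim ↥(V : Set B)
    rw [topologicalKrullDim_opens_eq_iSup_coheight, topologicalKrullDim_opens_eq_iSup_coheight]
    apply iSup_le
    rintro ⟨w, hw⟩
    rw [← hco w]
    exact le_iSup (fun v : ↥(V : Set B) => ((@coheight B (specializationOrder B).toPreorder (v : B) : ℕ∞) : WithBot ℕ∞)) ⟨f w, hw⟩
  · rintro ⟨W, hW⟩
    have hopen : IsOpen (f '' (W : Set A)) := ho _ W.isOpen
    let V : Opens B := ⟨f '' (W : Set A), hopen⟩
    refine (iInf_le _ (⟨V, ⟨a, hW, rfl⟩⟩ : {V : Opens B // f a ∈ V})).trans ?_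
    change topologicalKrullDim ↥(V : Set B) ≤ topologicalKrullDim ↥(W : Set A)
    rw [topologicalKrullDim_opens_eq_iSup_coheight, topologicalKrullDim_opens_eq_iSup_coheight]
    apply iSup_le
    rintro ⟨v, w, hw, rfl⟩
    rw [hco w]
    exact le_iSup (fun w : ↥(W : Set A) => ((@coheight A (specializationOrder A).toPreorder (w : A) : ℕ∞) : WithBot ℕ∞)) ⟨w, hw⟩

attribute [local instance] specializationOrder

/-- The codimension of an irreducible closed subset of a sober space is the codimension of its
generic point. -/
theorem coheight_irreducibleCloseds_eq (T : IrreducibleCloseds A) (ξ : A)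
    (hξ : IsGenericPoint ξ (T : Set A)) : coheight T = coheight ξ := by
  rw [← coheight_orderIso (irreducibleSetEquivPoints (α := A)) T]
  congr 1
  exact (T.2.isGenericPoint_genericPoint T.3).eq hξ

end Top

section LocalInst

attribute [local instance] specializationOrder

variable {F : Sp S} [T0Space (Points F)]

/-- An étale chart of a decent space is strictly monotone for the specialization orders. -/
theorem strictMono_ofPt_of_isDecent (hF : IsDecent F) {U : Over S}
    (a : (yon S).obj U ⟶ F) (ha : RepWith @Etale a) :
    StrictMono (fun u : ↥U.left => Points.ofPt a u) := by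
  intro u u' h
  rw [lt_iff_specializes] at h
  have h1 : Points.ofPt a u' ⤳ Points.ofPt a u := h.1.map (Points.continuous_ofPt a)
  refine lt_of_le_of_ne h1 (fun he => h.2 ?_)
  rw [eq_of_specializes_of_isDecent hF a ha u u' he h.1]

/-- The codimension of a point of a decent space equals the codimension in any étale chart. -/
theorem coheight_ofPt_eq (hF : IsDecent F) {U : Over S}
    (a : (yon S).obj U ⟶ F) (ha : RepWith @Etale a) (u : ↥U.left) :
    coheight (Points.ofPt a u) = coheight u := by
  symm
  refine coheight_eq_of_strictMono (fun u : ↥U.left => Points.ofPt a u)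
    (strictMono_ofPt_of_isDecent hF a ha) ?_ u
  intro v x' hx'
  have h1 : x' ⤳ Points.ofPt a v := hx'.le
  obtain ⟨v', hv', rfl⟩ := exists_specializes_ofPt_of_fieldPt h1 (hF x') a ha v rfl
  refine ⟨v', lt_of_le_of_ne hv' (fun he => ?_), rfl⟩
  subst he
  exact lt_irrefl _ hx'

omit [T0Space (Points F)] in
/-- **Codimension of an irreducible closed subset of a decent space** is the dimension of the
local ring of a chart at a point over the generic point. -/
theorem coheight_irreducibleCloseds_eq_ringKrullDim (hX : IsAlgSpace F) (hF : IsDecent F)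
    (T : IrreducibleCloseds (Points F)) (ξ : Points F) (hξ : IsGenericPoint ξ (T : Set (Points F)))
    {U : Over S} (a : (yon S).obj U ⟶ F) (ha : RepWith @Etale a) (u : ↥U.left)
    (hu : Points.ofPt a u = ξ) :
    (coheight T : WithBot ℕ∞) = ringKrullDim ↥(U.left.presheaf.stalk u) := by
  have : T0Space (Points F) := t0Space_points_of_isDecent hX hF
  have : QuasiSober (Points F) := quasiSober_points_of_isDecent hX hF
  rw [ringKrullDim_stalk_eq_coheight, coheight_irreducibleCloseds_eq T ξ hξ, ← hu,
    coheight_ofPt_eq hF a ha u]

omit [T0Space (Points F)] in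
/-- **Local dimension of a decent space at a point** is the local dimension of `|F|`. -/
theorem localDim_ofPt_eq (hX : IsAlgSpace F) (hF : IsDecent F) {U : Over S}
    (a : (yon S).obj U ⟶ F) (ha : RepWith @Etale a) (u : ↥U.left) :
    FlatMor.localDim ↥U.left u = FlatMor.localDim (Points F) (Points.ofPt a u) := by
  have : T0Space (Points F) := t0Space_points_of_isDecent hX hF
  have : QuasiSober (Points F) := quasiSober_points_of_isDecent hX hF
  exact localDim_eq_of_isOpenMap (fun u : ↥U.left => Points.ofPt a u) (Points.continuous_ofPt a)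
    (isOpenMap_ofPt_of_etale ha) (fun u => coheight_ofPt_eq hF a ha u) u

end LocalInst

/-- **Dimension of a decent space** is the Krull dimension of its space of points. -/
theorem topologicalKrullDim_points_eq_dim {F : Sp S} (hX : IsAlgSpace F) (hF : IsDecent F) :
    topologicalKrullDim (Points F) = AlgSp.dim F := by
  have : T0Space (Points F) := t0Space_points_of_isDecent hX hF
  have : QuasiSober (Points F) := quasiSober_points_of_isDecent hX hF
  rw [topologicalKrullDim_eq_iSup_coheight]
  unfold AlgSp.dim
  apply le_antisymm
  · apply iSup_le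
    intro x
    obtain ⟨U, a, hae, has⟩ := hX.atlas
    obtain ⟨u, rfl⟩ := ofPt_surjective_of_repWith has x
    rw [coheight_ofPt_eq hF a hae u]
    refine le_iSup_of_le U (le_iSup_of_le a (le_iSup_of_le hae ?_))
    rw [scheme_dim_eq_iSup_coheight]
    exact le_iSup_of_le u le_rfl
  · refine iSup_le fun U => iSup_le fun a => iSup_le fun hae => ?_
    rw [scheme_dim_eq_iSup_coheight]
    refine iSup_le fun u => ?_
    rw [← coheight_ofPt_eq hF a hae u]
    exact le_iSup_of_le (Points.ofPt a u) le_rfl

end Groth.Agent.H3.Decent
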