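import Groth.Agent.Lib.Helper3.Decent.OpenSubscheme
import Groth.Agent.Lib.Helper3.Decent.Etale
import Groth.Agent.Lib.Helper5.AlgSp.MonoDesc
import Groth.Agent.Lib.Helper5.AlgSp.FibreProduct
import Groth.Agent.Lib.Helper5.AlgSp.ImmersionTop
import Groth.Agent.Lib.Helper5.AlgSp.OpenSub
import Groth.Agent.Lib.Helper5.AlgSp.SchematicLocus

/-!
# Monomorphisms into decent spaces; discrete decent spaces are schemes (helper3)
-/

set_option autoImplicit false
set_option linter.unusedSectionVars false
universe u

open CategoryTheory CategoryTheory.Limits AlgebraicGeometry TensorProduct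
open AlgSp

namespace Groth.Agent.H3.Decent

open Groth.Agent.H5.AlgSp

variable {S : Scheme.{u}}

/-- **The source of a monomorphism of algebraic spaces into a decent space is decent.** -/
theorem isDecent_of_mono {F G : Sp S} (hF : IsAlgSpace F) (hG : IsAlgSpace G) (f : F ⟶ G)
    [Mono f] (hd : IsDecent G) : IsDecent F := by
  rw [isDecent_iff] at hd ⊢
  intro x
  obtain ⟨K, _, str, η, hη, hmono, hqc⟩ := hd (Points.map f x)
  have sq : IsPullback (pullback.fst f η) (pullback.snd f η) f η := IsPullback.of_hasPullback f η
  have hP : IsAlgSpace (pullback f η) :=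
    isAlgSpace_pullback hG.diag hF (IsAlgSpace.yon_obj (Over.mk str)) sq
  have hm : Mono (pullback.snd f η) := inferInstance
  obtain ⟨z, -, -⟩ := points_pullback_surjective sq x (Points.mk (fpOfHom str (𝟙 _)))
    (by rw [map_mk_fpOfHom, Category.id_comp, hη])
  have hiso : IsIso (pullback.snd f η) := isIso_of_mono_to_field hP str _ ⟨z⟩
  let ξ : (yon S).obj (Over.mk str) ⟶ F := inv (pullback.snd f η) ≫ pullback.fst f η
  have hξη : ξ ≫ f = η := by
    change (inv (pullback.snd f η) ≫ pullback.fst f η) ≫ f = η
    rw [Category.assoc, sq.w, IsIso.inv_hom_id_assoc]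
  have hξm : Mono ξ := by
    have : Mono (ξ ≫ f) := by rw [hξη]; exact hmono
    exact mono_of_mono ξ f
  have sq' : IsPullback ξ (𝟙 _) f η := by
    refine IsPullback.of_iso sq (asIso (pullback.snd f η)) (Iso.refl _) (Iso.refl _) (Iso.refl _)
      ?_ ?_ ?_ ?_
    · change pullback.fst f η ≫ 𝟙 _ = pullback.snd f η ≫ inv (pullback.snd f η) ≫ pullback.fst f η
      rw [IsIso.hom_inv_id_assoc, Category.comp_id]
    · simp
    · simp
    · simp
  refine ⟨K, inferInstance, str, ξ, ?_, hξm, ?_⟩
  · apply points_map_injective_of_mono f
    rw [map_mk_fpOfHom, hξη, hη]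
  · exact MorphismProperty.of_isPullback (P := RepWith @QuasiCompact) sq'.flip hqc

/-- an algebraic space all of whose points are schematic is a scheme -/
theorem isRepresentable_of_schematicSet_eq_univ {X : Sp S} (hX : IsAlgSpace X)
    (h : schematicSet X = Set.univ) : ∃ T : Over S, Nonempty ((yon S).obj T ≅ X) := by
  have hW := isOpen_schematicSet X
  obtain ⟨X₁, ⟨e⟩⟩ := exists_iso_openSub_schematicSet hX
  have h1 : RepWith @IsOpenImmersion (openSubι X (schematicSet X)) := repWith_openSubι hW
  have hs : Function.Surjective (Points.map (openSubι X (schematicSet X))) := by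
    intro x
    have : x ∈ Set.range (Points.map (openSubι X (schematicSet X))) := by
      rw [range_points_map_openSubι, h]
      exact Set.mem_univ x
    exact this
  have hiso : IsIso (openSubι X (schematicSet X)) :=
    isIso_of_isOpenImmersion_of_points_surjective h1 hs
  exact ⟨X₁, ⟨e ≪≫ asIso (openSubι X (schematicSet X))⟩⟩

/-- **A decent algebraic space with discrete space of points is a scheme.** -/
theorem isRepresentable_of_isDecent_of_discrete {X : Sp S} (hX : IsAlgSpace X) (hd : IsDecent X)
    (hdisc : ∀ x : Points X, IsOpen ({x} : Set (Points X))) :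
    ∃ T : Over S, Nonempty ((yon S).obj T ≅ X) := by
  apply isRepresentable_of_schematicSet_eq_univ hX
  rw [Set.eq_univ_iff_forall]
  intro x
  have hdense := dense_schematicSet_of_isDecent hX hd
  obtain ⟨y, hy1, hy2⟩ := hdense.inter_open_nonempty _ (hdisc x) ⟨x, rfl⟩
  have : y = x := hy1
  rw [← this]
  exact hy2

/-- **An algebraic space with a monomorphism to a scheme with discrete underlying space is a
scheme.** -/
theorem isRepresentable_of_mono_to_discrete {X : Sp S} (hX : IsAlgSpace X) (Y : Over S)
    [DiscreteTopology ↥Y.left] (f : X ⟶ (yon S).obj Y) [Mono f] :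
    ∃ T : Over S, Nonempty ((yon S).obj T ≅ X) := by
  have hYd : IsDecent ((yon S).obj Y) := isDecent_yon Y
  have hd : IsDecent X := isDecent_of_mono hX (IsAlgSpace.yon_obj Y) f hYd
  apply isRepresentable_of_isDecent_of_discrete hX hd
  intro x
  have hinj := points_map_injective_of_mono f
  have hdY : DiscreteTopology (Points ((yon S).obj Y)) :=
    DiscreteTopology.of_continuous_injective (Points.schemeHomeo Y).symm.continuous
      (Points.schemeHomeo Y).symm.injective
  have hy : IsOpen ({Points.map f x} : Set (Points ((yon S).obj Y))) := isOpen_discrete _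
  have h2 := hy.preimage (Points.continuous_map f)
  convert h2 using 1
  ext z
  constructor
  · rintro rfl
    rfl
  · intro hz
    exact hinj hz

end Groth.Agent.H3.Decent
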