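import Groth.Agent.Lib.Helper3.Residual.Exists

/-!
# Points represented by monomorphisms from spectra of fields (helper3)

Stacks 03JW-type results: `(1) ⇒ (4)`, `(3) ⇔ (4)`.
-/

set_option autoImplicit false
set_option linter.unusedSectionVars false
universe u

open CategoryTheory CategoryTheory.Limits AlgebraicGeometry
open AlgSp

namespace Groth.Agent.H3.Decent

open Groth.Agent.H5.AlgSp Groth.Agent.H3.FinQuot Groth.Agent.H3.Residual

variable {S : Scheme.{u}}

/-- a locally quasi-finite quasi-compact morphism has finite fibres after any base change -/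
lemma finite_preimage_of_isPullback {P A B C : Scheme.{u}} {p₁ : P ⟶ A} {p₂ : P ⟶ B} {f : A ⟶ C}
    {g : B ⟶ C} (sq : IsPullback p₁ p₂ f g) [LocallyQuasiFinite g] [QuasiCompact g]
    {s : Set ↥A} (hs : s.Finite) : (p₁ ⁻¹' s).Finite := by
  have h1 : LocallyQuasiFinite p₁ :=
    MorphismProperty.of_isPullback (P := @LocallyQuasiFinite) sq.flip inferInstance
  have h2 : QuasiCompact p₁ :=
    MorphismProperty.of_isPullback (P := @QuasiCompact) sq.flip inferInstance
  exact Scheme.Hom.finite_preimage p₁ hs

/-- **The kernel pair of a field point of a chart has finitely many points as soon as the fibre of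
the kernel pair of the chart over the pair of image points is finite.** -/
theorem finite_kernelPair_field_of_finite_fibre {X : Sp S} {U : Over S}
    {φ : (yon S).obj U ⟶ X} (hrep : Representable φ) {R : Over S} {s t : R ⟶ U}
    (sq : IsPullback ((yon S).map t) ((yon S).map s) φ φ)
    {L : Type u} [Field L] (strL : Spec (CommRingCat.of L) ⟶ S) (a b : Over.mk strL ⟶ U)
    (hla : LocallyQuasiFinite a.left) (hlb : LocallyQuasiFinite b.left)
    (hab : (yon S).map a ≫ φ = (yon S).map b ≫ φ)
    (hfin : {r : ↥R.left | s.left r = a.left (IsLocalRing.closedPoint L) ∧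
      t.left r = b.left (IsLocalRing.closedPoint L)}.Finite)
    {RL : Over S} (sL tL : RL ⟶ Over.mk strL)
    (sqL : IsPullback ((yon S).map tL) ((yon S).map sL) ((yon S).map a ≫ φ)
      ((yon S).map a ≫ φ)) : Finite ↥RL.left := by
  have hqa : QuasiCompact a.left := quasiCompact_of_field (K := L) a.left
  have hqb : QuasiCompact b.left := quasiCompact_of_field (K := L) b.left
  set ψ := (yon S).map a ≫ φ with hψ
  have hsub : Subsingleton ↥(Over.mk strL).left :=
    inferInstanceAs (Subsingleton (PrimeSpectrum L))
  -- `Q' = U ×_X Spec L`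
  let Q' : Over S := hrep.pullback ψ
  let q₁ : Q' ⟶ U := hrep.fst' ψ
  let q₂ : Q' ⟶ Over.mk strL := hrep.snd ψ
  have sqQ : IsPullback ((yon S).map q₁) ((yon S).map q₂) φ ψ := hrep.isPullback' ψ
  -- `j : R_L ⟶ Q'`
  obtain ⟨j, hj⟩ := (yon S).map_surjective (sqQ.lift ((yon S).map (tL ≫ b)) ((yon S).map sL)
    (by rw [Functor.map_comp, Category.assoc, ← hab]; exact sqL.w))
  have hj1 : j ≫ q₁ = tL ≫ b := by
    apply (yon S).map_injective
    rw [Functor.map_comp, hj, sqQ.lift_fst]
  have hj2 : j ≫ q₂ = sL := by
    apply (yon S).map_injective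
    rw [Functor.map_comp, hj, sqQ.lift_snd]
  have big : IsPullback ((yon S).map j ≫ (yon S).map q₂) ((yon S).map tL) ψ
      ((yon S).map b ≫ φ) := by
    rw [← Functor.map_comp, hj2, ← hab]
    exact sqL.flip
  have left : IsPullback ((yon S).map j) ((yon S).map tL) ((yon S).map q₁) ((yon S).map b) :=
    IsPullback.of_right big (by rw [← Functor.map_comp, ← Functor.map_comp, hj1]) sqQ.flip
  have leftO : IsPullback j tL q₁ b := IsPullback.of_map (yon S) hj1 left
  have leftS : IsPullback j.left tL.left q₁.left b.left := leftO.map (Over.forget S)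
  -- `k : Q' ⟶ R`
  obtain ⟨k, hk⟩ := (yon S).map_surjective (sq.lift ((yon S).map q₁) ((yon S).map (q₂ ≫ a))
    (by rw [Functor.map_comp, Category.assoc]; exact sqQ.w))
  have hk1 : k ≫ t = q₁ := by
    apply (yon S).map_injective
    rw [Functor.map_comp, hk, sq.lift_fst]
  have hk2 : k ≫ s = q₂ ≫ a := by
    apply (yon S).map_injective
    rw [Functor.map_comp, hk, sq.lift_snd]
  have big' : IsPullback ((yon S).map k ≫ (yon S).map t) ((yon S).map q₂) φ
      ((yon S).map a ≫ φ) := by
    rw [← Functor.map_comp, hk1]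
    exact sqQ
  have left' : IsPullback ((yon S).map k) ((yon S).map q₂) ((yon S).map s) ((yon S).map a) :=
    IsPullback.of_right big' (by rw [← Functor.map_comp, ← Functor.map_comp, hk2]) sq
  have leftO' : IsPullback k q₂ s a := IsPullback.of_map (yon S) hk2 left'
  have leftS' : IsPullback k.left q₂.left s.left a.left := leftO'.map (Over.forget S)
  -- finiteness
  have h1 : (k.left ⁻¹' {r : ↥R.left | s.left r = a.left (IsLocalRing.closedPoint L) ∧
      t.left r = b.left (IsLocalRing.closedPoint L)}).Finite :=
    finite_preimage_of_isPullback leftS' hfin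
  have h2 := finite_preimage_of_isPullback leftS h1
  have h3 : j.left ⁻¹' (k.left ⁻¹' {r : ↥R.left | s.left r = a.left (IsLocalRing.closedPoint L) ∧
      t.left r = b.left (IsLocalRing.closedPoint L)}) = Set.univ := by
    rw [Set.eq_univ_iff_forall]
    intro z
    refine ⟨?_, ?_⟩
    · change s.left (k.left (j.left z)) = _
      have e : j.left ≫ k.left ≫ s.left = sL.left ≫ a.left := by
        have := congrArg CommaMorphism.left (show j ≫ k ≫ s = sL ≫ a by rw [hk2, ← Category.assoc, hj2])
        exact this
      have := congrArg (fun f : RL.left ⟶ U.left => f z) e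
      simp only [Scheme.Hom.comp_apply] at this
      rw [this]
      congr 1
      exact Subsingleton.elim _ _
    · change t.left (k.left (j.left z)) = _
      have e : j.left ≫ k.left ≫ t.left = tL.left ≫ b.left := by
        have := congrArg CommaMorphism.left (show j ≫ k ≫ t = tL ≫ b by rw [hk1, hj1])
        exact this
      have := congrArg (fun f : RL.left ⟶ U.left => f z) e
      simp only [Scheme.Hom.comp_apply] at this
      rw [this]
      congr 1
      exact Subsingleton.elim _ _
  rw [h3] at h2
  exact Set.finite_univ_iff.1 h2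

/-- an étale morphism with finitely many points in the source over the spectrum of a field is
finite -/
lemma isFinite_of_etale_of_finite {L : Type u} [Field L] {T : Scheme.{u}}
    (g : T ⟶ Spec (CommRingCat.of L)) [Etale g] [Finite ↥T] : IsFinite g := by
  have hart : IsLocallyArtinian (Spec (CommRingCat.of L)) := by
    rw [Scheme.isLocallyArtinianScheme_Spec]
    infer_instance
  have : LocallyQuasiFinite g := locallyQuasiFinite_of_etale g
  have : QuasiCompact g := by
    rw [quasiCompact_iff]
    intro W _ _
    exact (Set.toFinite _).isCompact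
  exact IsFinite.of_locallyQuasiFinite g

/-- **(1) ⇒ (4).**  If for an étale chart `φ : U ⟶ X` and points `u, u'` over the same point the
fibre of `|R| → |U| × |U|` over `(u, u')` is finite, then the point is represented by a monomorphism
from the spectrum of a field. -/
theorem exists_mono_point_of_finite_relation_fibre {X : Sp S} (hX : IsAlgSpace X) {U : Over S}
    (φ : (yon S).obj U ⟶ X) (hφ : RepWith @Etale φ) (u u' : ↥U.left)
    (he : Points.ofPt φ u = Points.ofPt φ u') {R : Over S} (s t : R ⟶ U)
    (sq : IsPullback ((yon S).map t) ((yon S).map s) φ φ)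
    (hfin : {r : ↥R.left | s.left r = u ∧ t.left r = u'}.Finite) :
    ∃ (k : Type u) (_ : Field k) (str : Spec (CommRingCat.of k) ⟶ S)
      (q : (yon S).obj (Over.mk str) ⟶ X), Mono q ∧ Points.mk (fpOfHom str q) = Points.ofPt φ u := by
  obtain ⟨r₀, hr₀t, hr₀s⟩ := (ofPt_eq_ofPt_iff sq u' u).1 he.symm
  have hse : Etale s.left := hφ.property φ _ s sq
  have hte : Etale t.left := hφ.property φ _ t sq.flip
  let ι : resPt R r₀ ⟶ R := resι R r₀
  let a : resPt R r₀ ⟶ U := ι ≫ s
  let b : resPt R r₀ ⟶ U := ι ≫ t
  have hab : (yon S).map a ≫ φ = (yon S).map b ≫ φ := by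
    change (yon S).map (ι ≫ s) ≫ φ = (yon S).map (ι ≫ t) ≫ φ
    rw [Functor.map_comp, Functor.map_comp, Category.assoc, Category.assoc, sq.w]
  have hlqs : LocallyQuasiFinite s.left := locallyQuasiFinite_of_etale s.left
  have hlqt : LocallyQuasiFinite t.left := locallyQuasiFinite_of_etale t.left
  have hla : LocallyQuasiFinite a.left := by
    change LocallyQuasiFinite (R.left.fromSpecResidueField r₀ ≫ s.left)
    infer_instance
  have hlb : LocallyQuasiFinite b.left := by
    change LocallyQuasiFinite (R.left.fromSpecResidueField r₀ ≫ t.left)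
    infer_instance
  have hacp : a.left (IsLocalRing.closedPoint ↑(R.left.residueField r₀)) = u := by
    change (R.left.fromSpecResidueField r₀ ≫ s.left) _ = u
    rw [Scheme.Hom.comp_apply, Scheme.fromSpecResidueField_apply, hr₀s]
  have hbcp : b.left (IsLocalRing.closedPoint ↑(R.left.residueField r₀)) = u' := by
    change (R.left.fromSpecResidueField r₀ ≫ t.left) _ = u'
    rw [Scheme.Hom.comp_apply, Scheme.fromSpecResidueField_apply, hr₀t]
  set ψ := (yon S).map a ≫ φ with hψ
  have hrepψ : Representable ψ := hX.representable_from_yon ψ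
  let RL : Over S := hrepψ.pullback ψ
  let tL : RL ⟶ resPt R r₀ := hrepψ.fst' ψ
  let sL : RL ⟶ resPt R r₀ := hrepψ.snd ψ
  have sqL : IsPullback ((yon S).map tL) ((yon S).map sL) ψ ψ := hrepψ.isPullback' ψ
  have hRLfin : Finite ↥RL.left :=
    finite_kernelPair_field_of_finite_fibre (L := ↑(R.left.residueField r₀)) hφ.rep sq
      (R.left.fromSpecResidueField r₀ ≫ R.hom) a b hla hlb hab
      (by
        have e1 := hacp
        have e2 := hbcp
        convert hfin using 4
        · rw [e1]
        · rw [e2]) sL tL sqL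
  have hφR : RepWith @Etale ((yon S).map s ≫ φ) := repWith_comp_yon_map @Etale s hse hφ
  have squ : IsPullback ((yon S).map tL) ((yon S).map sL) ((yon S).map (resι R r₀) ≫ (yon S).map s ≫ φ)
      ((yon S).map (resι R r₀) ≫ (yon S).map s ≫ φ) := by
    have e : (yon S).map (resι R r₀) ≫ (yon S).map s ≫ φ = ψ := by
      rw [hψ, ← Category.assoc, ← Functor.map_comp]
    rw [e]
    exact sqL
  have hsLe : Etale sL.left := etale_kernelPair_resPt hφR r₀ sL tL squ
  have hsLf : IsFinite sL.left := by
    have : Etale (show RL.left ⟶ Spec (CommRingCat.of ↑(R.left.residueField r₀)) from sL.left) := hsLe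
    exact isFinite_of_etale_of_finite (L := ↑(R.left.residueField r₀)) sL.left
  obtain ⟨k', hk', str', cm, q, hq1, hq2, -⟩ :=
    @exists_mono_of_finite_kernelPair S X ↑(R.left.residueField r₀) _
      (R.left.fromSpecResidueField r₀ ≫ R.hom) ψ RL sL tL sqL hsLf
  refine ⟨k', hk', str', q, hq1, ?_⟩
  rw [← ofPt_closedPoint, ← hacp, ← ofPt_yon_map_comp, ← hψ, ← hq2, ofPt_yon_map_comp]
  congr 1
  exact Subsingleton.elim (α := PrimeSpectrum k') _ _

/-- isomorphisms are representable with any multiplicative property stable under base change -/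
lemma repWith_of_isIso' {P : MorphismProperty Scheme.{u}} [P.IsStableUnderBaseChange]
    [P.IsMultiplicative] {F G : Sp S} (φ : F ⟶ G) [IsIso φ] : RepWith P φ := by
  have h := (RepWith (S := S) P).id_mem G
  have := (MorphismProperty.cancel_left_of_respectsIso (RepWith (S := S) P) φ (𝟙 G)).2 h
  rwa [Category.comp_id] at this

/-- **(3) ⇒ (4).**  A field point whose kernel pair has étale quasi-compact projection is equivalent
to a monomorphic field point. -/
theorem exists_mono_point_of_etale_qc_kernelPair {X : Sp S} (hX : IsAlgSpace X) {K : Type u}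
    [Field K] (str : Spec (CommRingCat.of K) ⟶ S) (ξ : (yon S).obj (Over.mk str) ⟶ X)
    (h : ∀ (P : Sp S) (fst snd : P ⟶ (yon S).obj (Over.mk str)), IsPullback fst snd ξ ξ →
      RepWith @Etale fst ∧ RepWith @QuasiCompact fst) :
    ∃ (k : Type u) (_ : Field k) (str' : Spec (CommRingCat.of k) ⟶ S)
      (q : (yon S).obj (Over.mk str') ⟶ X), Mono q ∧
        Points.mk (fpOfHom str' q) = Points.mk (fpOfHom str ξ) := by
  have hrep : Representable ξ := hX.representable_from_yon ξ
  let RL : Over S := hrep.pullback ξ
  let tL : RL ⟶ Over.mk str := hrep.fst' ξ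
  let sL : RL ⟶ Over.mk str := hrep.snd ξ
  have sqL : IsPullback ((yon S).map tL) ((yon S).map sL) ξ ξ := hrep.isPullback' ξ
  obtain ⟨h1, h2⟩ := h _ _ _ sqL
  have hte : Etale tL.left := (repWith_yon_map_iff @Etale tL).1 h1
  have htq : QuasiCompact tL.left := (repWith_yon_map_iff @QuasiCompact tL).1 h2
  have hart : IsLocallyArtinian (Over.mk str).left := by
    change IsLocallyArtinian (Spec (CommRingCat.of K))
    rw [Scheme.isLocallyArtinianScheme_Spec]
    infer_instance
  have : LocallyQuasiFinite tL.left := locallyQuasiFinite_of_etale tL.left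
  have hfin : IsFinite tL.left := IsFinite.of_locallyQuasiFinite tL.left
  obtain ⟨k', hk', str', cm, q, hq1, hq2, -⟩ :=
    exists_mono_of_finite_kernelPair str ξ tL sL sqL.flip
  refine ⟨k', hk', str', q, hq1, ?_⟩
  rw [← ofPt_closedPoint, ← ofPt_closedPoint, ← hq2, ofPt_yon_map_comp]
  congr 1
  exact Subsingleton.elim (α := PrimeSpectrum k') _ _

/-- **(4) ⇒ (3).** -/
theorem etale_qc_kernelPair_of_mono {X : Sp S} {G : Sp S} (ξ : G ⟶ X) [Mono ξ]
    (P : Sp S) (fst snd : P ⟶ G) (sq : IsPullback fst snd ξ ξ) :
    RepWith @Etale fst ∧ RepWith @QuasiCompact fst := by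
  have : IsIso fst := IsKernelPair.isIso_of_mono sq
  exact ⟨repWith_of_isIso' fst, repWith_of_isIso' fst⟩

/-- The fibre of the kernel pair of a chart over a field point whose fibre in the chart is finite
over the field is finite. -/
theorem finite_fibre_kernelPair_of_isFinite_fibre {X : Sp S} {K : Type u} [Field K]
    (str : Spec (CommRingCat.of K) ⟶ S) (ξ : (yon S).obj (Over.mk str) ⟶ X)
    (hrep : Representable ξ) {U : Over S} {φ : (yon S).obj U ⟶ X}
    {E : Over S} (e1 : E ⟶ Over.mk str) (e2 : E ⟶ U)
    (sqE : IsPullback ((yon S).map e1) ((yon S).map e2) ξ φ) (hfin1 : IsFinite e1.left)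
    {R : Over S} {s t : R ⟶ U}
    (sq : IsPullback ((yon S).map t) ((yon S).map s) φ φ) :
    (Points.ofPt ((yon S).map t ≫ φ) ⁻¹' {Points.mk (fpOfHom str ξ)}).Finite := by
  have hPfin : Finite ↥(pullback e1.left e1.left) := by
    have h1 : IsFinite (pullback.fst e1.left e1.left ≫ e1.left) := inferInstance
    have h2 := Scheme.Hom.finite_preimage_singleton (pullback.fst e1.left e1.left ≫ e1.left)
      (IsLocalRing.closedPoint K)
    have h3 : (pullback.fst e1.left e1.left ≫ e1.left) ⁻¹' {IsLocalRing.closedPoint K} = Set.univ := by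
      ext y
      simp only [Set.mem_preimage, Set.mem_univ, iff_true, Set.mem_singleton_iff]
      exact Subsingleton.elim (α := ↥(Spec (CommRingCat.of K))) _ _
    exact Set.finite_univ_iff.1 (h3 ▸ h2)
  -- the fibre of the kernel pair
  let ER : Over S := hrep.pullback ((yon S).map t ≫ φ)
  let r1 : ER ⟶ Over.mk str := hrep.fst' ((yon S).map t ≫ φ)
  let r2 : ER ⟶ R := hrep.snd ((yon S).map t ≫ φ)
  have sqR : IsPullback ((yon S).map r1) ((yon S).map r2) ξ ((yon S).map t ≫ φ) :=
    hrep.isPullback' _
  obtain ⟨a, ha⟩ := (yon S).map_surjective (sqE.lift ((yon S).map r1) ((yon S).map (r2 ≫ t))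
    (by rw [Functor.map_comp, Category.assoc]; exact sqR.w))
  obtain ⟨b, hb⟩ := (yon S).map_surjective (sqE.lift ((yon S).map r1) ((yon S).map (r2 ≫ s))
    (by rw [Functor.map_comp, Category.assoc, ← sq.w]; exact sqR.w))
  have ha1 : a ≫ e1 = r1 := by
    apply (yon S).map_injective
    rw [Functor.map_comp, ha, sqE.lift_fst]
  have ha2 : a ≫ e2 = r2 ≫ t := by
    apply (yon S).map_injective
    rw [Functor.map_comp, ha, sqE.lift_snd]
  have hb1 : b ≫ e1 = r1 := by
    apply (yon S).map_injective
    rw [Functor.map_comp, hb, sqE.lift_fst]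
  have hb2 : b ≫ e2 = r2 ≫ s := by
    apply (yon S).map_injective
    rw [Functor.map_comp, hb, sqE.lift_snd]
  have wab : a.left ≫ e1.left = b.left ≫ e1.left := by
    have := congrArg CommaMorphism.left (ha1.trans hb1.symm)
    exact this
  have hmono : Mono (pullback.lift a.left b.left wab) := by
    refine ⟨fun {T₀} x y hxy => ?_⟩
    have h1 : x ≫ a.left = y ≫ a.left := by
      have := congrArg (· ≫ pullback.fst e1.left e1.left) hxy
      simpa only [Category.assoc, pullback.lift_fst] using this
    have h2 : x ≫ b.left = y ≫ b.left := by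
      have := congrArg (· ≫ pullback.snd e1.left e1.left) hxy
      simpa only [Category.assoc, pullback.lift_snd] using this
    let T : Over S := Over.mk (x ≫ ER.hom)
    let x' : T ⟶ ER := Over.homMk x rfl
    let y' : T ⟶ ER := Over.homMk y (by
      change y ≫ ER.hom = x ≫ ER.hom
      rw [← Over.w a, ← Category.assoc, ← h1, Category.assoc])
    have h1' : x' ≫ a = y' ≫ a := by ext; exact h1
    have h2' : x' ≫ b = y' ≫ b := by ext; exact h2
    have k1 : x' ≫ r1 = y' ≫ r1 := by
      rw [← ha1, ← Category.assoc, h1', Category.assoc]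
    have k2t : (x' ≫ r2) ≫ t = (y' ≫ r2) ≫ t := by
      rw [Category.assoc, Category.assoc, ← ha2, ← Category.assoc, h1', Category.assoc]
    have k2s : (x' ≫ r2) ≫ s = (y' ≫ r2) ≫ s := by
      rw [Category.assoc, Category.assoc, ← hb2, ← Category.assoc, h2', Category.assoc]
    have k2 : x' ≫ r2 = y' ≫ r2 := by
      apply (yon S).map_injective
      apply sq.hom_ext
      · rw [← Functor.map_comp, ← Functor.map_comp, k2t]
      · rw [← Functor.map_comp, ← Functor.map_comp, k2s]
    have : x' = y' := by
      apply (yon S).map_injective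
      apply sqR.hom_ext
      · rw [← Functor.map_comp, ← Functor.map_comp, k1]
      · rw [← Functor.map_comp, ← Functor.map_comp, k2]
    exact congrArg CommaMorphism.left this
  have hERfin : Finite ↥ER.left :=
    Finite.of_injective _ (Scheme.Hom.injective (pullback.lift a.left b.left wab))
  refine (Set.finite_range r2.left).subset ?_
  intro r hr
  have hxr : Points.map ξ (Points.ofScheme (Over.mk str) (IsLocalRing.closedPoint K)) =
      Points.ofPt ((yon S).map t ≫ φ) r := by
    rw [← Points.ofPt_eq_map_ofScheme, ofPt_closedPoint]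
    exact hr.symm
  obtain ⟨v, hv1, -⟩ := exists_point_of_isPullback sqR _ r hxr
  exact ⟨v, hv1⟩

/-- the fibre of a chart over a field point is the image of the fibre product -/
theorem fibre_subset_range_of_isPullback {X : Sp S} {K : Type u} [Field K]
    (str : Spec (CommRingCat.of K) ⟶ S) (ξ : (yon S).obj (Over.mk str) ⟶ X) {U : Over S}
    {φ : (yon S).obj U ⟶ X} {E : Over S} (e1 : E ⟶ Over.mk str) (e2 : E ⟶ U)
    (sqE : IsPullback ((yon S).map e1) ((yon S).map e2) ξ φ) :
    Points.ofPt φ ⁻¹' {Points.mk (fpOfHom str ξ)} = Set.range e2.left := by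
  ext v
  constructor
  · intro hv
    have hxr : Points.map ξ (Points.ofScheme (Over.mk str) (IsLocalRing.closedPoint K)) =
        Points.ofPt φ v := by
      rw [← Points.ofPt_eq_map_ofScheme, ofPt_closedPoint]
      exact hv.symm
    obtain ⟨z, hz, -⟩ := exists_point_of_isPullback sqE _ v hxr
    exact ⟨z, hz⟩
  · rintro ⟨z, rfl⟩
    change Points.ofPt φ (e2.left z) = _
    rw [← ofPt_yon_map_comp, ← sqE.w, ofPt_yon_map_comp, ← ofPt_closedPoint]
    congr 1
    exact Subsingleton.elim (α := PrimeSpectrum K) _ _

/-- a scheme finite over the spectrum of a field has finitely many points -/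
lemma finite_of_isFinite_field {K : Type u} [Field K] {T : Scheme.{u}}
    (g : T ⟶ Spec (CommRingCat.of K)) [IsFinite g] : Finite ↥T := by
  have h2 := Scheme.Hom.finite_preimage_singleton g (IsLocalRing.closedPoint K)
  have h3 : g ⁻¹' {IsLocalRing.closedPoint K} = Set.univ := by
    ext y
    simp only [Set.mem_preimage, Set.mem_univ, iff_true, Set.mem_singleton_iff]
    exact Subsingleton.elim (α := ↥(Spec (CommRingCat.of K))) _ _
  exact Set.finite_univ_iff.1 (h3 ▸ h2)

/-- **Finite fibres of a chart and of its kernel pair over a point, in terms of a monomorphic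
field point.** -/
theorem finite_fibres_iff_exists_mono_point {X : Sp S} (hX : IsAlgSpace X) (x : Points X)
    {U : Over S} (φ : (yon S).obj U ⟶ X) (hφ : RepWith @Etale φ) :
    (x ∈ Set.range (Points.ofPt φ) ∧ (Points.ofPt φ ⁻¹' {x}).Finite ∧
        ∀ (R : Over S) (s t : R ⟶ U), IsPullback ((yon S).map t) ((yon S).map s) φ φ →
          (Points.ofPt ((yon S).map t ≫ φ) ⁻¹' {x}).Finite) ↔
      ∃ (k : Type u) (_ : Field k) (str : Spec (CommRingCat.of k) ⟶ S)
        (q : (yon S).obj (Over.mk str) ⟶ X), Points.mk (fpOfHom str q) = x ∧ Mono q ∧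
        ∀ (T : Over S) (c : T ⟶ Over.mk str) (snd : (yon S).obj T ⟶ (yon S).obj U),
          IsPullback ((yon S).map c) snd q φ → Nonempty ↥T.left ∧ IsFinite c.left := by
  constructor
  · rintro ⟨⟨u, rfl⟩, hfinU, hfinR⟩
    have hrep := hφ.rep
    have sq := hrep.isPullback' φ
    have hfR := hfinR _ _ _ sq
    set φu := (yon S).map (resι U u) ≫ φ with hφu
    have hrepu : Representable φu := hX.representable_from_yon φu
    let Ru : Over S := hrepu.pullback φu
    let tu : Ru ⟶ resPt U u := hrepu.fst' φu
    let su : Ru ⟶ resPt U u := hrepu.snd φu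
    have squ : IsPullback ((yon S).map tu) ((yon S).map su) φu φu := hrepu.isPullback' φu
    have hsuf : IsFinite su.left := isFinite_kernelPair_resPt hφ sq u hfR su tu squ
    obtain ⟨k', hk', str', cm, q, hq1, hq2, -⟩ :=
      @exists_mono_of_finite_kernelPair S X ↑(U.left.residueField u) _
        (U.left.fromSpecResidueField u ≫ U.hom) φu Ru su tu squ hsuf
    have hx : Points.mk (fpOfHom str' q) = Points.ofPt φ u := by
      have hcp : (resι U u).left (IsLocalRing.closedPoint ↑(U.left.residueField u)) = u :=
        Scheme.fromSpecResidueField_apply _ _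
      rw [← ofPt_closedPoint, ← hcp, ← ofPt_yon_map_comp, ← hφu, ← hq2, ofPt_yon_map_comp]
      congr 1
      exact Subsingleton.elim (α := PrimeSpectrum k') _ _
    refine ⟨k', hk', str', q, hx, hq1, ?_⟩
    intro T c snd sqT
    obtain ⟨b, rfl⟩ := (yon S).map_surjective snd
    have hfib := fibre_subset_range_of_isPullback str' q c b sqT
    rw [hx] at hfib
    have hu : u ∈ Set.range b.left := by
      rw [← hfib]
      rfl
    obtain ⟨z, hz⟩ := hu
    have hbm : Mono ((yon S).map b) := sqT.mono_snd_of_mono
    have hbm' : Mono b := (yon S).mono_of_mono_map hbm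
    have hbl : Mono b.left := inferInstance
    have hbinj : Function.Injective b.left := Scheme.Hom.injective _
    have hTfin : Finite ↥T.left := by
      have : Finite ↥(Points.ofPt φ ⁻¹' {Points.ofPt φ u}) := hfinU.to_subtype
      refine Finite.of_injective (fun y => (⟨b.left y, by rw [hfib]; exact ⟨y, rfl⟩⟩ :
        ↥(Points.ofPt φ ⁻¹' {Points.ofPt φ u}))) ?_
      intro y y' hyy'
      exact hbinj (congrArg Subtype.val hyy')
    have hce : Etale c.left := hφ.property q _ c sqT.flip
    exact ⟨⟨z⟩, isFinite_of_etale_of_finite (L := k') c.left⟩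
  · rintro ⟨k, _, str, q, rfl, hm, hT⟩
    have hrep := hφ.rep
    let E : Over S := hrep.pullback q
    let e2 : E ⟶ U := hrep.fst' q
    let e1 : E ⟶ Over.mk str := hrep.snd q
    have sqE : IsPullback ((yon S).map e1) ((yon S).map e2) q φ := (hrep.isPullback' q).flip
    obtain ⟨⟨z⟩, hfin⟩ := hT E e1 _ sqE
    have hfib := fibre_subset_range_of_isPullback str q e1 e2 sqE
    have hEfin : Finite ↥E.left := finite_of_isFinite_field (K := k) e1.left
    refine ⟨⟨e2.left z, ?_⟩, ?_, ?_⟩
    · have : e2.left z ∈ Points.ofPt φ ⁻¹' {Points.mk (fpOfHom str q)} := by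
        rw [hfib]
        exact ⟨z, rfl⟩
      exact this
    · rw [hfib]
      exact Set.finite_range _
    · intro R s t sq
      exact finite_fibre_kernelPair_of_isFinite_fibre str q (hX.representable_from_yon q) e1 e2 sqE
        hfin sq

end Groth.Agent.H3.Decent
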