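import Groth.Agent.Lib.Helper3.Decent.FiniteFibres
import Groth.Agent.Lib.Helper5.AlgSp.DiagPres

set_option autoImplicit false
universe u
open CategoryTheory CategoryTheory.Limits AlgebraicGeometry Topology TopologicalSpace
open AlgSp

namespace Groth.Agent.H3.Decent
open Groth.Agent.H5.AlgSp
variable {S : Scheme.{u}}

/-- on a quasi-separated algebraic space, every morphism from the spectrum of a field is
quasi-compact -/
theorem repWith_quasiCompact_of_isQuasiSeparatedSp {X : Sp S} (hX : IsAlgSpace X)
    (hqs : IsQuasiSeparatedSp X) {K : Type u} [Field K] (str : Spec (CommRingCat.of K) ⟶ S)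
    (ξ : (yon S).obj (Over.mk str) ⟶ X) : RepWith @QuasiCompact ξ := by
  have hrep : Representable ξ := hX.representable_from_yon ξ
  refine ⟨hrep, fun T V g fst snd sq => ?_⟩
  obtain ⟨t, rfl⟩ := (yon S).map_surjective fst
  have h1 : QuasiCompact (prod.lift t snd).left := prop_prodLift_of_repWith_diag hqs sq
  have h2 : QuasiCompact (prod.snd (X := Over.mk str) (Y := T)).left := by
    rw [← Over.prodLeftIsoPullback_hom_snd]
    have : QuasiCompact (Over.mk str).hom := quasiCompact_of_field str
    infer_instance
  have h3 : snd.left = (prod.lift t snd).left ≫ (prod.snd (X := Over.mk str) (Y := T)).left := by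
    rw [← Over.comp_left, prod.lift_snd]
  change QuasiCompact snd.left
  rw [h3]
  infer_instance

theorem isDecent_of_isQuasiSeparatedSp {X : Sp S} (hX : IsAlgSpace X)
    (hqs : IsQuasiSeparatedSp X) : IsDecent X := by
  rw [isDecent_iff]
  intro x
  obtain ⟨k, _, str, φ, rfl⟩ := exists_fpOfHom x
  have hq := repWith_quasiCompact_of_isQuasiSeparatedSp hX hqs str φ
  exact exists_qc_mono_point_of_finite_fibres hX _ (fun U φ' hU hφ R s t sq =>
    ⟨finite_fibre_of_quasiCompact_point hφ str φ hq,
      finite_fibre_kernelPair_of_quasiCompact_point str φ hq hφ sq⟩)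

end Groth.Agent.H3.Decent
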