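import Groth.Agent.Lib.Helper3.Decent.FiniteFibres
import Groth.Agent.Lib.Helper3.Decent.QuasiSepDecent
import Groth.Agent.Lib.Helper3.EtaleDeg.Noeth
import Groth.Agent.Lib.Helper3.AlgSpCov.RedNoeth
import Groth.Agent.Lib.Helper5.AlgSp.DiagPres
import Groth.Agent.Lib.Helper5.AlgSp.PointsTop
import Groth.Agent.Lib.Helper3.FinQuot.NormShrink

/-!
# Locally Noetherian decent spaces are quasi-separated (helper3)
-/

set_option autoImplicit false
set_option linter.unusedSectionVars false
universe u

open CategoryTheory CategoryTheory.Limits AlgebraicGeometry TopologicalSpace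
open AlgSp

namespace Groth.Agent.H3.Decent

open Groth.Agent.H5.AlgSp Groth.Agent.H3.EtaleDeg

variable {S : Scheme.{u}}

/-- the second projection of the fibre product of two charts from separated schemes is separated -/
theorem isSeparated_snd_of_isPullback {X : Sp S} {U V R : Over S} (φ : (yon S).obj U ⟶ X)
    (ψ : (yon S).obj V ⟶ X) (t : R ⟶ U) (s : R ⟶ V)
    (sq : IsPullback ((yon S).map t) ((yon S).map s) φ ψ) [IsSeparated U.hom] [IsSeparated V.hom] :
    IsSeparated s.left := by
  have hs : s.left ≫ V.hom = R.hom := Over.w s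
  have ht : t.left ≫ U.hom = R.hom := Over.w t
  let m : R.left ⟶ pullback U.hom V.hom := pullback.lift t.left s.left (by rw [hs, ht])
  have hm : Mono m := by
    constructor
    intro T a b hab
    have h1 : a ≫ t.left = b ≫ t.left := by
      have := congrArg (· ≫ pullback.fst U.hom V.hom) hab
      simpa only [Category.assoc, m, pullback.lift_fst] using this
    have h2 : a ≫ s.left = b ≫ s.left := by
      have := congrArg (· ≫ pullback.snd U.hom V.hom) hab
      simpa only [Category.assoc, m, pullback.lift_snd] using this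
    let T' : Over S := Over.mk (a ≫ R.hom)
    let a' : T' ⟶ R := Over.homMk a rfl
    let b' : T' ⟶ R := Over.homMk b (by
      change b ≫ R.hom = a ≫ R.hom
      rw [← hs, ← Category.assoc, ← h2, Category.assoc])
    have h3 : (yon S).map a' = (yon S).map b' := by
      apply sq.hom_ext
      · rw [← Functor.map_comp, ← Functor.map_comp]
        congr 1
        ext
        exact h1
      · rw [← Functor.map_comp, ← Functor.map_comp]
        congr 1
        ext
        exact h2
    exact congrArg CommaMorphism.left ((yon S).map_injective h3)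
  have h4 : s.left ≫ V.hom = m ≫ pullback.fst U.hom V.hom ≫ U.hom := by
    rw [← Category.assoc, pullback.lift_fst, hs, ht]
  have : IsSeparated (s.left ≫ V.hom) := by
    rw [h4]
    infer_instance
  exact IsSeparated.of_comp s.left V.hom

/-- The fibre over a point represented by a quasi-compact morphism from the spectrum of a field
of the fibre product of two affine etale charts is finite. -/
theorem finite_fibre_pullback_of_quasiCompact_point {X : Sp S} {K : Type u} [Field K]
    (str : Spec (CommRingCat.of K) ⟶ S) (ξ : (yon S).obj (Over.mk str) ⟶ X)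
    (hq : RepWith @QuasiCompact ξ) {U V : Over S} [IsAffine U.left] [IsAffine V.left]
    {φ : (yon S).obj U ⟶ X} {ψ : (yon S).obj V ⟶ X}
    (hφ : RepWith @Etale φ) (hψ : RepWith @Etale ψ) {R : Over S} {t : R ⟶ U} {s : R ⟶ V}
    (sq : IsPullback ((yon S).map t) ((yon S).map s) φ ψ) :
    (Points.ofPt ((yon S).map t ≫ φ) ⁻¹' {Points.mk (fpOfHom str ξ)}).Finite := by
  have hrep := hq.rep
  have haff : IsAffine (Over.mk str).left := inferInstanceAs (IsAffine (Spec (CommRingCat.of K)))
  have hart : IsLocallyArtinian (Over.mk str).left := by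
    change IsLocallyArtinian (Spec (CommRingCat.of K))
    rw [Scheme.isLocallyArtinianScheme_Spec]
    infer_instance
  -- the fibres of the charts
  let E : Over S := hrep.pullback φ
  let e1 : E ⟶ Over.mk str := hrep.fst' φ
  let e2 : E ⟶ U := hrep.snd φ
  have sqE : IsPullback ((yon S).map e1) ((yon S).map e2) ξ φ := hrep.isPullback' φ
  have hqc : QuasiCompact e2.left := hq.property_snd φ
  have hT : CompactSpace E.left := QuasiCompact.compactSpace_of_compactSpace e2.left
  have he1 : Etale e1.left := by
    have := (RepWith @Etale).of_isPullback sqE.flip hφ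
    exact (repWith_yon_map_iff @Etale e1).1 this
  have hlqf : LocallyQuasiFinite e1.left := locallyQuasiFinite_of_etale _
  have hsqc : QuasiCompact e1.left := inferInstance
  have hfin1 : IsFinite e1.left := IsFinite.of_locallyQuasiFinite e1.left
  let E' : Over S := hrep.pullback ψ
  let e1' : E' ⟶ Over.mk str := hrep.fst' ψ
  let e2' : E' ⟶ V := hrep.snd ψ
  have sqE' : IsPullback ((yon S).map e1') ((yon S).map e2') ξ ψ := hrep.isPullback' ψ
  have hqc' : QuasiCompact e2'.left := hq.property_snd ψ
  have hT' : CompactSpace E'.left := QuasiCompact.compactSpace_of_compactSpace e2'.left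
  have he1' : Etale e1'.left := by
    have := (RepWith @Etale).of_isPullback sqE'.flip hψ
    exact (repWith_yon_map_iff @Etale e1').1 this
  have hlqf' : LocallyQuasiFinite e1'.left := locallyQuasiFinite_of_etale _
  have hsqc' : QuasiCompact e1'.left := inferInstance
  have hfin1' : IsFinite e1'.left := IsFinite.of_locallyQuasiFinite e1'.left
  have hPfin : Finite ↥(pullback e1.left e1'.left) := by
    have h1 : IsFinite (pullback.fst e1.left e1'.left ≫ e1.left) := inferInstance
    have h2 := Scheme.Hom.finite_preimage_singleton (pullback.fst e1.left e1'.left ≫ e1.left)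
      (IsLocalRing.closedPoint K)
    have h3 : (pullback.fst e1.left e1'.left ≫ e1.left) ⁻¹' {IsLocalRing.closedPoint K} =
        Set.univ := by
      ext y
      simp only [Set.mem_preimage, Set.mem_univ, iff_true]
      exact Subsingleton.elim (α := ↥(Spec (CommRingCat.of K))) _ _
    exact Set.finite_univ_iff.1 (h3 ▸ h2)
  -- the fibre of the fibre product
  let ER : Over S := hrep.pullback ((yon S).map t ≫ φ)
  let r1 : ER ⟶ Over.mk str := hrep.fst' ((yon S).map t ≫ φ)
  let r2 : ER ⟶ R := hrep.snd ((yon S).map t ≫ φ)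
  have sqR : IsPullback ((yon S).map r1) ((yon S).map r2) ξ ((yon S).map t ≫ φ) :=
    hrep.isPullback' _
  obtain ⟨a, ha⟩ := (yon S).map_surjective (sqE.lift ((yon S).map r1) ((yon S).map (r2 ≫ t))
    (by rw [Functor.map_comp, Category.assoc]; exact sqR.w))
  obtain ⟨b, hb⟩ := (yon S).map_surjective (sqE'.lift ((yon S).map r1) ((yon S).map (r2 ≫ s))
    (by rw [Functor.map_comp, Category.assoc, ← sq.w]; exact sqR.w))
  have ha1 : a ≫ e1 = r1 := by
    apply (yon S).map_injective
    rw [Functor.map_comp, ha, sqE.lift_fst]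
  have ha2 : a ≫ e2 = r2 ≫ t := by
    apply (yon S).map_injective
    rw [Functor.map_comp, ha, sqE.lift_snd]
  have hb1 : b ≫ e1' = r1 := by
    apply (yon S).map_injective
    rw [Functor.map_comp, hb, sqE'.lift_fst]
  have hb2 : b ≫ e2' = r2 ≫ s := by
    apply (yon S).map_injective
    rw [Functor.map_comp, hb, sqE'.lift_snd]
  have wab : a.left ≫ e1.left = b.left ≫ e1'.left := by
    have := congrArg CommaMorphism.left (ha1.trans hb1.symm)
    exact this
  have hmono : Mono (pullback.lift a.left b.left wab) := by
    refine ⟨fun {T₀} x y hxy => ?_⟩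
    have h1 : x ≫ a.left = y ≫ a.left := by
      have := congrArg (· ≫ pullback.fst e1.left e1'.left) hxy
      simpa only [Category.assoc, pullback.lift_fst] using this
    have h2 : x ≫ b.left = y ≫ b.left := by
      have := congrArg (· ≫ pullback.snd e1.left e1'.left) hxy
      simpa only [Category.assoc, pullback.lift_snd] using this
    let T : Over S := Over.mk (x ≫ ER.hom)
    let x' : T ⟶ ER := Over.homMk x rfl
    let y' : T ⟶ ER := Over.homMk y (by
      change y ≫ ER.hom = x ≫ ER.hom
      rw [← Over.w a, ← Category.assoc, ← h1, Category.assoc])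
    have h1' : x' ≫ a = y' ≫ a := by ext; exact h1
    have h2' : x' ≫ b = y' ≫ b := by ext; exact h2
    have k1 : x' ≫ r1 = y' ≫ r1 := by
      rw [← ha1, ← Category.assoc, h1', Category.assoc]
    have k2t : (x' ≫ r2) ≫ t = (y' ≫ r2) ≫ t := by
      rw [Category.assoc, Category.assoc, ← ha2, ← Category.assoc, h1', Category.assoc]
    have k2s : (x' ≫ r2) ≫ s = (y' ≫ r2) ≫ s := by
      rw [Category.assoc, Category.assoc, ← hb2, ← Category.assoc, h2', Category.assoc]
    have k2 : x' ≫ r2 = y' ≫ r2 := by
      apply (yon S).map_injective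
      apply sq.hom_ext
      · rw [← Functor.map_comp, ← Functor.map_comp, k2t]
      · rw [← Functor.map_comp, ← Functor.map_comp, k2s]
    have : x' = y' := by
      apply (yon S).map_injective
      apply sqR.hom_ext
      · rw [← Functor.map_comp, ← Functor.map_comp, k1]
      · rw [← Functor.map_comp, ← Functor.map_comp, k2]
    exact congrArg CommaMorphism.left this
  have hERfin : Finite ↥ER.left :=
    Finite.of_injective _ (Scheme.Hom.injective (pullback.lift a.left b.left wab))
  refine (Set.finite_range r2.left).subset ?_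
  intro r hr
  have hxr : Points.map ξ (Points.ofScheme (Over.mk str) (IsLocalRing.closedPoint K)) =
      Points.ofPt ((yon S).map t ≫ φ) r := by
    rw [← Points.ofPt_eq_map_ofScheme, ofPt_closedPoint]
    exact hr.symm
  obtain ⟨v, hv1, -⟩ := exists_point_of_isPullback sqR _ r hxr
  exact ⟨v, hv1⟩

/-- **The fibre product of two affine étale charts of a decent space, one of them Noetherian, is
quasi-compact.** -/
theorem compactSpace_pullback_of_isDecent {X : Sp S} (hd : IsDecent X) {U V : Over S}
    [IsAffine U.left] [IsAffine V.left] [IsLocallyNoetherian V.left]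
    {φ : (yon S).obj U ⟶ X} {ψ : (yon S).obj V ⟶ X}
    (hφ : RepWith @Etale φ) (hψ : RepWith @Etale ψ) {R : Over S} {t : R ⟶ U} {s : R ⟶ V}
    (sq : IsPullback ((yon S).map t) ((yon S).map s) φ ψ) : CompactSpace ↥R.left := by
  have hse : Etale s.left := hφ.property ψ _ s sq
  have hsep : IsSeparated s.left := isSeparated_snd_of_isPullback φ ψ t s sq
  refine compactSpace_of_finite_fibres s.left fun v => ?_
  obtain ⟨K, _, str, ξ, hx, -, hq⟩ := isDecent_iff.1 hd (Points.ofPt ψ v)
  refine (finite_fibre_pullback_of_quasiCompact_point str ξ hq hφ hψ sq).subset ?_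
  intro r hr
  change Points.ofPt ((yon S).map t ≫ φ) r = _
  rw [sq.w, ofPt_yon_map_comp, hx]
  congr 1

/-- the fibre product of the restrictions of a chart to two opens, as an iterated pullback, and its
image in the kernel pair -/
theorem exists_pullback_restrict {X : Sp S} {U R : Over S} (p : (yon S).obj U ⟶ X) (t s : R ⟶ U)
    (sq : IsPullback ((yon S).map t) ((yon S).map s) p p) (V W : U.left.Opens) :
    ∃ (R' : Over S) (t' : R' ⟶ overOpen U V) (s' : R' ⟶ overOpen U W) (m : R' ⟶ R),
      IsPullback ((yon S).map t') ((yon S).map s') ((yon S).map (overOpenι U V) ≫ p)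
        ((yon S).map (overOpenι U W) ≫ p) ∧
      Set.range m.left = t.left ⁻¹' (V : Set U.left) ∩ s.left ⁻¹' (W : Set U.left) := by
  have h1 : IsPullback (pullback.fst (overOpenι U V) t) (pullback.snd (overOpenι U V) t)
      (overOpenι U V) t := IsPullback.of_hasPullback _ _
  set RV : Over S := pullback (overOpenι U V) t with hRV
  set a : RV ⟶ overOpen U V := pullback.fst (overOpenι U V) t with ha
  set b : RV ⟶ R := pullback.snd (overOpenι U V) t with hb
  have h2 : IsPullback (pullback.fst (b ≫ s) (overOpenι U W)) (pullback.snd (b ≫ s) (overOpenι U W))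
      (b ≫ s) (overOpenι U W) := IsPullback.of_hasPullback _ _
  set R' : Over S := pullback (b ≫ s) (overOpenι U W) with hR'
  set c : R' ⟶ RV := pullback.fst (b ≫ s) (overOpenι U W) with hc
  set d : R' ⟶ overOpen U W := pullback.snd (b ≫ s) (overOpenι U W) with hd
  refine ⟨R', c ≫ a, d, c ≫ b, ?_, ?_⟩
  · -- pasting
    have k1 : IsPullback ((yon S).map a) ((yon S).map b ≫ (yon S).map s)
        ((yon S).map (overOpenι U V) ≫ p) p := (h1.map (yon S)).paste_vert sq
    have k2 : IsPullback ((yon S).map c) ((yon S).map d) ((yon S).map b ≫ (yon S).map s)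
        ((yon S).map (overOpenι U W)) := by
      have := h2.map (yon S)
      rwa [Functor.map_comp] at this
    rw [Functor.map_comp]
    exact k2.paste_horiz k1
  · have h1' : IsPullback a.left b.left (overOpenι U V).left t.left := h1.map (Over.forget S)
    have h2' : IsPullback c.left d.left (b ≫ s).left (overOpenι U W).left :=
      h2.map (Over.forget S)
    ext r
    constructor
    · rintro ⟨z, rfl⟩
      constructor
      · change t.left ((c ≫ b).left z) ∈ V
        have : (c ≫ b).left ≫ t.left = (c ≫ a).left ≫ V.ι := by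
          change (c ≫ b).left ≫ t.left = (c ≫ a).left ≫ (overOpenι U V).left
          rw [← Over.comp_left, ← Over.comp_left, Category.assoc, Category.assoc, h1.w]
        rw [← Scheme.Hom.comp_apply, this, Scheme.Hom.comp_apply]
        exact ((c ≫ a).left z).2
      · change s.left ((c ≫ b).left z) ∈ W
        have : (c ≫ b).left ≫ s.left = d.left ≫ W.ι := by
          change (c ≫ b).left ≫ s.left = d.left ≫ (overOpenι U W).left
          rw [← Over.comp_left, ← Over.comp_left, Category.assoc, h2.w]
        rw [← Scheme.Hom.comp_apply, this, Scheme.Hom.comp_apply]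
        exact (d.left z).2
    · rintro ⟨hrV, hrW⟩
      obtain ⟨y, hy1, hy2⟩ := Groth.Agent.H3.FinQuot.exists_preimage_of_isPullback h1'
        (⟨t.left r, hrV⟩ : ↥V) r rfl
      obtain ⟨z, hz1, hz2⟩ := Groth.Agent.H3.FinQuot.exists_preimage_of_isPullback h2' y
        (⟨s.left r, hrW⟩ : ↥W) (by
          rw [Over.comp_left, Scheme.Hom.comp_apply, hy2]
          rfl)
      refine ⟨z, ?_⟩
      rw [Over.comp_left, Scheme.Hom.comp_apply, hz1, hy2]

/-- **Quasi-separatedness may be tested on affine opens of a chart.** -/
theorem isQuasiSeparatedSp_of_forall_affine {X : Sp S} (hX : IsAlgSpace X) {U : Over S}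
    [QuasiSeparatedSpace ↥U.left] (p : (yon S).obj U ⟶ X) (he : RepWith @Etale p)
    (hs : RepWith @Surjective p)
    (H : ∀ V W : U.left.Opens, IsAffineOpen V → IsAffineOpen W →
      ∀ (R' : Over S) (t' : R' ⟶ overOpen U V) (s' : R' ⟶ overOpen U W),
        IsPullback ((yon S).map t') ((yon S).map s') ((yon S).map (overOpenι U V) ≫ p)
          ((yon S).map (overOpenι U W) ≫ p) → CompactSpace ↥R'.left) :
    IsQuasiSeparatedSp X := by
  have hrep := he.rep
  let R : Over S := hrep.pullback p
  let t : R ⟶ U := hrep.fst' p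
  let s : R ⟶ U := hrep.snd p
  have sq : IsPullback ((yon S).map t) ((yon S).map s) p p := hrep.isPullback' p
  have : Sheaf.IsLocallySurjective p := isLocallySurjective_of_etale_surjective p he hs
  refine (repWith_diag_iff_of_chart hX.diag sq @QuasiCompact).2 ?_
  set f : R.left ⟶ (U ⨯ U).left := (prod.lift t s).left with hf
  have hUq : QuasiSeparated U.hom := inferInstance
  have h1 : QuasiSeparated (pullback.snd U.hom U.hom) := inferInstance
  have h2 : QuasiSeparated (prod.snd (X := U) (Y := U)).left := by
    rw [← Over.prodLeftIsoPullback_hom_snd]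
    infer_instance
  have hPq : QuasiSeparatedSpace ↥(U ⨯ U).left :=
    quasiSeparatedSpace_of_quasiSeparated (prod.snd (X := U) (Y := U)).left
  have hft : f ≫ (prod.fst (X := U) (Y := U)).left = t.left := by
    rw [hf, ← Over.comp_left, prod.lift_fst]
  have hfs : f ≫ (prod.snd (X := U) (Y := U)).left = s.left := by
    rw [hf, ← Over.comp_left, prod.lift_snd]
  -- the open cover of the target
  let O : U.left.affineOpens × U.left.affineOpens → (U ⨯ U).left.Opens := fun i =>
    (prod.fst (X := U) (Y := U)).left ⁻¹ᵁ i.1.1 ⊓ (prod.snd (X := U) (Y := U)).left ⁻¹ᵁ i.2.1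
  have hO : iSup O = ⊤ := by
    rw [eq_top_iff]
    intro z _
    obtain ⟨_, ⟨V, hV, rfl⟩, hzV, -⟩ := U.left.isBasis_affineOpens.exists_subset_of_mem_open
      (Set.mem_univ ((prod.fst (X := U) (Y := U)).left z)) isOpen_univ
    obtain ⟨_, ⟨W, hW, rfl⟩, hzW, -⟩ := U.left.isBasis_affineOpens.exists_subset_of_mem_open
      (Set.mem_univ ((prod.snd (X := U) (Y := U)).left z)) isOpen_univ
    exact TopologicalSpace.Opens.mem_iSup.2 ⟨(⟨V, hV⟩, ⟨W, hW⟩), hzV, hzW⟩
  refine (IsZariskiLocalAtTarget.iff_of_iSup_eq_top (P := @QuasiCompact) O hO).2 fun i => ?_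
  obtain ⟨R', t', s', m, hpb, hrange⟩ := exists_pullback_restrict p t s sq i.1.1 i.2.1
  have hR'c : CompactSpace ↥R'.left := H i.1.1 i.2.1 i.1.2 i.2.2 R' t' s' hpb
  have hpre : ((f ⁻¹ᵁ O i : R.left.Opens) : Set ↥R.left) =
      t.left ⁻¹' (i.1.1 : Set U.left) ∩ s.left ⁻¹' (i.2.1 : Set U.left) := by
    ext r
    simp only [O, Scheme.Hom.coe_preimage, TopologicalSpace.Opens.coe_inf, Set.mem_preimage,
      Set.mem_inter_iff, SetLike.mem_coe]
    rw [← Scheme.Hom.comp_apply, ← Scheme.Hom.comp_apply, hft, hfs]
  have hc : IsCompact ((f ⁻¹ᵁ O i : R.left.Opens) : Set ↥R.left) := by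
    rw [hpre, ← hrange]
    exact isCompact_range m.left.continuous
  have hsrc : CompactSpace ↥(f ⁻¹ᵁ O i).toScheme := isCompact_iff_compactSpace.1 hc
  have htgt : QuasiSeparatedSpace ↥(O i).toScheme :=
    QuasiSeparatedSpace.of_isOpenEmbedding (O i).ι.isOpenEmbedding
  infer_instance

/-- **A locally Noetherian decent algebraic space is quasi-separated over the base.** -/
theorem isQuasiSeparatedSp_of_isLocNoethSp_of_isDecent {X : Sp S} (hX : IsAlgSpace X)
    (hN : IsLocNoethSp X) (hd : IsDecent X) : IsQuasiSeparatedSp X := by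
  obtain ⟨U, p, he, hs, hU⟩ := hN
  have hUN : IsLocallyNoetherian U.left := hU
  refine isQuasiSeparatedSp_of_forall_affine hX p he hs ?_
  intro V W hV hW R' t' s' hpb
  have h1 : IsAffine (overOpen U V).left := hV
  have h2 : IsAffine (overOpen U W).left := hW
  have h3 : IsLocallyNoetherian (overOpen U W).left :=
    (inferInstance : IsLocallyNoetherian W.toScheme)
  exact compactSpace_pullback_of_isDecent hd (repWith_etale_restrict he V)
    (repWith_etale_restrict he W) hpb

end Groth.Agent.H3.Decent
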