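import Mathlib

/-!
# Minimal primes and quasi-compact opens (helper3)
-/

set_option autoImplicit false

open PrimeSpectrum

namespace Groth.Agent.H3.Decent

variable {A : Type*} [CommRing A]

/-- an element of a minimal prime is killed, up to a power, by an element outside the prime -/
lemma exists_mul_pow_eq_zero_of_mem_minimalPrimes {q : Ideal A} (hq : q ∈ minimalPrimes A)
    {h : A} (hh : h ∈ q) : ∃ g : A, g ∉ q ∧ ∃ N : ℕ, g * h ^ N = 0 := by
  have hqp : q.IsPrime := hq.1.1
  have h1 := IsLocalization.AtPrime.radical_map_of_mem_minimalPrimes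
    (A := Localization.AtPrime q) q ⊥ hq
  have h2 : algebraMap A (Localization.AtPrime q) h ∈
      (Ideal.map (algebraMap A (Localization.AtPrime q)) ⊥).radical := by
    rw [h1]
    exact Ideal.mem_map_of_mem _ hh
  rw [Ideal.map_bot] at h2
  obtain ⟨N, hN⟩ := h2
  rw [Ideal.mem_bot, ← map_pow] at hN
  obtain ⟨⟨g, hg⟩, hg'⟩ := (IsLocalization.map_eq_zero_iff q.primeCompl _ _).1 hN
  exact ⟨g, hg, N, hg'⟩

/-- **A minimal prime outside a quasi-compact open has a basic open neighbourhood disjoint from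
it.** -/
theorem exists_basicOpen_disjoint_of_minimal (u : PrimeSpectrum A)
    (hu : u.asIdeal ∈ minimalPrimes A) {E : Set (PrimeSpectrum A)} (hEc : IsCompact E)
    (hEo : IsOpen E) (huE : u ∉ E) :
    ∃ g : A, u ∈ basicOpen g ∧ ∀ v ∈ basicOpen g, v ∉ E := by
  classical
  obtain ⟨T, hT⟩ := isCompact_isOpen_iff.1 ⟨hEc, hEo⟩
  have huT : ∀ h ∈ T, h ∈ u.asIdeal := by
    intro h hh
    by_contra hcon
    apply huE
    rw [← hT]
    intro hz
    exact hcon (hz hh)
  choose! gf hgf1 hgf2 using fun h (hh : h ∈ T) =>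
    exists_mul_pow_eq_zero_of_mem_minimalPrimes hu (huT h hh)
  refine ⟨∏ h ∈ T, gf h, ?_, ?_⟩
  · change (∏ h ∈ T, gf h) ∉ u.asIdeal
    intro hmem
    obtain ⟨h, hh, hmem'⟩ := (u.isPrime.prod_mem_iff).1 hmem
    exact hgf1 h hh hmem'
  · intro v hv hvE
    rw [← hT] at hvE
    have : ∃ h ∈ T, h ∉ v.asIdeal := by
      by_contra hcon
      push Not at hcon
      exact hvE (fun h hh => hcon h hh)
    obtain ⟨h, hh, hhv⟩ := this
    obtain ⟨N, hN⟩ := hgf2 h hh
    have hv' : (∏ h ∈ T, gf h) ∉ v.asIdeal := hv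
    have hgv : gf h ∉ v.asIdeal := fun hmem =>
      hv' ((v.isPrime.prod_mem_iff).2 ⟨h, hh, hmem⟩)
    have h0 : gf h * h ^ N ∈ v.asIdeal := by
      rw [hN]
      exact v.asIdeal.zero_mem
    rcases v.isPrime.mem_or_mem h0 with h1 | h1
    · exact hgv h1
    · exact hhv (v.isPrime.mem_of_pow_mem N h1)

end Groth.Agent.H3.Decent
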