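import Groth.Agent.Lib.Helper3.Decent.ConstDeg
import Groth.Agent.Lib.Helper3.Decent.MinPrimeOpen
import Groth.Agent.Lib.Helper3.Decent.QuasiSepDecent
import Groth.Agent.Lib.Helper3.EtaleDeg.Compact
import Groth.Agent.Lib.Helper3.AlgSpProp.HasAt
import Groth.Agent.Lib.Helper3.AlgSpMor.SpDim
import Groth.Agent.Lib.Helper5.AlgSp.DiagPres
import Groth.Agent.Lib.Helper3.Decent.GenericPt

/-!
# Points of codimension zero of quasi-separated spaces lie in the schematic locus (helper3)
-/

set_option autoImplicit false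
set_option linter.unusedSectionVars false
universe u

open CategoryTheory CategoryTheory.Limits AlgebraicGeometry TensorProduct
open AlgSp

namespace Groth.Agent.H3.Decent

open Groth.Agent.H5.AlgSp Groth.Agent.H3.FinQuot Groth.Agent.H3.EtaleDeg
  Groth.Agent.H3.AlgSpProp

variable {S : Scheme.{u}}

/-- `pullback.mapDesc` along a monomorphism is an isomorphism -/
lemma isIso_mapDesc_of_mono {C : Type*} [Category C] [HasPullbacks C] {X Y T T' : C} (f : X ⟶ T)
    (g : Y ⟶ T) (i : T ⟶ T') [Mono i] : IsIso (pullback.mapDesc f g i) := by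
  have h := pullback_map_diagonal_isPullback f g i
  have : IsIso (pullback.diagonal i) := (pullback.isIso_diagonal_iff i).2 inferInstance
  exact h.isIso_snd_of_isIso

/-- every point of an algebraic space lies in the image of an affine étale chart whose structure
morphism factors through an affine open of the base -/
lemma exists_affine_etale_chart_small {X : Sp S} (hX : IsAlgSpace X) (x : Points X) :
    ∃ (A : CommRingCat.{u}) (str : Spec A ⟶ S) (p : (yon S).obj (Over.mk str) ⟶ X)
      (u : ↥(Spec A)) (S₀ : S.Opens), RepWith @Etale p ∧ Points.ofPt p u = x ∧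
        IsAffineOpen S₀ ∧ Set.range str ⊆ S₀ := by
  obtain ⟨U₀, a, hae, has⟩ := hX.atlas
  obtain ⟨u₀, hu₀⟩ := ofPt_surjective_of_repWith has x
  obtain ⟨_, ⟨S₀, hS₀, rfl⟩, hs₀, -⟩ :=
    S.isBasis_affineOpens.exists_subset_of_mem_open (Set.mem_univ (U₀.hom u₀)) isOpen_univ
  let V₀ : U₀.left.Opens := U₀.hom ⁻¹ᵁ S₀
  have hu₀V : u₀ ∈ V₀ := hs₀
  obtain ⟨A, i, hi, y, hy⟩ := (V₀ : Scheme.{u}).exists_Spec_apply_eq ⟨u₀, hu₀V⟩
  let k : Spec A ⟶ U₀.left := i ≫ V₀.ι
  let j : Over.mk (k ≫ U₀.hom) ⟶ U₀ := Over.homMk k rfl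
  refine ⟨A, k ≫ U₀.hom, (yon S).map j ≫ a, y, S₀, ?_, ?_, hS₀, ?_⟩
  · exact MorphismProperty.comp_mem _ _ _ ((repWith_yon_map_iff @Etale j).2
      (inferInstanceAs (Etale (i ≫ V₀.ι)))) hae
  · rw [ofPt_yon_map_comp]
    change Points.ofPt a ((i ≫ V₀.ι) y) = x
    rw [Scheme.Hom.comp_apply, hy, ← hu₀]
    rfl
  · rintro _ ⟨z, rfl⟩
    change ((i ≫ V₀.ι) ≫ U₀.hom) z ∈ S₀
    rw [Scheme.Hom.comp_apply, Scheme.Hom.comp_apply]
    exact (i z).2

/-- the fibre square of an affine scheme over `S` whose structure morphism factors through an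
affine open is affine -/
lemma isAffine_pullback_of_range_subset {A : CommRingCat.{u}} (str : Spec A ⟶ S) (S₀ : S.Opens)
    (hS₀ : IsAffineOpen S₀) (hr : Set.range str ⊆ S₀) : IsAffine (pullback str str) := by
  have hr' : Set.range str ⊆ Set.range S₀.ι := by
    rw [Scheme.Opens.range_ι]
    exact hr
  let c : Spec A ⟶ S₀.toScheme := IsOpenImmersion.lift S₀.ι str hr'
  have hc : c ≫ S₀.ι = str := IsOpenImmersion.lift_fac _ _ _
  have : IsAffine S₀.toScheme := hS₀
  have : IsIso (pullback.mapDesc c c S₀.ι) := isIso_mapDesc_of_mono c c S₀.ι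
  have h1 : IsAffine (pullback (c ≫ S₀.ι) (c ≫ S₀.ι)) :=
    IsAffine.of_isIso (inv (pullback.mapDesc c c S₀.ι))
  rw [hc] at h1
  exact h1

/-- for a quasi-separated space the kernel pair of a small affine étale chart is quasi-compact -/
lemma compactSpace_kernelPair_of_isQuasiSeparatedSp {X : Sp S} (hqs : IsQuasiSeparatedSp X)
    {A : CommRingCat.{u}} (str : Spec A ⟶ S) (S₀ : S.Opens)
    (hS₀ : IsAffineOpen S₀) (hr : Set.range str ⊆ S₀)
    {p : (yon S).obj (Over.mk str) ⟶ X} {R : Over S} {s t : R ⟶ Over.mk str}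
    (sq : IsPullback ((yon S).map t) ((yon S).map s) p p) : CompactSpace ↥R.left := by
  have h1 : QuasiCompact (prod.lift t s).left := prop_prodLift_of_repWith_diag hqs sq
  have h2 : IsAffine (pullback (Over.mk str).hom (Over.mk str).hom) :=
    isAffine_pullback_of_range_subset str S₀ hS₀ hr
  have h3 : IsAffine (Over.mk str ⨯ Over.mk str).left :=
    IsAffine.of_isIso (Over.prodLeftIsoPullback (Over.mk str) (Over.mk str)).hom
  exact QuasiCompact.compactSpace_of_compactSpace (prod.lift t s).left

/-- a point of `Spec A` with zero-dimensional local ring is a minimal prime -/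
lemma mem_minimalPrimes_of_ringKrullDim_stalk_eq_zero {A : CommRingCat.{u}} (u : ↥(Spec A))
    (hu : ringKrullDim ↥((Spec A).presheaf.stalk u) = 0) :
    (primePt u).asIdeal ∈ minimalPrimes A := by
  rw [ringKrullDim_stalk_eq_coheight] at hu
  have h0 : Order.coheight u = 0 := by exact_mod_cast hu
  rw [Order.coheight_eq_zero] at h0
  rw [minimalPrimes_eq_minimals]
  refine ⟨(primePt u).isPrime, ?_⟩
  intro q hq hle
  let v : PrimeSpectrum A := ⟨q, hq⟩
  have h1 : v ≤ primePt u := hle
  rw [PrimeSpectrum.le_iff_specializes] at h1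
  have h2 : (specPt v) ⤳ u := h1
  have h3 : u ⤳ specPt v := h0 (show u ≤ specPt v from h2)
  have h4 : primePt u ≤ v := (PrimeSpectrum.le_iff_specializes _ _).2 h3
  exact h4

/-- **Points of codimension zero of a quasi-separated algebraic space lie in the schematic
locus.** -/
theorem mem_schematicSet_of_codimZero_of_isQuasiSeparatedSp {X : Sp S} (hX : IsAlgSpace X)
    (hqs : IsQuasiSeparatedSp X) (x : Points X)
    (hx : HasAt (fun U u => ringKrullDim ↥(U.presheaf.stalk u) = 0) X x) :
    x ∈ schematicSet X := by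
  classical
  have hd : IsDecent X := isDecent_of_isQuasiSeparatedSp hX hqs
  have hall := (hasAt_iff_forall (etaleLocalAt_ringKrullDim_stalk 0) hX x).1 hx
  obtain ⟨A, str, p, u, S₀, hp, rfl, hS₀, hr⟩ := exists_affine_etale_chart_small hX x
  have hdim : ringKrullDim ↥((Spec A).presheaf.stalk u) = 0 := hall (Over.mk str) p u hp rfl
  have hmin := mem_minimalPrimes_of_ringKrullDim_stalk_eq_zero u hdim
  -- the kernel pair
  have hrep := hp.rep
  let R : Over S := hrep.pullback p
  let t : R ⟶ Over.mk str := hrep.fst' p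
  let s : R ⟶ Over.mk str := hrep.snd p
  have sq : IsPullback ((yon S).map t) ((yon S).map s) p p := hrep.isPullback' p
  have hse : Etale s.left := hp.property p _ s sq
  have hstr : IsSeparated (Over.mk str).hom := (inferInstance : IsSeparated str)
  have hUaff : IsAffine (Over.mk str).left := (inferInstance : IsAffine (Spec A))
  have hsep : IsSeparated s.left := isSeparated_snd_of_kernelPair p s t sq
  have hlqf : LocallyQuasiFinite s.left := locallyQuasiFinite_of_etale s.left
  have hRc : CompactSpace ↥R.left := compactSpace_kernelPair_of_isQuasiSeparatedSp hqs str S₀ hS₀ hr sq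
  have hsqc : QuasiCompact s.left := by
    have : QuasiSeparatedSpace ↥(Over.mk str).left :=
      (inferInstance : QuasiSeparatedSpace ↥(Spec A))
    have : CompactSpace ↥(Over.mk str).left := (inferInstance : CompactSpace ↥(Spec A))
    exact (quasiCompact_iff_compactSpace s.left).2 hRc
  have hZc : CompactSpace ↥(Over.mk str).left := (inferInstance : CompactSpace ↥(Spec A))
  -- the degree at `u`
  have hex : ∃ N, u ∉ degGE s.left N := by
    obtain ⟨K, _, strK, ξ, hξ, -, hq⟩ := isDecent_iff.1 hd (Points.ofPt p u)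
    have hfinR := finite_fibre_kernelPair_of_quasiCompact_point strK ξ hq hp sq
    have hsub : s.left ⁻¹' {u} ⊆
        Points.ofPt ((yon S).map t ≫ p) ⁻¹' {Points.mk (fpOfHom strK ξ)} := by
      intro r hr
      have hr' : s.left r = u := hr
      change Points.ofPt ((yon S).map t ≫ p) r = _
      rw [ofPt_yon_map_comp, hξ, ← hr']
      exact (ofPt_eq_ofPt_iff sq _ _).2 ⟨r, rfl, rfl⟩
    exact exists_notMem_degGE_of_finite_fibre s.left u (hfinR.subset hsub)
  have hfind0 : Nat.find hex ≠ 0 := by
    intro h0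
    have := Nat.find_spec hex
    rw [h0, degGE_zero] at this
    exact this (Set.mem_univ _)
  obtain ⟨n, hn⟩ := Nat.exists_eq_succ_of_ne_zero hfind0
  have hun : u ∈ degGE s.left n := by
    by_contra hcon
    have := Nat.find_min' hex hcon
    omega
  have hun1 : u ∉ degGE s.left (n + 1) := by
    have := Nat.find_spec hex
    rwa [hn] at this
  -- a basic open neighbourhood of `u` on which the degree is `n`
  have hEc : IsCompact (degGE s.left (n + 1)) := isCompact_degGE (n + 1) s.left
  have hEo : IsOpen (degGE s.left (n + 1)) := isOpen_degGE (n + 1) s.left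
  obtain ⟨g₁, hg₁u, hg₁⟩ := exists_basicOpen_disjoint_of_minimal (primePt u) hmin
    (E := (degGE s.left (n + 1) : Set (PrimeSpectrum A))) hEc hEo hun1
  obtain ⟨_, ⟨g₂, rfl⟩, hg₂u, hg₂⟩ :=
    PrimeSpectrum.isTopologicalBasis_basic_opens.exists_subset_of_mem_open
      (show primePt u ∈ (degGE s.left n : Set (PrimeSpectrum A)) from hun) (isOpen_degGE n s.left)
  have hmem : primePt u ∈ PrimeSpectrum.basicOpen (g₁ * g₂) := by
    rw [PrimeSpectrum.basicOpen_mul]
    exact ⟨hg₁u, hg₂u⟩
  have key := mem_schematicSet_of_constant_degree str p hp s t sq n (g₁ * g₂)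
    (fun v hv => by
      rw [PrimeSpectrum.basicOpen_mul] at hv
      exact hg₂ hv.2)
    (fun v hv => by
      rw [PrimeSpectrum.basicOpen_mul] at hv
      exact hg₁ v hv.1)
    (primePt u) hmem (finite_fibre_of_isDecent hd hp _)
  exact key

/-- the schematic locus of an open subspace maps into the schematic locus -/
lemma map_mem_schematicSet_of_isOpenImmersion {X Y : Sp S} (j : Y ⟶ X)
    (hj : RepWith @IsOpenImmersion j) {y : Points Y} (hy : y ∈ schematicSet Y) :
    Points.map j y ∈ schematicSet X := by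
  obtain ⟨T, i, hi, t, rfl⟩ := hy
  exact ⟨T, i ≫ j, (RepWith @IsOpenImmersion).comp_mem _ _ hi hj, t, (Points.map_ofPt i j t).symm⟩

/-- a representable étale morphism is étale in the sense of the reference -/
lemma isEtaleMor_of_repWith {X Y : Sp S} (j : Y ⟶ X) (hj : RepWith @Etale j) : IsEtaleMor j :=
  fun _ _ hφ => (RepWith @Etale).comp_mem _ _ hφ hj

/-- **Points of codimension zero of a Zariski locally quasi-separated algebraic space lie in the
schematic locus.** -/
theorem mem_schematicSet_of_codimZero_of_zarCover {X : Sp S} (hX : IsAlgSpace X) {ι : Type u}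
    (Xi : ι → Sp S) (hXi : ∀ i, IsAlgSpace (Xi i)) (j : ∀ i, Xi i ⟶ X)
    (hj : ∀ i, RepWith @IsOpenImmersion (j i))
    (hcov : ∀ x : Points X, ∃ i, x ∈ Set.range (Points.map (j i)))
    (hq : ∀ i, IsQuasiSeparatedSp (Xi i)) (x : Points X)
    (hx : HasAt (fun U u => ringKrullDim ↥(U.presheaf.stalk u) = 0) X x) :
    x ∈ schematicSet X := by
  obtain ⟨i, y, rfl⟩ := hcov x
  have hje : IsEtaleMor (j i) :=
    isEtaleMor_of_repWith (j i) (repWith_mono isOpenImmersion_le_etale (hj i))
  have hy : HasAt (fun U u => ringKrullDim ↥(U.presheaf.stalk u) = 0) (Xi i) y :=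
    (hasAt_codimZero_iff_of_isEtaleMor (hXi i) hX (j i) hje y).2 hx
  exact map_mem_schematicSet_of_isOpenImmersion (j i) (hj i)
    (mem_schematicSet_of_codimZero_of_isQuasiSeparatedSp (hXi i) (hq i) y hy)

end Groth.Agent.H3.Decent
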