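import Groth.Agent.Lib.Helper3.Decent.DimZeroScheme
import Groth.Agent.Lib.Helper3.Decent.MonoDiscrete
import Groth.Agent.Lib.Helper3.Decent.MonoPoint
import Groth.Agent.Lib.Helper3.Decent.QSepGeneric
import Groth.Agent.Lib.Helper3.AlgSpMor.EtaleDim
import Groth.Agent.Lib.Helper5.AlgSp.ProdSp
import Groth.Agent.Lib.Helper3.Decent.NoethQSep

/-!
# Quasi-separated algebraic spaces of dimension zero are separated schemes (helper3)
-/

set_option autoImplicit false
set_option linter.unusedSectionVars false
universe u

open CategoryTheory CategoryTheory.Limits AlgebraicGeometry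
open AlgSp

namespace Groth.Agent.H3.Decent

open Groth.Agent.H5.AlgSp Groth.Agent.H3.AlgSpProp Groth.Agent.H3.EtaleDim

variable {S : Scheme.{u}}

lemma enat_eq_zero_of_coe_le {n : ℕ∞} (h : (n : WithBot ℕ∞) ≤ 0) : n = 0 := by
  have h'' : n ≤ 0 := by exact_mod_cast h
  exact nonpos_iff_eq_zero.1 h''

attribute [local instance] specializationOrder

/-- a scheme of dimension at most zero has no nontrivial specializations -/
lemma eq_of_specializes_of_topologicalKrullDim_le_zero {U : Scheme.{u}}
    (h : topologicalKrullDim ↥U ≤ 0) (x y : ↥U) (hxy : x ⤳ y) : x = y := by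
  have h1 : (Order.coheight y : WithBot ℕ∞) ≤ topologicalKrullDim ↥U := by
    rw [topologicalKrullDim_eq_iSup_coheight]
    exact le_iSup (fun x : ↥U => (Order.coheight x : WithBot ℕ∞)) y
  have h2 : Order.coheight y = 0 := enat_eq_zero_of_coe_le (h1.trans h)
  rw [Order.coheight_eq_zero] at h2
  have h3 : y ≤ x := hxy
  have h4 : x ≤ y := h2 h3
  exact (hxy.antisymm h4).eq

/-- the local rings of a scheme of dimension at most zero have dimension zero -/
lemma ringKrullDim_stalk_eq_zero_of_topologicalKrullDim_le_zero {U : Scheme.{u}}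
    (h : topologicalKrullDim ↥U ≤ 0) (u : ↥U) : ringKrullDim ↥(U.presheaf.stalk u) = 0 := by
  rw [ringKrullDim_stalk_eq_coheight]
  have h1 : (Order.coheight u : WithBot ℕ∞) ≤ topologicalKrullDim ↥U := by
    rw [topologicalKrullDim_eq_iSup_coheight]
    exact le_iSup (fun x : ↥U => (Order.coheight x : WithBot ℕ∞)) u
  have h2 : Order.coheight u = 0 := enat_eq_zero_of_coe_le (h1.trans h)
  rw [h2]
  rfl

/-- **A quasi-separated algebraic space of dimension at most zero over a quasi-separated scheme
is a separated scheme all of whose quasi-compact opens are affine.** -/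
theorem exists_separated_scheme_of_dim_le_zero [QuasiSeparatedSpace ↥S] {X : Sp S}
    (hX : IsAlgSpace X) (hqs : IsQuasiSeparatedSp X) (hd : AlgSp.dim X ≤ 0) :
    ∃ (U : Over S) (_ : (yon S).obj U ≅ X), U.left.IsSeparated ∧
      ∀ V : U.left.Opens, IsCompact (V : Set ↥U.left) → IsAffineOpen V := by
  have hchart : ∀ (U : Over S) (a : (yon S).obj U ⟶ X), RepWith @Etale a →
      topologicalKrullDim ↥U.left ≤ 0 := by
    intro U a ha
    refine le_trans ?_ hd
    unfold AlgSp.dim
    exact le_iSup_of_le U (le_iSup_of_le a (le_iSup_of_le ha le_rfl))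
  have hsch : schematicSet X = Set.univ := by
    rw [Set.eq_univ_iff_forall]
    intro x
    apply mem_schematicSet_of_codimZero_of_isQuasiSeparatedSp hX hqs x
    obtain ⟨U₀, a, hae, has⟩ := hX.atlas
    obtain ⟨u, rfl⟩ := ofPt_surjective_of_repWith has x
    exact ⟨U₀, a, u, hae, rfl,
      ringKrullDim_stalk_eq_zero_of_topologicalKrullDim_le_zero (hchart U₀ a hae) u⟩
  obtain ⟨T, ⟨e⟩⟩ := isRepresentable_of_schematicSet_eq_univ hX hsch
  have hTd : topologicalKrullDim ↥T.left ≤ 0 := hchart T e.hom (repWith_of_isIso' e.hom)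
  have hTq : IsQuasiSeparatedSp ((yon S).obj T) := by
    have h1 : IsQuasiSeparatedMor e.hom := repWith_of_isIso' (pullback.diagonal e.hom)
    exact isQuasiSeparatedSp_of_isQuasiSeparatedMor h1 hqs
  have hTq' : QuasiCompact (pullback.diagonal T.hom) :=
    (AlgSp.repWith_diag_yon_iff @QuasiCompact T).1 hTq
  have hTq'' : QuasiSeparated T.hom := ⟨hTq'⟩
  have : QuasiSeparatedSpace ↥T.left := quasiSeparatedSpace_of_quasiSeparated T.hom
  have hsp := eq_of_specializes_of_topologicalKrullDim_le_zero hTd
  exact ⟨T, e, isSeparated_of_no_specializations hsp,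
    isAffineOpen_of_isCompact_of_no_specializations hsp⟩

/-- the structure morphism of an étale chart of a space locally of finite type over the base is
locally of finite type -/
lemma locallyOfFiniteType_hom_of_locP {X : Sp S} (p : X ⟶ (yon S).obj (Over.mk (𝟙 S)))
    (hp : LocP @LocallyOfFiniteType p) {U : Over S} (a : (yon S).obj U ⟶ X)
    (ha : RepWith @Etale a) : LocallyOfFiniteType U.hom := by
  let h : U ⟶ Over.mk (𝟙 S) := Over.homMk U.hom
  have comm : a ≫ p = (yon S).map h ≫ 𝟙 _ := by
    obtain ⟨g, hg⟩ := (yon S).map_surjective (a ≫ p)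
    rw [← hg, Category.comp_id]
    congr 1
    exact Over.mkIdTerminal.hom_ext _ _
  exact hp a (𝟙 _) h ha (repWith_id _ _) comm

/-- an affine scheme locally of finite type over a field of dimension at most zero is finite, and
finite over the field -/
lemma finite_of_lft_field_of_dim_le_zero {k : Type u} [Field k] {U : Scheme.{u}}
    (g : U ⟶ Spec (CommRingCat.of k)) [LocallyOfFiniteType g] [CompactSpace ↥U]
    (hd : topologicalKrullDim ↥U ≤ 0) : Finite ↥U ∧ IsFinite g := by
  have hN : IsLocallyNoetherian U := LocallyOfFiniteType.isLocallyNoetherian g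
  have hA : IsLocallyArtinian U := IsLocallyArtinian.of_topologicalKrullDim_le_zero hd
  have hAS : IsArtinianScheme U := {}
  have hfin : Finite ↥U := inferInstance
  have hdisc : DiscreteTopology ↥U := inferInstance
  have hlqf : LocallyQuasiFinite g := by
    rw [locallyQuasiFinite_iff_isDiscrete_preimage_singleton]
    intro x
    exact IsDiscrete.univ.mono (Set.subset_univ _)
  have hart : IsLocallyArtinian (Spec (CommRingCat.of k)) := by
    rw [Scheme.isLocallyArtinianScheme_Spec]
    infer_instance
  have hqc : QuasiCompact g := inferInstance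
  exact ⟨hfin, IsFinite.of_locallyQuasiFinite g⟩

/-- **An algebraic space locally of finite type over a field of dimension at most zero is a
separated scheme all of whose quasi-compact opens are affine.** -/
theorem exists_separated_scheme_of_lft_field_dim_le_zero (k : Type u) [Field k]
    {X : Sp (Spec (CommRingCat.of k))} (hX : IsAlgSpace X)
    (p : X ⟶ (yon (Spec (CommRingCat.of k))).obj (Over.mk (𝟙 _)))
    (hp : LocP @LocallyOfFiniteType p) (hd : AlgSp.dim X ≤ 0) :
    ∃ (U : Over (Spec (CommRingCat.of k))) (_ : (yon (Spec (CommRingCat.of k))).obj U ≅ X),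
      U.left.IsSeparated ∧ ∀ V : U.left.Opens, IsCompact (V : Set ↥U.left) → IsAffineOpen V := by
  have hchart : ∀ (U : Over (Spec (CommRingCat.of k)))
      (a : (yon (Spec (CommRingCat.of k))).obj U ⟶ X), RepWith @Etale a →
      topologicalKrullDim ↥U.left ≤ 0 := by
    intro U a ha
    refine le_trans ?_ hd
    unfold AlgSp.dim
    exact le_iSup_of_le U (le_iSup_of_le a (le_iSup_of_le ha le_rfl))
  have hdec : IsDecent X := by
    rw [isDecent_iff]
    intro x
    apply exists_qc_mono_point_of_finite_fibres hX x
    intro U φ hU hφ R s t sq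
    have hlft : LocallyOfFiniteType U.hom := locallyOfFiniteType_hom_of_locP p hp φ hφ
    have hUc : CompactSpace ↥U.left := inferInstance
    obtain ⟨hUfin, hUf⟩ := finite_of_lft_field_of_dim_le_zero U.hom (hchart U φ hφ)
    have heq : IsEqvRel s t := isEqvRel_of_isPullback φ s t sq
    have w : t.left ≫ U.hom = s.left ≫ U.hom := by rw [Over.w, Over.w]
    have hmono := Groth.Agent.H3.FinQuot.mono_lift_of_isEqvRel heq U.hom w
    have hPfin : Finite ↥(pullback U.hom U.hom) := by
      have h1 : IsFinite (pullback.fst U.hom U.hom) := inferInstance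
      have h2 := Scheme.Hom.finite_preimage (pullback.fst U.hom U.hom)
        (Set.finite_univ (α := ↥U.left))
      rw [Set.preimage_univ] at h2
      exact Set.finite_univ_iff.1 h2
    have hRfin : Finite ↥R.left :=
      Finite.of_injective _ (Scheme.Hom.injective (pullback.lift t.left s.left w))
    exact ⟨Set.toFinite _, Set.toFinite _⟩
  have hN : IsLocNoethSp X := by
    obtain ⟨U₀, a, hae, has⟩ := hX.atlas
    have := locallyOfFiniteType_hom_of_locP p hp a hae
    exact ⟨U₀, a, hae, has, LocallyOfFiniteType.isLocallyNoetherian U₀.hom⟩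
  have hqs := isQuasiSeparatedSp_of_isLocNoethSp_of_isDecent hX hN hdec
  exact exists_separated_scheme_of_dim_le_zero hX hqs hd

end Groth.Agent.H3.Decent
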