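import Mathlib

/-!
# Quasi-separated schemes without nontrivial specializations (helper3)

A quasi-separated scheme all of whose points are closed under specialization (e.g. of dimension
zero) is separated and all its quasi-compact opens are affine.
-/

set_option autoImplicit false
universe u

open CategoryTheory CategoryTheory.Limits AlgebraicGeometry

namespace Groth.Agent.H3.Decent

variable {U : Scheme.{u}}

/-- In a quasi-separated scheme without nontrivial specializations every compact open is closed. -/
lemma isClosed_of_isCompact_of_no_specializations [QuasiSeparatedSpace U]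
    (hd : ∀ x y : U, x ⤳ y → x = y) (V : U.Opens) (hV : IsCompact (V : Set U)) :
    IsClosed (V : Set U) := by
  have : CompactSpace V.toScheme := isCompact_iff_compactSpace.1 hV
  have : QuasiCompact V.ι := inferInstance
  have hsp : SpecializingMap V.ι := by
    intro a b hab
    exact ⟨a, specializes_rfl, hd _ _ hab⟩
  have h := ((isClosedMap_iff_specializingMap V.ι).2 hsp).isClosed_range
  rwa [Scheme.Opens.range_ι] at h

/-- an open subscheme of an affine open which is closed in it is affine -/
lemma isAffineOpen_of_isClosed_of_le {W C : U.Opens} (hW : IsAffineOpen W) (hle : C ≤ W)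
    (hC : IsClosed (C : Set U)) : IsAffineOpen C := by
  have : IsAffine W.toScheme := hW
  let f : C.toScheme ⟶ W.toScheme := U.homOfLE hle
  have hr : IsClosed (Set.range f) := by
    have : Set.range f = W.ι ⁻¹' (C : Set U) := by
      ext w
      constructor
      · rintro ⟨c, rfl⟩
        change W.ι (U.homOfLE hle c) ∈ (C : Set U)
        rw [← Scheme.Hom.comp_apply, Scheme.homOfLE_ι]
        exact c.2
      · intro hw
        refine ⟨⟨W.ι w, hw⟩, ?_⟩
        apply W.ι.isOpenEmbedding.injective
        rw [← Scheme.Hom.comp_apply, Scheme.homOfLE_ι]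
        rfl
    rw [this]
    exact hC.preimage W.ι.continuous
  have : IsClosedImmersion f := .of_isPreimmersion f hr
  exact isAffine_of_isAffineHom f

/-- **In a quasi-separated scheme without nontrivial specializations every quasi-compact open is
affine.** -/
theorem isAffineOpen_of_isCompact_of_no_specializations [QuasiSeparatedSpace U]
    (hd : ∀ x y : U, x ⤳ y → x = y) (V : U.Opens) (hV : IsCompact (V : Set U)) :
    IsAffineOpen V := by
  refine compact_open_induction_on (P := fun V => IsAffineOpen V) V hV (isAffineOpen_bot U) ?_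
  intro T hT W hTaff
  have hTcl : IsClosed (T : Set U) := isClosed_of_isCompact_of_no_specializations hd T hT
  -- `W ∖ T`
  let C : U.Opens := ⟨(W.1 : Set U) \ (T : Set U), W.1.2.sdiff hTcl⟩
  have hCle : C ≤ W.1 := fun x hx => hx.1
  have hWcl : IsClosed (W.1 : Set U) :=
    isClosed_of_isCompact_of_no_specializations hd W.1 W.2.isCompact
  have hCcl : IsClosed (C : Set U) := by
    have : (C : Set U) = (W.1 : Set U) ∩ (T : Set U)ᶜ := rfl
    rw [this]
    exact hWcl.inter T.2.isClosed_compl
  have hCaff : IsAffineOpen C := isAffineOpen_of_isClosed_of_le W.2 hCle hCcl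
  have hdisj : Disjoint T C := by
    rw [← TopologicalSpace.Opens.coe_disjoint, Set.disjoint_left]
    intro x hxT hxC
    exact hxC.2 hxT
  have heq : T ⊔ W.1 = T ⊔ C := by
    ext x
    simp only [TopologicalSpace.Opens.coe_sup, Set.mem_union, SetLike.mem_coe]
    constructor
    · rintro (h | h)
      · exact Or.inl h
      · by_cases hxT : x ∈ T
        · exact Or.inl hxT
        · exact Or.inr ⟨h, hxT⟩
    · rintro (h | h)
      · exact Or.inl h
      · exact Or.inr h.1
  rw [heq]
  exact hTaff.sup_of_disjoint hCaff hdisj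

/-- a morphism from the spectrum of a domain to a scheme without nontrivial specializations is
constant on points -/
lemma apply_eq_of_no_specializations (hd : ∀ x y : U, x ⤳ y → x = y) {R : Type u} [CommRing R]
    [IsDomain R] (l : Spec (CommRingCat.of R) ⟶ U) (p : ↥(Spec (CommRingCat.of R))) :
    l p = l (⊥ : PrimeSpectrum R) := by
  have h1 : (⊥ : PrimeSpectrum R) ⤳ (p : PrimeSpectrum R) :=
    (PrimeSpectrum.le_iff_specializes _ _).1 bot_le
  have h2 : l (⊥ : PrimeSpectrum R) ⤳ l p := h1.map l.continuous
  exact (hd _ _ h2).symm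

/-- **A quasi-separated scheme without nontrivial specializations is separated.** -/
theorem isSeparated_of_no_specializations [QuasiSeparatedSpace U]
    (hd : ∀ x y : U, x ⤳ y → x = y) : U.IsSeparated := by
  constructor
  have : QuasiSeparated (terminal.from U) :=
    (quasiSeparatedSpace_iff_quasiSeparated U).1 inferInstance
  apply IsSeparated.of_valuativeCriterion
  intro Sq
  constructor
  rintro ⟨l₁, hl₁, hl₁'⟩ ⟨l₂, hl₂, hl₂'⟩
  ext : 1
  dsimp at *
  set j := Spec.map (CommRingCat.ofHom (algebraMap Sq.R Sq.K)) with hj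
  -- the generic point
  let pt : ↥(Spec (CommRingCat.of Sq.K)) := (⊥ : PrimeSpectrum Sq.K)
  have hη : j pt = (⊥ : PrimeSpectrum Sq.R) := by
    change PrimeSpectrum.comap (algebraMap Sq.R Sq.K) ⊥ = ⊥
    ext a
    simp [PrimeSpectrum.comap_asIdeal]
  let x : U := Sq.i₁ pt
  have hx₁ : ∀ p, l₁ p = x := by
    intro p
    rw [apply_eq_of_no_specializations hd l₁ p, ← hη, ← Scheme.Hom.comp_apply, hl₁]
  have hx₂ : ∀ p, l₂ p = x := by
    intro p
    rw [apply_eq_of_no_specializations hd l₂ p, ← hη, ← Scheme.Hom.comp_apply, hl₂]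
  obtain ⟨_, ⟨W₀, hW, rfl⟩, hxW, -⟩ :=
    U.isBasis_affineOpens.exists_subset_of_mem_open (Set.mem_univ x) isOpen_univ
  let W : U.Opens := W₀
  have : IsAffine W.toScheme := hW
  have hr₁ : Set.range l₁ ⊆ Set.range W.ι := by
    rintro _ ⟨p, rfl⟩
    rw [hx₁ p, Scheme.Opens.range_ι]
    exact hxW
  have hr₂ : Set.range l₂ ⊆ Set.range W.ι := by
    rintro _ ⟨p, rfl⟩
    rw [hx₂ p, Scheme.Opens.range_ι]
    exact hxW
  let l₁' : Spec (CommRingCat.of Sq.R) ⟶ W.toScheme := IsOpenImmersion.lift W.ι l₁ hr₁
  let l₂' : Spec (CommRingCat.of Sq.R) ⟶ W.toScheme := IsOpenImmersion.lift W.ι l₂ hr₂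
  have e₁ : l₁' ≫ W.ι = l₁ := IsOpenImmersion.lift_fac _ _ _
  have e₂ : l₂' ≫ W.ι = l₂ := IsOpenImmersion.lift_fac _ _ _
  have hc : CommSq (j ≫ l₁') j (terminal.from W.toScheme)
      (terminal.from (Spec (CommRingCat.of Sq.R))) := ⟨terminalIsTerminal.hom_ext _ _⟩
  let Sq' : ValuativeCommSq (terminal.from W.toScheme) :=
    ⟨Sq.R, Sq.K, j ≫ l₁', terminal.from _, hc⟩
  have hsub : Subsingleton Sq'.commSq.LiftStruct :=
    IsSeparated.valuativeCriterion (terminal.from W.toScheme) Sq'
  let L₁ : Sq'.commSq.LiftStruct := ⟨l₁', rfl, terminalIsTerminal.hom_ext _ _⟩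
  let L₂ : Sq'.commSq.LiftStruct := ⟨l₂', by
    change j ≫ l₂' = j ≫ l₁'
    rw [← cancel_mono W.ι, Category.assoc, Category.assoc, e₁, e₂, hl₁, hl₂],
    terminalIsTerminal.hom_ext _ _⟩
  have h12 : L₁ = L₂ := Subsingleton.elim _ _
  have : l₁' = l₂' := congrArg CommSq.LiftStruct.l h12
  rw [← e₁, ← e₂, this]

end Groth.Agent.H3.Decent
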