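import Groth.Agent.Lib.Helper3.Decent.ClosedPoint

/-!
# Finite fibres of fibre products over monomorphic points (helper3)
-/

set_option autoImplicit false
universe u

open CategoryTheory CategoryTheory.Limits AlgebraicGeometry TensorProduct
open AlgSp Topology

namespace Groth.Agent.H3.Decent

open Groth.Agent.H5.AlgSp Groth.Agent.H3.FinQuot

variable {S : Scheme.{u}}

/-- A morphism from the spectrum of a field in the class of a point represented by a
monomorphism from the spectrum of a field factors through this monomorphism. -/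
theorem exists_factor_mono_point_of_mk_eq {Y : Sp S} (hY : IsAlgSpace Y) {k K : Type u} [Field k]
    [Field K] (strk : Spec (CommRingCat.of k) ⟶ S) (r : (yon S).obj (Over.mk strk) ⟶ Y) [Mono r]
    (strK : Spec (CommRingCat.of K) ⟶ S) (ξ : (yon S).obj (Over.mk strK) ⟶ Y)
    (h : Points.mk (fpOfHom strK ξ) = Points.mk (fpOfHom strk r)) :
    ∃ τ : Over.mk strK ⟶ Over.mk strk, (yon S).map τ ≫ r = ξ := by
  have hrep : Representable r := hY.representable_from_yon r
  let T' : Over S := hrep.pullback ξ
  let t1 : T' ⟶ Over.mk strk := hrep.fst' ξ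
  let t2 : T' ⟶ Over.mk strK := hrep.snd ξ
  have sqT : IsPullback ((yon S).map t1) ((yon S).map t2) r ξ := hrep.isPullback' ξ
  have hm : Mono ((yon S).map t2) := sqT.mono_snd_of_mono
  have hm' : Mono t2 := (yon S).mono_of_mono_map hm
  have hmono : Mono t2.left := inferInstance
  rw [mk_fpOfHom_eq_iff] at h
  obtain ⟨Ω, _, w, a, b, hab⟩ := h
  obtain ⟨l, hl⟩ := (yon S).map_surjective (sqT.lift ((yon S).map b) ((yon S).map a) hab.symm)
  have hne : Nonempty ↥T'.left := ⟨l.left (IsLocalRing.closedPoint Ω)⟩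
  have hiso : IsIso t2.left := isIso_of_mono_to_field_scheme (L := K) t2.left
  have hiso' : IsIso t2 := by
    have : IsIso ((Over.forget S).map t2) := hiso
    exact isIso_of_reflects_iso t2 (Over.forget S)
  refine ⟨inv t2 ≫ t1, ?_⟩
  rw [Functor.map_comp, Category.assoc, sqT.w, ← Category.assoc, ← Functor.map_comp,
    IsIso.inv_hom_id, CategoryTheory.Functor.map_id, Category.id_comp]

/-- The residue field of a point of a scheme locally quasi-finite over a field is finite over the
field. -/
theorem isFinite_fromSpecResidueField_comp_of_lqf {k : Type u} [Field k] {T : Scheme.{u}}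
    (g : T ⟶ Spec (CommRingCat.of k)) [LocallyQuasiFinite g] (t : ↥T) :
    IsFinite (T.fromSpecResidueField t ≫ g) := by
  have hart : IsLocallyArtinian (Spec (CommRingCat.of k)) := by
    rw [Scheme.isLocallyArtinianScheme_Spec]
    infer_instance
  have : IsLocallyArtinian T := IsLocallyArtinian.of_locallyQuasiFinite g
  have hcl : IsClosed ({t} : Set ↥T) := isClosed_discrete _
  have : IsClosedImmersion (T.fromSpecResidueField t) :=
    isClosed_singleton_iff_isClosedImmersion.1 hcl
  have : LocallyQuasiFinite (T.fromSpecResidueField t ≫ g) := inferInstance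
  have : QuasiCompact (T.fromSpecResidueField t ≫ g) :=
    quasiCompact_of_field (K := ↑(T.residueField t)) _
  exact IsFinite.of_locallyQuasiFinite _

/-- Cancelling a monomorphism in a pullback square. -/
theorem isPullback_of_comp_mono {C : Type*} [Category C] {P A B D E : C} {a : P ⟶ A} {b : P ⟶ B}
    {c : A ⟶ D} {d : B ⟶ D} (r : D ⟶ E) [Mono r] (sq : IsPullback a b (c ≫ r) (d ≫ r)) :
    IsPullback a b c d := by
  have w : a ≫ c = b ≫ d := by
    rw [← cancel_mono r, Category.assoc, Category.assoc]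
    exact sq.w
  refine ⟨⟨w⟩, ⟨PullbackCone.IsLimit.mk w
    (fun s => sq.lift s.fst s.snd (by rw [← Category.assoc, s.condition, Category.assoc]))
    (fun s => sq.lift_fst _ _ _) (fun s => sq.lift_snd _ _ _)
    (fun s m h1 h2 => sq.hom_ext (by rw [h1, sq.lift_fst]) (by rw [h2, sq.lift_snd]))⟩⟩

/-- A quasi-finite point over a monomorphic point: there is a representative, finite over the
field of the monomorphic point. -/
theorem exists_finite_rep_of_quasiFiniteAt {Y Z : Sp S} (hY : IsAlgSpace Y) (g : Z ⟶ Y)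
    (z : Points Z) {k : Type u} [Field k] (strk : Spec (CommRingCat.of k) ⟶ S)
    (r : (yon S).obj (Over.mk strk) ⟶ Y) [Mono r]
    (hr : Points.mk (fpOfHom strk r) = Points.map g z)
    (hg : HasAtMor (fun U _ h u => ∃ W : U.Opens, u ∈ W ∧ LocallyQuasiFinite (W.ι ≫ h) ∧
      LocallyOfFiniteType (W.ι ≫ h)) g z) :
    ∃ (L : Type u) (_ : Field L) (strL : Spec (CommRingCat.of L) ⟶ S)
      (ζ : (yon S).obj (Over.mk strL) ⟶ Z) (lam : Over.mk strL ⟶ Over.mk strk),
      Points.mk (fpOfHom strL ζ) = z ∧ ζ ≫ g = (yon S).map lam ≫ r ∧ IsFinite lam.left := by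
  obtain ⟨U, V, a, b, h, u, hae, hbe, comm, hu, W₀, huW₀, hlqf, -⟩ := hg
  -- restrict to the neighbourhood
  let U₀ : Over S := overOpen U W₀
  let a₀ : (yon S).obj U₀ ⟶ Z := (yon S).map (overOpenι U W₀) ≫ a
  let h₀ : U₀ ⟶ V := overOpenι U W₀ ≫ h
  have hh₀ : LocallyQuasiFinite h₀.left := hlqf
  let u₀ : ↥U₀.left := ⟨u, huW₀⟩
  have hu₀ : Points.ofPt a₀ u₀ = z := by rw [ofPt_restrict]; exact hu
  have comm₀ : a₀ ≫ g = (yon S).map h₀ ≫ b := by
    rw [Category.assoc, comm, Functor.map_comp, Category.assoc]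
  -- the fibres
  have hrep : Representable r := hY.representable_from_yon r
  let FV : Over S := hrep.pullback b
  let g1 : FV ⟶ Over.mk strk := hrep.fst' b
  let g2 : FV ⟶ V := hrep.snd b
  have sqF : IsPullback ((yon S).map g1) ((yon S).map g2) r b := hrep.isPullback' b
  have hg1 : Etale g1.left := by
    have := (RepWith @Etale).of_isPullback sqF.flip hbe
    exact (repWith_yon_map_iff @Etale g1).1 this
  let E : Over S := hrep.pullback ((yon S).map h₀ ≫ b)
  let e1 : E ⟶ Over.mk strk := hrep.fst' ((yon S).map h₀ ≫ b)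
  let e2 : E ⟶ U₀ := hrep.snd ((yon S).map h₀ ≫ b)
  have sqE : IsPullback ((yon S).map e1) ((yon S).map e2) r ((yon S).map h₀ ≫ b) :=
    hrep.isPullback' _
  obtain ⟨j, hj⟩ := (yon S).map_surjective (sqF.lift ((yon S).map e1) ((yon S).map (e2 ≫ h₀))
    (by rw [Functor.map_comp, Category.assoc]; exact sqE.w))
  have hj1 : j ≫ g1 = e1 := by
    apply (yon S).map_injective
    rw [Functor.map_comp, hj, sqF.lift_fst]
  have hj2 : j ≫ g2 = e2 ≫ h₀ := by
    apply (yon S).map_injective
    rw [Functor.map_comp, hj, sqF.lift_snd]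
  have big : IsPullback ((yon S).map j ≫ (yon S).map g1) ((yon S).map e2) r
      ((yon S).map h₀ ≫ b) := by
    rw [← Functor.map_comp, hj1]; exact sqE
  have left : IsPullback ((yon S).map j) ((yon S).map e2) ((yon S).map g2) ((yon S).map h₀) :=
    IsPullback.of_right big (by rw [← Functor.map_comp, ← Functor.map_comp, hj2]) sqF
  have leftO : IsPullback j e2 g2 h₀ := IsPullback.of_map (yon S) hj2 left
  have leftS : IsPullback j.left e2.left g2.left h₀.left := leftO.map (Over.forget S)
  have hjlqf : LocallyQuasiFinite j.left :=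
    MorphismProperty.of_isPullback (P := @LocallyQuasiFinite) leftS.flip hh₀
  have hg1lqf : LocallyQuasiFinite g1.left := locallyQuasiFinite_of_etale _
  have he1 : LocallyQuasiFinite e1.left := by
    have : e1.left = j.left ≫ g1.left := by rw [← hj1]; rfl
    rw [this]; infer_instance
  -- the point of the fibre
  obtain ⟨u', hu'2, -⟩ := exists_point_of_isPullback sqE
    (Points.ofScheme (Over.mk strk) (IsLocalRing.closedPoint k)) u₀ (by
      rw [points_map_field, hr, ← hu₀, Points.map_ofPt, comm₀])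
  have hfin : IsFinite ((resι E u' ≫ e1).left) :=
    isFinite_fromSpecResidueField_comp_of_lqf e1.left u'
  refine ⟨↑(E.left.residueField u'), inferInstance, _, (yon S).map (resι E u' ≫ e2) ≫ a₀,
    resι E u' ≫ e1, ?_, ?_, hfin⟩
  · rw [mk_fpOfHom_yon_map, ← hu₀]
    congr 1
    change e2.left (E.left.fromSpecResidueField u' _) = u₀
    rw [Scheme.fromSpecResidueField_apply, hu'2]
  · have e : (yon S).map e2 ≫ (yon S).map h₀ ≫ b = (yon S).map e1 ≫ r := sqE.w.symm
    calc ((yon S).map (resι E u' ≫ e2) ≫ a₀) ≫ g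
        = (yon S).map (resι E u') ≫ ((yon S).map e2 ≫ (yon S).map h₀ ≫ b) := by
          rw [Category.assoc, comm₀, (yon S).map_comp (resι E u') e2, Category.assoc]
      _ = (yon S).map (resι E u' ≫ e1) ≫ r := by
          rw [e, ← Category.assoc, ← (yon S).map_comp]

/-- Points of isomorphic sheaves correspond. -/
lemma finite_points_of_iso {F G : Sp S} (e : F ≅ G) [Finite (Points G)] : Finite (Points F) :=
  Finite.of_injective (Points.map e.hom) (fun a b hab => by
    have := congrArg (Points.map e.inv) hab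
    rwa [← Points.map_comp, ← Points.map_comp, e.hom_inv_id, Points.map_id, Points.map_id] at this)

/-- **Finiteness of the fibre of `|X ×_Y Z| → |X| × |Z|` over a point represented by a
monomorphism, for `Z ⟶ Y` quasi-finite at the point.** -/
theorem finite_fibre_pullback_of_mono_point {X Y Z W : Sp S} (hY : IsAlgSpace Y) (f : X ⟶ Y)
    (g : Z ⟶ Y) (p : W ⟶ X) (q : W ⟶ Z) (hW : IsPullback p q f g) (x : Points X) (z : Points Z)
    (hxz : Points.map f x = Points.map g z) {k : Type u} [Field k]
    (strk : Spec (CommRingCat.of k) ⟶ S) (r : (yon S).obj (Over.mk strk) ⟶ Y) [Mono r]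
    (hr : Points.mk (fpOfHom strk r) = Points.map g z)
    (hg : HasAtMor (fun U _ h u => ∃ W : U.Opens, u ∈ W ∧ LocallyQuasiFinite (W.ι ≫ h) ∧
      LocallyOfFiniteType (W.ι ≫ h)) g z) :
    {w : Points W | Points.map p w = x ∧ Points.map q w = z}.Finite := by
  obtain ⟨L, _, strL, ζ, lam, hζ, hζg, hlam⟩ := exists_finite_rep_of_quasiFiniteAt hY g z strk r hr hg
  obtain ⟨K, _, strK, ξ, rfl⟩ := exists_fpOfHom x
  have hξ : Points.mk (fpOfHom strK (ξ ≫ f)) = Points.mk (fpOfHom strk r) := by
    rw [← map_mk_fpOfHom, hxz, hr]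
  obtain ⟨τ, hτ⟩ := exists_factor_mono_point_of_mk_eq hY strk r strK (ξ ≫ f) hξ
  -- the two pullbacks
  have sq₁ := IsPullback.of_hasPullback p ξ
  have sq₂ := IsPullback.of_hasPullback (pullback.fst p ξ ≫ q) ζ
  have R₁ : IsPullback (pullback.fst p ξ ≫ q) (pullback.snd p ξ) g (ξ ≫ f) :=
    sq₁.paste_horiz hW.flip
  have R₂ : IsPullback (pullback.fst (pullback.fst p ξ ≫ q) ζ ≫ pullback.snd p ξ)
      (pullback.snd (pullback.fst p ξ ≫ q) ζ) (ξ ≫ f) (ζ ≫ g) := sq₂.paste_horiz R₁.flip
  rw [← hτ, hζg] at R₂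
  have R₃ := isPullback_of_comp_mono r R₂
  have sqPS := IsPullback.of_hasPullback τ lam
  have sqPy : IsPullback ((yon S).map (pullback.fst τ lam)) ((yon S).map (pullback.snd τ lam))
      ((yon S).map τ) ((yon S).map lam) := sqPS.map (yon S)
  let e := R₃.isoIsPullback _ _ sqPy
  -- finiteness
  have sqPl : IsPullback (pullback.fst τ lam).left (pullback.snd τ lam).left τ.left lam.left :=
    sqPS.map (Over.forget S)
  have hfstfin : IsFinite (pullback.fst τ lam).left :=
    MorphismProperty.of_isPullback (P := @IsFinite) sqPl.flip hlam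
  have hPfin : Finite ↥(pullback τ lam).left := by
    have h2 := Scheme.Hom.finite_preimage_singleton (pullback.fst τ lam).left
      (IsLocalRing.closedPoint K)
    have h3 : (pullback.fst τ lam).left ⁻¹' {IsLocalRing.closedPoint K} = Set.univ := by
      ext y
      simp only [Set.mem_preimage, Set.mem_univ, iff_true]
      exact Subsingleton.elim (α := ↥(Spec (CommRingCat.of K))) _ _
    exact Set.finite_univ_iff.1 (h3 ▸ h2)
  have hPyfin : Finite (Points ((yon S).obj (pullback τ lam))) :=
    Finite.of_equiv _ (Points.schemeEquiv (pullback τ lam))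
  have hP₂fin : Finite (Points (pullback (pullback.fst p ξ ≫ q) ζ)) := finite_points_of_iso e
  refine (Set.finite_range (Points.map (pullback.fst (pullback.fst p ξ ≫ q) ζ ≫
    pullback.fst p ξ))).subset ?_
  rintro w ⟨hw1, hw2⟩
  obtain ⟨w₁, hw₁, -⟩ := points_pullback_surjective sq₁ w
    (Points.mk (fpOfHom strK (𝟙 _))) (by rw [map_mk_fpOfHom, Category.id_comp]; exact hw1)
  obtain ⟨w₂, hw₂, -⟩ := points_pullback_surjective sq₂ w₁
    (Points.mk (fpOfHom strL (𝟙 _))) (by
      rw [map_mk_fpOfHom, Category.id_comp, Points.map_comp, hw₁, hw2, hζ])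
  exact ⟨w₂, by rw [Points.map_comp, hw₂, hw₁]⟩

end Groth.Agent.H3.Decent
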