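import Groth.Agent.Lib.Helper3.Decent.QCEtaleDescent
import Groth.Agent.Lib.Helper5.AlgSp.DecentT0

/-!
# The topology of the fibre over a quasi-compact monomorphic point (helper3)

* `isInducing_points_map_of_chart`: being inducing on points is etale local on the target.
* `isPreimmersion_of_mono_field`, `isPreimmersion_fibre_of_qc_mono`: the fibre of an etale chart
  over a point represented by a quasi-compact monomorphism is a preimmersion.
* `isEmbedding_points_fibre_of_qc_mono`: Stacks, decent spaces, topology of fibres.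
-/

set_option autoImplicit false
universe u

open CategoryTheory CategoryTheory.Limits AlgebraicGeometry TensorProduct
open AlgSp Topology

namespace Groth.Agent.H3.Decent

open Groth.Agent.H5.AlgSp Groth.Agent.H3.FinQuot

variable {S : Scheme.{u}}

/-- The property of being inducing on points can be checked after an etale surjective base change
by a scheme. -/
theorem isInducing_points_map_of_chart {Z X ZU : Sp S} {U : Over S} (fst : Z ⟶ X)
    (a : (yon S).obj U ⟶ X) (hae : RepWith @Etale a) (has : RepWith @Surjective a)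
    (zfst : ZU ⟶ Z) (zsnd : ZU ⟶ (yon S).obj U) (sq : IsPullback zfst zsnd fst a)
    (h : IsInducing (Points.map zsnd)) : IsInducing (Points.map fst) := by
  refine ⟨le_antisymm (Points.continuous_map fst).le_induced (fun W' hW' => ?_)⟩
  have hW'o : IsOpen W' := hW'
  rw [isOpen_induced_iff]
  have hzs : RepWith @Surjective zfst :=
    MorphismProperty.of_isPullback (P := RepWith @Surjective) sq.flip has
  have hsurj := points_map_surjective_of_repWith hzs
  have hP' : IsOpen (Points.map zfst ⁻¹' W') := hW'o.preimage (Points.continuous_map zfst)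
  obtain ⟨O, hO, hOP⟩ := h.isOpen_iff.1 hP'
  refine ⟨Points.map a '' O, isOpenMap_points_map_of_etale hae O hO, ?_⟩
  ext z
  constructor
  · rintro ⟨o, ho, hoz⟩
    obtain ⟨zu, hzu1, hzu2⟩ := points_pullback_surjective sq z o hoz.symm
    have : zu ∈ Points.map zsnd ⁻¹' O := by rw [Set.mem_preimage, hzu2]; exact ho
    rw [hOP] at this
    rw [← hzu1]
    exact this
  · intro hz
    obtain ⟨zu, rfl⟩ := hsurj z
    have : zu ∈ Points.map zsnd ⁻¹' O := by rw [hOP]; exact hz
    refine ⟨Points.map zsnd zu, this, ?_⟩
    rw [← Points.map_comp, ← Points.map_comp, sq.w]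

/-- `Points.map` of a morphism of schemes is the map on underlying spaces. -/
lemma points_map_yon_map_ofScheme {T T' : Over S} (φ : T ⟶ T') (t : ↥T.left) :
    Points.map ((yon S).map φ) (Points.ofScheme T t) = Points.ofScheme T' (φ.left t) := by
  rw [← Points.ofPt_eq_map_ofScheme, ← Points.ofScheme_toScheme T' (Points.ofPt _ t),
    Points.toScheme_ofPt]

/-- A morphism of schemes which is an embedding induces an inducing map on points. -/
lemma isInducing_points_map_yon_map {T T' : Over S} (φ : T ⟶ T') (h : IsInducing φ.left) :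
    IsInducing (Points.map ((yon S).map φ)) := by
  have e : Points.map ((yon S).map φ) =
      (Points.schemeHomeo T') ∘ φ.left ∘ (Points.schemeHomeo T).symm := by
    funext z
    obtain ⟨t, rfl⟩ := ofScheme_surjective T z
    rw [points_map_yon_map_ofScheme]
    simp only [Function.comp_apply]
    congr 2
    exact ((Points.schemeHomeo T).symm_apply_apply t).symm
  rw [e]
  exact (Points.schemeHomeo T').isInducing.comp (h.comp (Points.schemeHomeo T).symm.isInducing)

/-- A monomorphism from the spectrum of a field to a scheme is a preimmersion. -/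
theorem isPreimmersion_of_mono_field {L : Type u} [Field L] {V : Scheme.{u}}
    (m : Spec (CommRingCat.of L) ⟶ V) [Mono m] : IsPreimmersion m := by
  have hfac := Scheme.descResidueField_stalkClosedPointTo_fromSpecResidueField L V m
  set θ := Scheme.descResidueField (Scheme.stalkClosedPointTo m) with hθ
  have hmono : Mono (Spec.map θ ≫ V.fromSpecResidueField (m (IsLocalRing.closedPoint L))) := by
    rw [hfac]; infer_instance
  have hmono' : Mono (Spec.map θ) := mono_of_mono _ (V.fromSpecResidueField _)
  have hne : Nonempty ↥(Spec (CommRingCat.of L)) := ⟨IsLocalRing.closedPoint L⟩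
  have hiso : IsIso (Spec.map θ) :=
    isIso_of_mono_to_field_scheme (L := ↑(V.residueField (m (IsLocalRing.closedPoint L))))
      (Spec.map θ)
  rw [← hfac]
  infer_instance

/-- **The fibre of an etale chart over a point represented by a quasi-compact monomorphism is a
preimmersion.** -/
theorem isPreimmersion_fibre_of_qc_mono {Y : Sp S} {k : Type u} [Field k]
    (str : Spec (CommRingCat.of k) ⟶ S) (ρ : (yon S).obj (Over.mk str) ⟶ Y) [Mono ρ]
    (hq : RepWith @QuasiCompact ρ) {V : Over S} (b : (yon S).obj V ⟶ Y) (hb : RepWith @Etale b)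
    {FV : Over S} (g1 : FV ⟶ Over.mk str) (g2 : FV ⟶ V)
    (sq : IsPullback ((yon S).map g1) ((yon S).map g2) ρ b) : IsPreimmersion g2.left := by
  have hg1 : Etale g1.left := by
    have := (RepWith @Etale).of_isPullback sq.flip hb
    exact (repWith_yon_map_iff @Etale g1).1 this
  have hm : Mono ((yon S).map g2) := sq.mono_snd_of_mono
  have hm' : Mono g2 := (yon S).mono_of_mono_map hm
  have hmono : Mono g2.left := inferInstance
  have hinj : Function.Injective g2.left := Scheme.Hom.injective _
  have hdisc : DiscreteTopology ↥FV.left := discreteTopology_of_etale_field g1.left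
  set x : Points Y := Points.mk (fpOfHom str ρ) with hx
  have hΦ : ∀ e : ↥FV.left, Points.ofPt b (g2.left e) = x := by
    intro e
    rw [← ofPt_yon_map_comp, ← sq.w, ← Points.map_ofPt, points_map_field]
  have hfinall : ∀ (V' : Over S) (b' : (yon S).obj V' ⟶ Y), IsAffine V'.left → RepWith @Etale b' →
      (Points.ofPt b' ⁻¹' {x}).Finite := fun V' b' hV' hb' =>
    finite_fibre_of_quasiCompact_point hb' str ρ hq
  -- discreteness of the fibre
  have hN : ∀ e : ↥FV.left, ∃ N : V.left.Opens, g2.left e ∈ N ∧
      ∀ e' : ↥FV.left, g2.left e' ∈ N → e' = e := by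
    intro e
    obtain ⟨_, ⟨N₀, hN₀, rfl⟩, hvN₀, -⟩ := V.left.isBasis_affineOpens.exists_subset_of_mem_open
      (Set.mem_univ (g2.left e)) isOpen_univ
    have hN₀aff : IsAffine (overOpen V N₀).left := hN₀
    have hfin₀ := hfinall _ _ hN₀aff (repWith_etale_restrict hb N₀)
    have hfin₁ : ((N₀ : Set ↥V.left) ∩ Points.ofPt b ⁻¹' {x}).Finite := by
      refine (hfin₀.image (overOpenι V N₀).left).subset ?_
      rintro v ⟨hvN, hvx⟩
      refine ⟨⟨v, hvN⟩, ?_, rfl⟩
      rw [Set.mem_preimage, ofPt_restrict]
      exact hvx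
    set bad : Set ↥V.left := {v' | v' ∈ (N₀ : Set ↥V.left) ∩ Points.ofPt b ⁻¹' {x} ∧
      v' ≠ g2.left e} with hbad
    have hbadfin : bad.Finite := hfin₁.subset (fun v' hv' => hv'.1)
    have hCclosed : IsClosed (⋃ v' ∈ bad, closure ({v'} : Set ↥V.left)) :=
      hbadfin.isClosed_biUnion (fun _ _ => isClosed_closure)
    let N : V.left.Opens := ⟨(N₀ : Set ↥V.left) ∩ (⋃ v' ∈ bad, closure ({v'} : Set ↥V.left))ᶜ,
      N₀.2.inter hCclosed.isOpen_compl⟩
    refine ⟨N, ⟨hvN₀, ?_⟩, ?_⟩
    · intro hmem
      obtain ⟨v', hv'bad, hv'cl⟩ := Set.mem_iUnion₂.1 hmem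
      have hspec : v' ⤳ g2.left e := specializes_iff_mem_closure.2 hv'cl
      have := eq_of_specializes_of_finite_fibres x hfinall b hb (g2.left e) v' (hΦ e)
        hv'bad.1.2 hspec
      exact hv'bad.2 this.symm
    · rintro e' ⟨he'N₀, he'C⟩
      by_contra hne
      have hne' : g2.left e' ≠ g2.left e := fun h => hne (hinj h)
      have hbad' : g2.left e' ∈ bad := ⟨⟨he'N₀, hΦ e'⟩, hne'⟩
      exact he'C (Set.mem_iUnion₂.2 ⟨_, hbad', subset_closure rfl⟩)
  choose N hN1 hN2 using hN
  have hemb : IsEmbedding g2.left := by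
    refine ⟨⟨le_antisymm g2.left.continuous.le_induced (fun s _ => ?_)⟩, hinj⟩
    rw [isOpen_induced_iff]
    refine ⟨⋃ e ∈ s, (N e : Set ↥V.left), isOpen_biUnion (fun e _ => (N e).2), ?_⟩
    ext e'
    simp only [Set.mem_preimage, Set.mem_iUnion, exists_prop]
    constructor
    · rintro ⟨e, hes, he'⟩
      rw [hN2 e e' he']
      exact hes
    · intro he'
      exact ⟨e', he', hN1 e'⟩
  -- surjectivity on stalks
  have hstalk : SurjectiveOnStalks g2.left := by
    choose L hL c hc hz using fun z : ↥FV.left => exists_field_chart_of_etale_field g1.left z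
    let 𝒰 : FV.left.OpenCover := Scheme.Cover.mkOfCovers ↥FV.left
      (fun z => Spec (CommRingCat.of (L z))) c
      (fun z => by obtain ⟨y, hy⟩ := hz z; exact ⟨z, y, hy⟩) hc
    apply IsZariskiLocalAtSource.of_openCover (P := @SurjectiveOnStalks) 𝒰
    intro z
    change SurjectiveOnStalks (c z ≫ g2.left)
    have := hc z
    have : Mono (c z ≫ g2.left) := mono_comp _ _
    have := isPreimmersion_of_mono_field (c z ≫ g2.left)
    infer_instance
  exact { toSurjectiveOnStalks := hstalk, isEmbedding := hemb }

/-- **The fibre over a point represented by a quasi-compact monomorphism carries the induced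
topology.** -/
theorem isEmbedding_points_fibre_of_qc_mono {X Y : Sp S} (hX : IsAlgSpace X) (hY : IsAlgSpace Y)
    (f : X ⟶ Y) {k : Type u} [Field k] (str : Spec (CommRingCat.of k) ⟶ S)
    (ρ : (yon S).obj (Over.mk str) ⟶ Y) [Mono ρ] (hq : RepWith @QuasiCompact ρ) {Xk : Sp S}
    (fst : Xk ⟶ X) (snd : Xk ⟶ (yon S).obj (Over.mk str)) (hsq : IsPullback fst snd f ρ) :
    IsEmbedding (Points.map fst) ∧
      Set.range (Points.map fst) = Points.map f ⁻¹' {Points.mk (fpOfHom str ρ)} := by
  obtain ⟨V, b, hbe, hbs⟩ := hY.atlas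
  obtain ⟨U', a, h, hae, has, comm⟩ := exists_chart_diagram_surj hX f hbe hbs
  let FV : Over S := hq.rep.pullback b
  let g1 : FV ⟶ Over.mk str := hq.rep.fst' b
  let g2 : FV ⟶ V := hq.rep.snd b
  have sqF : IsPullback ((yon S).map g1) ((yon S).map g2) ρ b := hq.rep.isPullback' b
  have hpre : IsPreimmersion g2.left := isPreimmersion_fibre_of_qc_mono str ρ hq b hbe g1 g2 sqF
  have sqP := IsPullback.of_hasPullback h g2
  have sqPS : IsPullback (pullback.fst h g2).left (pullback.snd h g2).left h.left g2.left :=
    sqP.map (Over.forget S)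
  have hpfst : IsPreimmersion (pullback.fst h g2).left :=
    MorphismProperty.of_isPullback (P := @IsPreimmersion) sqPS.flip hpre
  have sqPy : IsPullback ((yon S).map (pullback.fst h g2)) ((yon S).map (pullback.snd h g2))
      ((yon S).map h) ((yon S).map g2) := sqP.map (yon S)
  have big : IsPullback ((yon S).map (pullback.snd h g2) ≫ (yon S).map g1)
      ((yon S).map (pullback.fst h g2)) ρ ((yon S).map h ≫ b) := sqPy.flip.paste_horiz sqF
  rw [← comm] at big
  have w : ((yon S).map (pullback.fst h g2) ≫ a) ≫ f =
      ((yon S).map (pullback.snd h g2) ≫ (yon S).map g1) ≫ ρ := by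
    rw [Category.assoc]
    exact big.w.symm
  have left : IsPullback (hsq.lift _ _ w) ((yon S).map (pullback.fst h g2)) fst a := by
    apply IsPullback.of_right (h₁₂ := snd) (h₂₂ := f) _ _ hsq.flip
    · rw [hsq.lift_snd]; exact big
    · exact hsq.lift_fst _ _ _
  have hind : IsInducing (Points.map fst) :=
    isInducing_points_map_of_chart fst a hae has _ _ left
      (isInducing_points_map_yon_map _ hpfst.isEmbedding.isInducing)
  have hmono : Mono fst := hsq.mono_fst_of_mono
  refine ⟨⟨hind, points_map_injective_of_mono fst⟩, ?_⟩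
  rw [range_points_map_fst hsq]
  congr 1
  ext y
  constructor
  · rintro ⟨z, rfl⟩
    exact points_map_field str ρ z
  · intro hy
    refine ⟨Points.ofScheme _ (IsLocalRing.closedPoint k), ?_⟩
    rw [points_map_field]
    exact hy.symm

end Groth.Agent.H3.Decent
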