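import Groth.Agent.Lib.Helper3.Decent.Sober

set_option autoImplicit false
set_option linter.unusedSectionVars false
universe u

open CategoryTheory CategoryTheory.Limits AlgebraicGeometry Topology
open AlgSp

namespace Groth.Agent.H3.Decent

open Groth.Agent.H5.AlgSp

variable {S : Scheme.{u}}

/-- an algebraic space all of whose points are represented by quasi-compact morphisms from spectra
of fields is decent -/
theorem isDecent_of_forall_quasiCompact_point {X : Sp S} (hX : IsAlgSpace X)
    (h : ∀ x : Points X, ∃ (K : Type u) (_ : Field K) (str : Spec (CommRingCat.of K) ⟶ S)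
      (ξ : (yon S).obj (Over.mk str) ⟶ X), Points.mk (fpOfHom str ξ) = x ∧
        RepWith @QuasiCompact ξ) : IsDecent X := by
  rw [isDecent_iff]
  intro x
  obtain ⟨K, _, str, ξ, rfl, hq⟩ := h x
  exact exists_qc_mono_point_of_finite_fibres hX _ (fun U φ hU hφ R s t sq =>
    ⟨finite_fibre_of_quasiCompact_point hφ str ξ hq,
      finite_fibre_kernelPair_of_quasiCompact_point str ξ hq hφ sq⟩)

lemma isFinite_le_quasiCompact :
    (@IsFinite : MorphismProperty Scheme.{u}) ≤ @QuasiCompact := fun _ _ f hf => by
  have : IsFinite f := hf
  exact (inferInstance : QuasiCompact f)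

/-- an algebraic space with a quasi-compact surjective chart from a scheme is decent -/
theorem isDecent_of_quasiCompact_surjective_chart {X : Sp S} (hX : IsAlgSpace X) {U : Over S}
    (a : (yon S).obj U ⟶ X) (hq : RepWith @QuasiCompact a) (hs : RepWith @Surjective a) :
    IsDecent X := by
  apply isDecent_of_forall_quasiCompact_point hX
  intro x
  obtain ⟨u, rfl⟩ := ofPt_surjective_of_repWith hs x
  refine ⟨U.left.residueField u, inferInstance, U.left.fromSpecResidueField u ≫ U.hom,
    (yon S).map (Over.homMk (U.left.fromSpecResidueField u) rfl :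
      Over.mk (U.left.fromSpecResidueField u ≫ U.hom) ⟶ U) ≫ a, (ofPt_eq_mk a u).symm, ?_⟩
  refine MorphismProperty.comp_mem _ _ _ ((repWith_yon_map_iff @QuasiCompact _).2 ?_) hq
  exact quasiCompact_of_field _

end Groth.Agent.H3.Decent
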