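import Groth.Agent.Lib.Helper3.Decent.QCPoint
import Groth.Agent.Lib.Helper3.FinQuot.EtaleField
import Groth.Agent.Lib.Helper5.AlgSp.MonoDesc

/-!
# Finite fibres of etale charts and quasi-compact monomorphic points (helper3)

* `isOpenImmersion_of_mono_of_etale_field`: a monomorphism into a scheme etale over a field is an
  open immersion.
* `isFinite_kernelPair_resPt`: finiteness of the kernel pair of a residue field point.
* `finite_fibre_kernelPair_of_quasiCompact_point`, `exists_qc_mono_point_of_finite_fibres`:
  the two directions of Stacks 03JW-type equivalence (1) <-> (4).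
* `finite_fibre_of_etale_cover`: finite fibres over a point may be tested on one etale cover.
-/

set_option autoImplicit false
universe u

open CategoryTheory CategoryTheory.Limits AlgebraicGeometry TensorProduct
open AlgSp

namespace Groth.Agent.H3.Decent

open Groth.Agent.H5.AlgSp Groth.Agent.H3.FinQuot

variable {S : Scheme.{u}}


/-- A monomorphism from a non-empty scheme to the spectrum of a field is an isomorphism. -/
theorem isIso_of_mono_to_field_scheme {L : Type u} [Field L] {Z : Scheme.{u}}
    (m : Z ⟶ Spec (CommRingCat.of L)) [Mono m] [Nonempty ↥Z] : IsIso m := by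
  let S' : Scheme.{u} := Spec (CommRingCat.of L)
  let ZO : Over S' := Over.mk m
  let f : ZO ⟶ Over.mk (𝟙 S') := Over.homMk m
  have hf : Mono f := by
    have : Mono f.left := by change Mono m; infer_instance
    exact mono_of_mono_left f
  have hyf : Mono ((yon S').map f) := inferInstance
  have h := isIso_of_mono_to_field (IsAlgSpace.yon_obj ZO) (𝟙 S') ((yon S').map f)
    ⟨Points.ofScheme ZO (Classical.arbitrary (↥Z))⟩
  have hf' : IsIso f := isIso_of_fully_faithful (yon S') f
  exact (inferInstance : IsIso ((Over.forget S').map f))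

/-- A monomorphism to a scheme etale over a field is an open immersion. -/
theorem isOpenImmersion_of_mono_of_etale_field {k : Type u} [Field k] {F Z : Scheme.{u}}
    (g : F ⟶ Spec (CommRingCat.of k)) [Etale g] (j : Z ⟶ F) [Mono j] : IsOpenImmersion j := by
  choose L hL c hc hz using fun z : ↥F => exists_field_chart_of_etale_field g z
  let 𝒰 : F.OpenCover := Scheme.Cover.mkOfCovers ↥F (fun z => Spec (CommRingCat.of (L z))) c
    (fun z => by obtain ⟨y, hy⟩ := hz z; exact ⟨z, y, hy⟩) hc
  apply IsZariskiLocalAtTarget.of_openCover (P := @IsOpenImmersion) 𝒰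
  intro z
  change IsOpenImmersion (pullback.snd j (c z))
  by_cases hne : Nonempty ↥(pullback j (c z))
  · have : IsIso (pullback.snd j (c z)) := isIso_of_mono_to_field_scheme _
    infer_instance
  · have : IsEmpty ↥(pullback j (c z)) := not_nonempty_iff.1 hne
    infer_instance



/-- The residue field point of a scheme over `S`. -/
noncomputable abbrev resPt (U : Over S) (u : ↥U.left) : Over S :=
  Over.mk (U.left.fromSpecResidueField u ≫ U.hom)

/-- The inclusion of the residue field point. -/
noncomputable abbrev resι (U : Over S) (u : ↥U.left) : resPt U u ⟶ U :=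
  Over.homMk (U.left.fromSpecResidueField u) rfl

/-- The kernel pair of the residue field point of an etale chart is finite over the residue field
as soon as the fibre of the kernel pair of the chart over the point is finite. -/
theorem isFinite_kernelPair_resPt {X : Sp S} {U : Over S}
    {φ : (yon S).obj U ⟶ X} (hφ : RepWith @Etale φ) {R : Over S} {s t : R ⟶ U}
    (sq : IsPullback ((yon S).map t) ((yon S).map s) φ φ) (u : ↥U.left)
    (hfin : (Points.ofPt ((yon S).map t ≫ φ) ⁻¹' {Points.ofPt φ u}).Finite)
    {Ru : Over S} (su tu : Ru ⟶ resPt U u)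
    (squ : IsPullback ((yon S).map tu) ((yon S).map su) ((yon S).map (resι U u) ≫ φ)
      ((yon S).map (resι U u) ≫ φ)) :
    IsFinite su.left := by
  set iu := resι U u with hiu
  set φu := (yon S).map iu ≫ φ with hφu
  have hiu_mono : Mono iu.left := by
    change Mono (U.left.fromSpecResidueField u)
    infer_instance
  have hiu_mono' : Mono iu := mono_of_mono_left iu
  -- the comparison with the kernel pair of the chart
  have w : (yon S).map (tu ≫ iu) ≫ φ = (yon S).map (su ≫ iu) ≫ φ := by
    rw [Functor.map_comp, Functor.map_comp, Category.assoc, Category.assoc]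
    exact squ.w
  obtain ⟨m, hm⟩ := (yon S).map_surjective (sq.lift _ _ w)
  have hmt : m ≫ t = tu ≫ iu := by
    apply (yon S).map_injective
    rw [Functor.map_comp, hm, sq.lift_fst]
  have hms : m ≫ s = su ≫ iu := by
    apply (yon S).map_injective
    rw [Functor.map_comp, hm, sq.lift_snd]
  have hmono_m : Mono m := by
    refine ⟨fun {T} a b hab => ?_⟩
    have h1 : a ≫ tu = b ≫ tu := by
      rw [← cancel_mono iu, Category.assoc, Category.assoc, ← hmt, ← Category.assoc,
        ← Category.assoc, hab]
    have h2 : a ≫ su = b ≫ su := by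
      rw [← cancel_mono iu, Category.assoc, Category.assoc, ← hms, ← Category.assoc,
        ← Category.assoc, hab]
    apply (yon S).map_injective
    apply squ.hom_ext
    · rw [← Functor.map_comp, ← Functor.map_comp, h1]
    · rw [← Functor.map_comp, ← Functor.map_comp, h2]
  have hmono_ml : Mono m.left := inferInstance
  have hinj : Function.Injective m.left := Scheme.Hom.injective _
  have himg : ∀ y, m.left y ∈ Points.ofPt ((yon S).map t ≫ φ) ⁻¹' {Points.ofPt φ u} := by
    intro y
    rw [Set.mem_preimage, Set.mem_singleton_iff, ← ofPt_yon_map_comp, ← Category.assoc,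
      ← Functor.map_comp, hmt, Functor.map_comp, Category.assoc, ofPt_yon_map_comp,
      ofPt_yon_map_comp]
    congr 1
    exact Scheme.fromSpecResidueField_apply _ _
  have hfinR : Finite ↥Ru.left := by
    have : Finite ↥(Points.ofPt ((yon S).map t ≫ φ) ⁻¹' {Points.ofPt φ u}) := hfin.to_subtype
    exact Finite.of_injective (fun y => (⟨_, himg y⟩ :
      ↥(Points.ofPt ((yon S).map t ≫ φ) ⁻¹' {Points.ofPt φ u})))
      (fun a b hab => hinj (congrArg Subtype.val hab))
  -- the fibre of the chart
  have hrep := hφ.rep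
  let F : Over S := hrep.pullback φu
  let pr2 : F ⟶ U := hrep.fst' φu
  let pr1 : F ⟶ resPt U u := hrep.snd φu
  have sqF : IsPullback ((yon S).map pr2) ((yon S).map pr1) φ φu := hrep.isPullback' φu
  have hpr1 : Etale pr1.left := hφ.property_snd φu
  obtain ⟨j, hj⟩ := (yon S).map_surjective (sqF.lift ((yon S).map (tu ≫ iu)) ((yon S).map su)
    (by rw [Functor.map_comp, Category.assoc]; exact squ.w))
  have hj2 : j ≫ pr2 = tu ≫ iu := by
    apply (yon S).map_injective
    rw [Functor.map_comp, hj, sqF.lift_fst]
  have hj1 : j ≫ pr1 = su := by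
    apply (yon S).map_injective
    rw [Functor.map_comp, hj, sqF.lift_snd]
  have big : IsPullback ((yon S).map j ≫ (yon S).map pr1) ((yon S).map tu) φu
      ((yon S).map iu ≫ φ) := by
    rw [← Functor.map_comp, hj1]
    exact squ.flip
  have left : IsPullback ((yon S).map j) ((yon S).map tu) ((yon S).map pr2) ((yon S).map iu) :=
    IsPullback.of_right big (by rw [← Functor.map_comp, ← Functor.map_comp, hj2]) sqF.flip
  have leftO : IsPullback j tu pr2 iu := IsPullback.of_map (yon S) hj2 left
  have leftS : IsPullback j.left tu.left pr2.left iu.left := leftO.map (Over.forget S)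
  have hjmono : Mono j.left := leftS.mono_fst_of_mono
  have hjo : IsOpenImmersion j.left :=
    @isOpenImmersion_of_mono_of_etale_field _ _ _ _ pr1.left hpr1 j.left hjmono
  have hsu : su.left = j.left ≫ pr1.left := by rw [← hj1]; rfl
  have hse : Etale su.left := by rw [hsu]; infer_instance
  have hart : IsLocallyArtinian (resPt U u).left := by
    change IsLocallyArtinian (Spec (CommRingCat.of ↑(U.left.residueField u)))
    rw [Scheme.isLocallyArtinianScheme_Spec]
    infer_instance
  have : LocallyQuasiFinite su.left := locallyQuasiFinite_of_etale su.left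
  have : QuasiCompact su.left := by
    rw [quasiCompact_iff]
    intro W _ _
    exact (Set.toFinite _).isCompact
  exact IsFinite.of_locallyQuasiFinite su.left



/-- The fibre over a point represented by a quasi-compact morphism from the spectrum of a field
of the kernel pair of an affine etale chart is finite. -/
theorem finite_fibre_kernelPair_of_quasiCompact_point {X : Sp S} {K : Type u} [Field K]
    (str : Spec (CommRingCat.of K) ⟶ S) (ξ : (yon S).obj (Over.mk str) ⟶ X)
    (hq : RepWith @QuasiCompact ξ) {U : Over S} [IsAffine U.left] {φ : (yon S).obj U ⟶ X}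
    (hφ : RepWith @Etale φ) {R : Over S} {s t : R ⟶ U}
    (sq : IsPullback ((yon S).map t) ((yon S).map s) φ φ) :
    (Points.ofPt ((yon S).map t ≫ φ) ⁻¹' {Points.mk (fpOfHom str ξ)}).Finite := by
  have hrep := hq.rep
  -- the fibre of the chart
  let E : Over S := hrep.pullback φ
  let e1 : E ⟶ Over.mk str := hrep.fst' φ
  let e2 : E ⟶ U := hrep.snd φ
  have sqE : IsPullback ((yon S).map e1) ((yon S).map e2) ξ φ := hrep.isPullback' φ
  have hqc : QuasiCompact e2.left := hq.property_snd φ
  have hT : CompactSpace E.left := QuasiCompact.compactSpace_of_compactSpace e2.left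
  have he1 : Etale e1.left := by
    have := (RepWith @Etale).of_isPullback sqE.flip hφ
    exact (repWith_yon_map_iff @Etale e1).1 this
  have hlqf : LocallyQuasiFinite e1.left := locallyQuasiFinite_of_etale _
  have haff : IsAffine (Over.mk str).left := inferInstanceAs (IsAffine (Spec (CommRingCat.of K)))
  have hsqc : QuasiCompact e1.left := inferInstance
  have hart : IsLocallyArtinian (Over.mk str).left := by
    change IsLocallyArtinian (Spec (CommRingCat.of K))
    rw [Scheme.isLocallyArtinianScheme_Spec]
    infer_instance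
  have hfin1 : IsFinite e1.left := IsFinite.of_locallyQuasiFinite e1.left
  have hPfin : Finite ↥(pullback e1.left e1.left) := by
    have h1 : IsFinite (pullback.fst e1.left e1.left ≫ e1.left) := inferInstance
    have h2 := Scheme.Hom.finite_preimage_singleton (pullback.fst e1.left e1.left ≫ e1.left)
      (IsLocalRing.closedPoint K)
    have h3 : (pullback.fst e1.left e1.left ≫ e1.left) ⁻¹' {IsLocalRing.closedPoint K} = Set.univ := by
      ext y
      simp only [Set.mem_preimage, Set.mem_univ, iff_true, Set.mem_singleton_iff]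
      exact Subsingleton.elim (α := ↥(Spec (CommRingCat.of K))) _ _
    exact Set.finite_univ_iff.1 (h3 ▸ h2)
  -- the fibre of the kernel pair
  let ER : Over S := hrep.pullback ((yon S).map t ≫ φ)
  let r1 : ER ⟶ Over.mk str := hrep.fst' ((yon S).map t ≫ φ)
  let r2 : ER ⟶ R := hrep.snd ((yon S).map t ≫ φ)
  have sqR : IsPullback ((yon S).map r1) ((yon S).map r2) ξ ((yon S).map t ≫ φ) :=
    hrep.isPullback' _
  obtain ⟨a, ha⟩ := (yon S).map_surjective (sqE.lift ((yon S).map r1) ((yon S).map (r2 ≫ t))
    (by rw [Functor.map_comp, Category.assoc]; exact sqR.w))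
  obtain ⟨b, hb⟩ := (yon S).map_surjective (sqE.lift ((yon S).map r1) ((yon S).map (r2 ≫ s))
    (by rw [Functor.map_comp, Category.assoc, ← sq.w]; exact sqR.w))
  have ha1 : a ≫ e1 = r1 := by
    apply (yon S).map_injective
    rw [Functor.map_comp, ha, sqE.lift_fst]
  have ha2 : a ≫ e2 = r2 ≫ t := by
    apply (yon S).map_injective
    rw [Functor.map_comp, ha, sqE.lift_snd]
  have hb1 : b ≫ e1 = r1 := by
    apply (yon S).map_injective
    rw [Functor.map_comp, hb, sqE.lift_fst]
  have hb2 : b ≫ e2 = r2 ≫ s := by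
    apply (yon S).map_injective
    rw [Functor.map_comp, hb, sqE.lift_snd]
  have wab : a.left ≫ e1.left = b.left ≫ e1.left := by
    have := congrArg CommaMorphism.left (ha1.trans hb1.symm)
    exact this
  have hmono : Mono (pullback.lift a.left b.left wab) := by
    refine ⟨fun {T₀} x y hxy => ?_⟩
    have h1 : x ≫ a.left = y ≫ a.left := by
      have := congrArg (· ≫ pullback.fst e1.left e1.left) hxy
      simpa only [Category.assoc, pullback.lift_fst] using this
    have h2 : x ≫ b.left = y ≫ b.left := by
      have := congrArg (· ≫ pullback.snd e1.left e1.left) hxy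
      simpa only [Category.assoc, pullback.lift_snd] using this
    let T : Over S := Over.mk (x ≫ ER.hom)
    let x' : T ⟶ ER := Over.homMk x rfl
    let y' : T ⟶ ER := Over.homMk y (by
      change y ≫ ER.hom = x ≫ ER.hom
      rw [← Over.w a, ← Category.assoc, ← h1, Category.assoc])
    have h1' : x' ≫ a = y' ≫ a := by ext; exact h1
    have h2' : x' ≫ b = y' ≫ b := by ext; exact h2
    have k1 : x' ≫ r1 = y' ≫ r1 := by
      rw [← ha1, ← Category.assoc, h1', Category.assoc]
    have k2t : (x' ≫ r2) ≫ t = (y' ≫ r2) ≫ t := by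
      rw [Category.assoc, Category.assoc, ← ha2, ← Category.assoc, h1', Category.assoc]
    have k2s : (x' ≫ r2) ≫ s = (y' ≫ r2) ≫ s := by
      rw [Category.assoc, Category.assoc, ← hb2, ← Category.assoc, h2', Category.assoc]
    have k2 : x' ≫ r2 = y' ≫ r2 := by
      apply (yon S).map_injective
      apply sq.hom_ext
      · rw [← Functor.map_comp, ← Functor.map_comp, k2t]
      · rw [← Functor.map_comp, ← Functor.map_comp, k2s]
    have : x' = y' := by
      apply (yon S).map_injective
      apply sqR.hom_ext
      · rw [← Functor.map_comp, ← Functor.map_comp, k1]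
      · rw [← Functor.map_comp, ← Functor.map_comp, k2]
    exact congrArg CommaMorphism.left this
  have hERfin : Finite ↥ER.left :=
    Finite.of_injective _ (Scheme.Hom.injective (pullback.lift a.left b.left wab))
  refine (Set.finite_range r2.left).subset ?_
  intro r hr
  have hxr : Points.map ξ (Points.ofScheme (Over.mk str) (IsLocalRing.closedPoint K)) =
      Points.ofPt ((yon S).map t ≫ φ) r := by
    rw [← Points.ofPt_eq_map_ofScheme, ofPt_closedPoint]
    exact hr.symm
  obtain ⟨v, hv1, -⟩ := exists_point_of_isPullback sqR _ r hxr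
  exact ⟨v, hv1⟩



/-- If the fibres over `x` of all affine etale charts and of their kernel pairs are finite, then `x`
is represented by a quasi-compact monomorphism from the spectrum of a field. -/
theorem exists_qc_mono_point_of_finite_fibres {X : Sp S} (hX : IsAlgSpace X) (x : Points X)
    (h : ∀ (U : Over S) (φ : (yon S).obj U ⟶ X), IsAffine U.left → RepWith @Etale φ →
        ∀ (R : Over S) (s t : R ⟶ U), IsPullback ((yon S).map t) ((yon S).map s) φ φ →
          (Points.ofPt φ ⁻¹' {x}).Finite ∧ (Points.ofPt ((yon S).map t ≫ φ) ⁻¹' {x}).Finite) :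
    ∃ (K : Type u) (_ : Field K) (str : Spec (CommRingCat.of K) ⟶ S)
      (ξ : (yon S).obj (Over.mk str) ⟶ X),
      Points.mk (fpOfHom str ξ) = x ∧ Mono ξ ∧ RepWith @QuasiCompact ξ := by
  obtain ⟨U₀, a, hae, has⟩ := hX.atlas
  -- the family of affine charts
  let V : U₀.left.affineOpens → Over S := fun W => overOpen U₀ W.1
  let ψ : ∀ W, (yon S).obj (V W) ⟶ X := fun W => (yon S).map (overOpenι U₀ W.1) ≫ a
  have hψ : ∀ W, RepWith @Etale (ψ W) := fun W => repWith_etale_restrict hae W.1
  have hVaff : ∀ W, IsAffine (V W).left := fun W => W.2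
  have hsurj : ∀ y : Points X, ∃ (W : U₀.left.affineOpens) (v : ↥(V W).left),
      Points.ofPt (ψ W) v = y := by
    intro y
    obtain ⟨u, rfl⟩ := ofPt_surjective_of_repWith has y
    obtain ⟨_, ⟨W, hW, rfl⟩, huW, -⟩ := U₀.left.isBasis_affineOpens.exists_subset_of_mem_open
      (Set.mem_univ u) isOpen_univ
    exact ⟨⟨W, hW⟩, ⟨u, huW⟩, ofPt_restrict a W ⟨u, huW⟩⟩
  have hfinV : ∀ W, (Points.ofPt (ψ W) ⁻¹' {x}).Finite := by
    intro W
    have hrep := (hψ W).rep
    exact (h (V W) (ψ W) (hVaff W) (hψ W) (hrep.pullback (ψ W)) (hrep.snd (ψ W))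
      (hrep.fst' (ψ W)) (hrep.isPullback' (ψ W))).1
  obtain ⟨W, u, rfl⟩ := hsurj x
  -- the kernel pair of the chart
  have hrep := (hψ W).rep
  let R : Over S := hrep.pullback (ψ W)
  let t : R ⟶ V W := hrep.fst' (ψ W)
  let s : R ⟶ V W := hrep.snd (ψ W)
  have sq : IsPullback ((yon S).map t) ((yon S).map s) (ψ W) (ψ W) := hrep.isPullback' (ψ W)
  have hfinR := (h (V W) (ψ W) (hVaff W) (hψ W) R s t sq).2
  -- the kernel pair of the residue field point
  set φu := (yon S).map (resι (V W) u) ≫ ψ W with hφu
  have hrepu : Representable φu := hX.representable_from_yon φu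
  let Ru : Over S := hrepu.pullback φu
  let tu : Ru ⟶ resPt (V W) u := hrepu.fst' φu
  let su : Ru ⟶ resPt (V W) u := hrepu.snd φu
  have squ : IsPullback ((yon S).map tu) ((yon S).map su) φu φu := hrepu.isPullback' φu
  have hsufin : IsFinite su.left := isFinite_kernelPair_resPt (hψ W) sq u hfinR su tu squ
  obtain ⟨k', hk', str', cm, q, hq1, hq2, -⟩ :=
    @exists_mono_of_finite_kernelPair S X _ _ _ φu Ru su tu squ hsufin
  have hpt : Points.mk (fpOfHom str' q) = Points.ofPt (ψ W) u := by
    rw [ofPt_eq_mk, ← mk_fpOfHom_comp str' _ cm q, hq2]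
    rfl
  refine ⟨k', hk', str', q, hpt, hq1, ?_⟩
  exact repWith_quasiCompact_of_mono_of_finite_fibres hX str' q V ψ hψ hsurj
    (fun W' => by rw [hpt]; exact hfinV W')



/-- A locally quasi-finite morphism has finite fibres on affine opens mapping into affine opens. -/
lemma finite_inter_preimage {X Y : Scheme.{u}} (f : X ⟶ Y) [LocallyQuasiFinite f] (W : X.Opens)
    (hW : IsAffineOpen W) (N : Y.Opens) (hN : IsAffineOpen N) (e : W ≤ f ⁻¹ᵁ N) {s : Set ↥Y}
    (hs : s.Finite) : ((W : Set ↥X) ∩ f ⁻¹' s).Finite := by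
  have : IsAffine W.toScheme := hW
  have : IsAffine N.toScheme := hN
  have h1 : (N.ι ⁻¹' s).Finite := hs.preimage N.ι.isOpenEmbedding.injective.injOn
  have h2 := (f.resLE N W e).finite_preimage h1
  refine (h2.image W.ι).subset ?_
  rintro w ⟨hwW, hws⟩
  refine ⟨⟨w, hwW⟩, ?_, rfl⟩
  rw [Set.mem_preimage, Set.mem_preimage, ← Scheme.Hom.comp_apply, Scheme.Hom.resLE_comp_ι,
    Scheme.Hom.comp_apply]
  exact hws

/-- If the fibres over `x` of a jointly surjective family of etale charts are finite, then the fibre
over `x` of every affine etale chart is finite. -/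
theorem finite_fibre_of_etale_cover {X : Sp S} (x : Points X) {ι : Type*} (U : ι → Over S)
    (φ : ∀ i, (yon S).obj (U i) ⟶ X) (hφ : ∀ i, RepWith @Etale (φ i))
    (hsurj : ∀ y : Points X, ∃ (i : ι) (v : ↥(U i).left), Points.ofPt (φ i) v = y)
    (hfin : ∀ i, (Points.ofPt (φ i) ⁻¹' {x}).Finite)
    {V : Over S} [IsAffine V.left] (ψ : (yon S).obj V ⟶ X) (hψ : RepWith @Etale ψ) :
    (Points.ofPt ψ ⁻¹' {x}).Finite := by
  let T : ι → Over S := fun i => (hφ i).rep.pullback ψ
  let top : ∀ i, T i ⟶ U i := fun i => (hφ i).rep.fst' ψ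
  let pr : ∀ i, T i ⟶ V := fun i => (hφ i).rep.snd ψ
  have sqT : ∀ i, IsPullback ((yon S).map (top i)) ((yon S).map (pr i)) (φ i) ψ := fun i =>
    (hφ i).rep.isPullback' ψ
  have hpr : ∀ i, Etale (pr i).left := fun i => (hφ i).property_snd ψ
  have htop : ∀ i, Etale (top i).left := fun i => by
    have := (RepWith @Etale).of_isPullback (sqT i).flip hψ
    exact (repWith_yon_map_iff @Etale (top i)).1 this
  have hlqf : ∀ i, LocallyQuasiFinite (top i).left := fun i => locallyQuasiFinite_of_etale _
  -- the index type of the cover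
  let Idx := Σ i, {p : (T i).left.affineOpens × (U i).left.affineOpens //
    p.1.1 ≤ (top i).left ⁻¹ᵁ p.2.1}
  let O : Idx → Set ↥V.left := fun q => (pr q.1).left '' (q.2.1.1.1 : Set _)
  have hO : ∀ q, IsOpen (O q) := fun q => by
    have := hpr q.1
    exact (pr q.1).left.isOpenMap _ q.2.1.1.1.2
  have hcov : (Set.univ : Set ↥V.left) ⊆ ⋃ q, O q := by
    intro v _
    obtain ⟨i, u, hu⟩ := hsurj (Points.ofPt ψ v)
    obtain ⟨w, hw, -⟩ := exists_point_of_isPullback (sqT i) (Points.ofScheme (U i) u) v (by
      rw [← Points.ofPt_eq_map_ofScheme, hu])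
    obtain ⟨_, ⟨N, hN, rfl⟩, hwN, -⟩ := (U i).left.isBasis_affineOpens.exists_subset_of_mem_open
      (Set.mem_univ ((top i).left w)) isOpen_univ
    obtain ⟨_, ⟨W, hW, rfl⟩, hwW, hWN⟩ := (T i).left.isBasis_affineOpens.exists_subset_of_mem_open
      (show w ∈ ((top i).left ⁻¹ᵁ N : Set _) from hwN) ((top i).left ⁻¹ᵁ N).2
    exact Set.mem_iUnion.2 ⟨⟨i, ⟨(⟨W, hW⟩, ⟨N, hN⟩), hWN⟩⟩, w, hwW, hw⟩
  have hVc : CompactSpace ↥V.left := inferInstance
  obtain ⟨s, hs⟩ := isCompact_univ.elim_finite_subcover O hO hcov
  have key : ∀ q : Idx, ((q.2.1.1.1 : Set _) ∩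
      (top q.1).left ⁻¹' (Points.ofPt (φ q.1) ⁻¹' {x})).Finite := fun q =>
    finite_inter_preimage (top q.1).left q.2.1.1.1 q.2.1.1.2 q.2.1.2.1 q.2.1.2.2 q.2.2 (hfin q.1)
  refine (s.finite_toSet.biUnion (fun q _ => (key q).image (pr q.1).left)).subset ?_
  intro v hv
  obtain ⟨q, hq, w, hwW, rfl⟩ : ∃ q ∈ s, v ∈ O q := by
    have := hs (Set.mem_univ v)
    simpa only [Set.mem_iUnion, exists_prop] using this
  refine Set.mem_biUnion hq ⟨w, ⟨hwW, ?_⟩, rfl⟩
  rw [Set.mem_preimage, Set.mem_preimage, Set.mem_singleton_iff, ← ofPt_yon_map_comp, (sqT q.1).w,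
    ofPt_yon_map_comp]
  exact hv


end Groth.Agent.H3.Decent
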