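import Groth.Agent.Lib.Helper5.AlgSp.QCompact
import Groth.Agent.Lib.Helper5.AlgSp.Decent
import Groth.Agent.Lib.Helper5.AlgSp.DecentGen
import Groth.Agent.Lib.Helper5.AlgSp.ImmersionTop
import Groth.Agent.Lib.Helper5.AlgSp.LocalRep

/-!
# Quasi-compactness of field points and Zariski locality of decency (helper3)
-/

set_option autoImplicit false
universe u

open CategoryTheory CategoryTheory.Limits AlgebraicGeometry TensorProduct
open AlgSp

namespace Groth.Agent.H3.Decent

open Groth.Agent.H5.AlgSp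

variable {S : Scheme.{u}}


/-- Quasi-compactness of a morphism descends along a jointly surjective family of etale charts
of the target. -/
theorem isQuasiCompactMor_of_etale_cover {X Y : Sp S} (hX : IsAlgSpace X) (hY : IsAlgSpace Y)
    {f : X ⟶ Y} {ι : Type*} (V : ι → Over S) (ψ : ∀ i, (yon S).obj (V i) ⟶ Y)
    (hψ : ∀ i, RepWith @Etale (ψ i))
    (hsurj : ∀ y : Points Y, ∃ (i : ι) (v : ↥(V i).left), Points.ofPt (ψ i) v = y)
    (h : ∀ i, IsQuasiCompactMor (pullback.snd f (ψ i))) : IsQuasiCompactMor f := by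
  apply isQuasiCompactMor_of_forall_affine hX hY
  intro Z hZ g P fst snd sq
  have hP : IsAlgSpace P := isAlgSpace_pullback hY.diag hX (IsAlgSpace.yon_obj Z) sq
  rw [isQuasiCompactSp_iff_compactSpace hP]
  -- the etale charts of `Z`
  let T : ι → Over S := fun i => (hψ i).rep.pullback g
  let pr : ∀ i, T i ⟶ Z := fun i => (hψ i).rep.snd g
  let top : ∀ i, (yon S).obj (T i) ⟶ (yon S).obj (V i) := fun i => (hψ i).rep.fst g
  have sqT : ∀ i, IsPullback (top i) ((yon S).map (pr i)) (ψ i) g := fun i =>
    (hψ i).rep.isPullback g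
  have hpr : ∀ i, Etale (pr i).left := fun i => (hψ i).property_snd g
  -- the open cover of `Z`
  let O : (Σ i, (T i).left.affineOpens) → Set ↥Z.left := fun p => (pr p.1).left '' (p.2.1 : Set _)
  have hO : ∀ p, IsOpen (O p) := fun p => by
    have := hpr p.1
    exact (pr p.1).left.isOpenMap _ p.2.1.2
  have hcov : (Set.univ : Set ↥Z.left) ⊆ ⋃ p, O p := by
    intro z _
    obtain ⟨i, v, hv⟩ := hsurj (Points.ofPt g z)
    obtain ⟨t, ht, -⟩ := exists_point_of_isPullback (sqT i) (Points.ofScheme (V i) v) z (by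
      rw [← Points.ofPt_eq_map_ofScheme, hv])
    obtain ⟨_, ⟨W, hW, rfl⟩, htW, -⟩ := (T i).left.isBasis_affineOpens.exists_subset_of_mem_open
      (Set.mem_univ t) isOpen_univ
    exact Set.mem_iUnion.2 ⟨⟨i, ⟨W, hW⟩⟩, t, htW, ht⟩
  have hZc : CompactSpace ↥Z.left := inferInstance
  obtain ⟨s, hs⟩ := isCompact_univ.elim_finite_subcover O hO hcov
  -- the pieces of `P`
  have key : ∀ p : (Σ i, (T i).left.affineOpens), IsCompact (Set.range (Points.map
      (pullback.fst snd ((yon S).map (overOpenι (T p.1) p.2.1 ≫ pr p.1))))) := by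
    rintro ⟨i, W⟩
    set c : overOpen (T i) W.1 ⟶ Z := overOpenι (T i) W.1 ≫ pr i with hc
    have sqQ := IsPullback.of_hasPullback snd ((yon S).map c)
    have hQ : IsAlgSpace (pullback snd ((yon S).map c)) :=
      isAlgSpace_pullback (IsAlgSpace.yon_obj Z).diag hP (IsAlgSpace.yon_obj _) sqQ
    have big : IsPullback (pullback.fst snd ((yon S).map c) ≫ fst)
        (pullback.snd snd ((yon S).map c)) f ((yon S).map c ≫ g) := sqQ.paste_horiz sq
    have hcg : (yon S).map c ≫ g = ((yon S).map (overOpenι (T i) W.1) ≫ top i) ≫ ψ i := by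
      rw [hc, Functor.map_comp, Category.assoc, Category.assoc, (sqT i).w]
    rw [hcg] at big
    have sqi := IsPullback.of_hasPullback f (ψ i)
    have hw : (pullback.fst snd ((yon S).map c) ≫ fst) ≫ f =
        (pullback.snd snd ((yon S).map c) ≫ (yon S).map (overOpenι (T i) W.1) ≫ top i) ≫ ψ i := by
      rw [Category.assoc _ _ (ψ i)]
      exact big.w
    have left : IsPullback (sqi.lift _ _ hw) (pullback.snd snd ((yon S).map c))
        (pullback.snd f (ψ i)) ((yon S).map (overOpenι (T i) W.1) ≫ top i) := by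
      apply IsPullback.of_right (h₁₂ := pullback.fst f (ψ i)) (h₂₂ := ψ i) _ _ sqi
      · rw [sqi.lift_fst]; exact big
      · exact sqi.lift_snd _ _ _
    have hqc : IsQuasiCompactSp (pullback snd ((yon S).map c)) :=
      h i (IsAlgSpace.yon_obj _) ((isQuasiCompactSp_yon_iff _).2 (by
        change CompactSpace ↥(W.1 : Scheme.{u})
        exact isCompact_iff_compactSpace.1 W.2.isCompact)) _ _ _ left
    have := (isQuasiCompactSp_iff_compactSpace hQ).1 hqc
    exact isCompact_range (Points.continuous_map _)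
  constructor
  have hun : (Set.univ : Set (Points P)) = ⋃ p ∈ s, Set.range (Points.map
      (pullback.fst snd ((yon S).map (overOpenι (T p.1) p.2.1 ≫ pr p.1)))) := by
    ext w
    simp only [Set.mem_univ, true_iff, Set.mem_iUnion]
    obtain ⟨z, hz⟩ := ofScheme_surjective Z (Points.map snd w)
    have hzs := hs (Set.mem_univ z)
    simp only [Set.mem_iUnion] at hzs
    obtain ⟨p, hp, t, htW, ht⟩ := hzs
    refine ⟨p, hp, ?_⟩
    rw [range_points_map_fst (IsPullback.of_hasPullback snd _)]
    refine ⟨Points.ofScheme _ ⟨t, htW⟩, ?_⟩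
    rw [← Points.ofPt_eq_map_ofScheme, Functor.map_comp, ofPt_yon_map_comp]
    rw [← Category.comp_id ((yon S).map (pr p.1)), ofPt_yon_map_comp,
      Points.ofPt_eq_map_ofScheme, Points.map_id, ← hz]
    congr 1
  rw [hun]
  exact s.finite_toSet.isCompact_biUnion (fun p _ => key p)





/-- Every point of the spectrum of a field maps to the point defined by the morphism. -/
lemma points_map_field {X : Sp S} {K : Type u} [Field K] (str : Spec (CommRingCat.of K) ⟶ S)
    (p : (yon S).obj (Over.mk str) ⟶ X) (z : Points ((yon S).obj (Over.mk str))) :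
    Points.map p z = Points.mk (fpOfHom str p) := by
  obtain ⟨pt, rfl⟩ := ofScheme_surjective (Over.mk str) z
  rw [← Points.ofPt_eq_map_ofScheme, ← ofPt_closedPoint]
  congr 1
  exact Subsingleton.elim (α := PrimeSpectrum K) _ _

/-- **A monomorphism from the spectrum of a field is quasi-compact as soon as the fibres over its
point of a jointly surjective family of etale charts are finite.** -/
theorem repWith_quasiCompact_of_mono_of_finite_fibres {X : Sp S} (hX : IsAlgSpace X)
    {K : Type u} [Field K] (str : Spec (CommRingCat.of K) ⟶ S)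
    (p : (yon S).obj (Over.mk str) ⟶ X) [Mono p] {ι : Type*} (V : ι → Over S)
    (ψ : ∀ i, (yon S).obj (V i) ⟶ X) (hψ : ∀ i, RepWith @Etale (ψ i))
    (hsurj : ∀ y : Points X, ∃ (i : ι) (v : ↥(V i).left), Points.ofPt (ψ i) v = y)
    (hfin : ∀ i, (Points.ofPt (ψ i) ⁻¹' {Points.mk (fpOfHom str p)}).Finite) :
    RepWith @QuasiCompact p := by
  have hrep : Representable p := hX.representable_from_yon p
  refine (repWith_quasiCompact_iff hrep).2 (isQuasiCompactMor_of_etale_cover
    (IsAlgSpace.yon_obj _) hX V ψ hψ hsurj (fun i => ?_))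
  apply isQuasiCompactMor_of_repWith
  have sqE := hrep.isPullback (ψ i)
  have sqP := IsPullback.of_hasPullback p (ψ i)
  let e₀ : (yon S).obj (hrep.pullback (ψ i)) ≅ pullback p (ψ i) := sqE.isoIsPullback _ _ sqP
  have he₀ : e₀.hom ≫ pullback.snd p (ψ i) = (yon S).map (hrep.snd (ψ i)) :=
    sqE.isoIsPullback_hom_snd _ _ sqP
  rw [← MorphismProperty.cancel_left_of_respectsIso (RepWith @QuasiCompact) e₀.hom, he₀,
    repWith_yon_map_iff]
  -- the scheme `E` is finite
  have hmono : Mono ((yon S).map (hrep.snd (ψ i))) := sqE.mono_snd_of_mono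
  have hmono2 : Mono (hrep.snd (ψ i)) := (yon S).mono_of_mono_map hmono
  have hmono3 : Mono (hrep.snd (ψ i)).left := inferInstance
  have hinj : Function.Injective (hrep.snd (ψ i)).left := Scheme.Hom.injective _
  have himg : ∀ y, (hrep.snd (ψ i)).left y ∈
      Points.ofPt (ψ i) ⁻¹' {Points.mk (fpOfHom str p)} := by
    intro y
    rw [Set.mem_preimage, Set.mem_singleton_iff, ← ofPt_yon_map_comp, ← sqE.w,
      ← Points.map_ofPt, points_map_field]
  have hfinE : Finite ↥(hrep.pullback (ψ i)).left := by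
    have : Finite ↥(Points.ofPt (ψ i) ⁻¹' {Points.mk (fpOfHom str p)}) := (hfin i).to_subtype
    exact Finite.of_injective (fun y => (⟨_, himg y⟩ :
      ↥(Points.ofPt (ψ i) ⁻¹' {Points.mk (fpOfHom str p)})))
      (fun a b hab => hinj (congrArg Subtype.val hab))
  change QuasiCompact (hrep.snd (ψ i)).left
  rw [quasiCompact_iff]
  intro U _ _
  exact (Set.toFinite _).isCompact





/-- Finite fibres of affine etale charts over every point of a decent space. -/
theorem finite_fibre_of_isDecent {X : Sp S} (hd : IsDecent X) {U : Over S} [IsAffine U.left]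
    {a : (yon S).obj U ⟶ X} (ha : RepWith @Etale a) (x : Points X) :
    (Points.ofPt a ⁻¹' {x}).Finite := by
  obtain ⟨K, _, str, ξ, rfl, -, hq⟩ := isDecent_iff.1 hd x
  exact finite_fibre_of_quasiCompact_point ha str ξ hq

/-- **Decency is Zariski local.** -/
theorem isDecent_of_zarCover {X : Sp S} (hX : IsAlgSpace X) {ι : Type u} (Xi : ι → Sp S)
    (hXi : ∀ i, IsAlgSpace (Xi i)) (j : ∀ i, Xi i ⟶ X)
    (hj : ∀ i, RepWith @IsOpenImmersion (j i))
    (hcov : ∀ x : Points X, ∃ i, x ∈ Set.range (Points.map (j i)))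
    (hd : ∀ i, IsDecent (Xi i)) : IsDecent X := by
  have hmono : ∀ i, Mono (j i) := fun i => mono_of_repWith LocalRep.isOpenImmersion_le_mono (hj i)
  have hje : ∀ i, RepWith @Etale (j i) := fun i =>
    repWith_mono (fun _ _ f hf => by
      have : IsOpenImmersion f := hf
      exact (inferInstance : Etale f)) (hj i)
  choose U a hae has using fun i => (hXi i).atlas
  -- the family of charts
  let V : (Σ i, (U i).left.affineOpens) → Over S := fun q => overOpen (U q.1) q.2.1
  let ψ : ∀ q, (yon S).obj (V q) ⟶ X := fun q =>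
    ((yon S).map (overOpenι (U q.1) q.2.1) ≫ a q.1) ≫ j q.1
  have hψ : ∀ q, RepWith @Etale (ψ q) := fun q =>
    MorphismProperty.comp_mem _ _ _ (repWith_etale_restrict (hae q.1) q.2.1) (hje q.1)
  have hsurj : ∀ y : Points X, ∃ (q : Σ i, (U i).left.affineOpens) (v : ↥(V q).left),
      Points.ofPt (ψ q) v = y := by
    intro y
    obtain ⟨i, yi, rfl⟩ := hcov y
    obtain ⟨u, rfl⟩ := ofPt_surjective_of_repWith (has i) yi
    obtain ⟨_, ⟨W, hW, rfl⟩, huW, -⟩ := (U i).left.isBasis_affineOpens.exists_subset_of_mem_open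
      (Set.mem_univ u) isOpen_univ
    refine ⟨⟨i, ⟨W, hW⟩⟩, ⟨u, huW⟩, ?_⟩
    rw [← Points.map_ofPt, ofPt_restrict]
  have hfin : ∀ q (x : Points X), (Points.ofPt (ψ q) ⁻¹' {x}).Finite := by
    intro q x
    by_cases hx : ∃ xi, Points.map (j q.1) xi = x
    · obtain ⟨xi, rfl⟩ := hx
      have : IsAffine (V q).left := q.2.2
      have h1 := finite_fibre_of_isDecent (hd q.1) (repWith_etale_restrict (hae q.1) q.2.1) xi
      refine h1.subset ?_
      intro v hv
      rw [Set.mem_preimage, Set.mem_singleton_iff, ← Points.map_ofPt] at hv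
      exact points_map_injective_of_mono (j q.1) hv
    · convert Set.finite_empty
      ext v
      simp only [Set.mem_preimage, Set.mem_singleton_iff, Set.mem_empty_iff_false, iff_false]
      intro hv
      exact hx ⟨_, (Points.map_ofPt _ _ _).trans hv⟩
  rw [isDecent_iff]
  intro x
  obtain ⟨i, xi, rfl⟩ := hcov x
  obtain ⟨K, _, str, ξ, rfl, hm, hq⟩ := isDecent_iff.1 (hd i) xi
  have hmp : Mono (ξ ≫ j i) := mono_comp _ _
  refine ⟨K, inferInstance, str, ξ ≫ j i, (map_mk_fpOfHom str ξ (j i)).symm, hmp, ?_⟩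
  exact repWith_quasiCompact_of_mono_of_finite_fibres hX str (ξ ≫ j i) V ψ hψ hsurj
    (fun q => hfin q _)


end Groth.Agent.H3.Decent
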