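import Groth.Agent.Lib.Helper3.FinQuot.NormShrink
import Groth.Agent.Lib.Helper3.Decent.QCPoint
import Groth.Agent.Lib.Helper3.Decent.FiniteFibres
import Groth.Agent.Lib.Helper5.AlgSp.Decent

set_option autoImplicit false
set_option linter.unusedSectionVars false
universe u

open CategoryTheory CategoryTheory.Limits AlgebraicGeometry TensorProduct
open AlgSp

namespace Groth.Agent.H3.Decent

open Groth.Agent.H5.AlgSp Groth.Agent.H3.FinQuot Groth.Agent.H3.EtaleDeg

variable {S : Scheme.{u}}

/-- every point of an algebraic space lies in the image of an affine étale chart -/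
lemma exists_affine_etale_chart {X : Sp S} (hX : IsAlgSpace X) (x : Points X) :
    ∃ (A : CommRingCat.{u}) (str : Spec A ⟶ S) (p : (yon S).obj (Over.mk str) ⟶ X)
      (u : ↥(Spec A)), RepWith @Etale p ∧ Points.ofPt p u = x := by
  obtain ⟨U₀, a, hae, has⟩ := hX.atlas
  obtain ⟨u₀, hu₀⟩ := ofPt_surjective_of_repWith has x
  obtain ⟨A, i, hi, y, hy⟩ := U₀.left.exists_Spec_apply_eq u₀
  let j : Over.mk (i ≫ U₀.hom) ⟶ U₀ := Over.homMk i rfl
  refine ⟨A, i ≫ U₀.hom, (yon S).map j ≫ a, y, ?_, ?_⟩
  · exact MorphismProperty.comp_mem _ _ _ ((repWith_yon_map_iff @Etale j).2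
      (inferInstanceAs (Etale i))) hae
  · rw [ofPt_yon_map_comp]
    change Points.ofPt a (i y) = x
    rw [hy, hu₀]

/-- **Decent spaces have a nonempty schematic locus, chart version**: every nonempty affine étale
chart of a decent algebraic space has a point mapping into the schematic locus. -/
theorem exists_mem_schematicSet_of_affine_chart {X : Sp S} (hd : IsDecent X)
    {A : CommRingCat.{u}} (str : Spec A ⟶ S) (p : (yon S).obj (Over.mk str) ⟶ X)
    (hp : RepWith @Etale p) [Nonempty (PrimeSpectrum A)] :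
    ∃ u : PrimeSpectrum A, Points.ofPt p (specPt u) ∈ schematicSet X := by
  classical
  have hrep := hp.rep
  let R : Over S := hrep.pullback p
  let t : R ⟶ Over.mk str := hrep.fst' p
  let s : R ⟶ Over.mk str := hrep.snd p
  have sq : IsPullback ((yon S).map t) ((yon S).map s) p p := hrep.isPullback' p
  have hse : Etale s.left := hp.property p _ s sq
  have hUaff : IsAffine (Over.mk str).left := (inferInstance : IsAffine (Spec A))
  have hstr : IsSeparated (Over.mk str).hom := (inferInstance : IsSeparated str)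
  have hsep : IsSeparated s.left := isSeparated_snd_of_kernelPair p s t sq
  have hlqf : LocallyQuasiFinite s.left := locallyQuasiFinite_of_etale s.left
  have hnt : Nontrivial A := by
    by_contra h
    rw [not_nontrivial_iff_subsingleton] at h
    exact (PrimeSpectrum.instIsEmptyOfSubsingleton : IsEmpty (PrimeSpectrum A)).false
      (Classical.arbitrary _)
  -- the strata
  let U : ℕ → TopologicalSpace.Opens (PrimeSpectrum A) := fun n =>
    ⟨(degGE s.left n : Set ↥(Spec A)), isOpen_degGE n s.left⟩
  have hU0 : U 0 = ⊤ := by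
    apply TopologicalSpace.Opens.ext
    exact degGE_zero s.left
  have hinter : ∀ q : PrimeSpectrum A, ∃ n, q ∉ U n := by
    intro q
    obtain ⟨K, _, strK, ξ, hξ, -, hq⟩ := isDecent_iff.1 hd (Points.ofPt p (specPt q))
    have hfinR := finite_fibre_kernelPair_of_quasiCompact_point strK ξ hq hp sq
    have hsub : s.left ⁻¹' {specPt q} ⊆
        Points.ofPt ((yon S).map t ≫ p) ⁻¹' {Points.mk (fpOfHom strK ξ)} := by
      intro r hr
      have hr' : s.left r = specPt q := hr
      change Points.ofPt ((yon S).map t ≫ p) r = _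
      rw [ofPt_yon_map_comp, hξ, ← hr']
      exact (ofPt_eq_ofPt_iff sq _ _).2 ⟨r, rfl, rfl⟩
    obtain ⟨N, hN⟩ := exists_notMem_degGE_of_finite_fibre s.left (specPt q) (hfinR.subset hsub)
    exact ⟨N, hN⟩
  obtain ⟨n, g₀, hne, hle, hdisj⟩ := exists_basicOpen_stratum U hU0 hinter
  obtain ⟨u₁, hu₁⟩ := hne
  refine ⟨u₁, ?_⟩
  -- the orbit of `u₁`
  have hOfin : (Points.ofPt p ⁻¹' {Points.ofPt p (specPt u₁)}).Finite :=
    finite_fibre_of_isDecent hd hp _
  -- the saturation of `D(g₀)`
  let U' : Set (PrimeSpectrum A) :=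
    {q | ∃ v : PrimeSpectrum A, v ∈ PrimeSpectrum.basicOpen g₀ ∧
      Points.ofPt p (specPt q) = Points.ofPt p (specPt v)}
  have hU'open : IsOpen U' := by
    have h1 : IsOpen (Points.ofPt p '' ((PrimeSpectrum.basicOpen g₀ : Set (PrimeSpectrum A)) :
        Set ↥(Spec A))) :=
      isOpenMap_ofPt_of_etale hp _ (PrimeSpectrum.basicOpen g₀).2
    have h2 := h1.preimage (Points.continuous_ofPt p)
    have h3 : U' = Points.ofPt p ⁻¹' (Points.ofPt p ''
        ((PrimeSpectrum.basicOpen g₀ : Set (PrimeSpectrum A)) : Set ↥(Spec A))) := by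
      apply Set.ext
      intro q
      constructor
      · rintro ⟨v, hv, hqv⟩
        exact ⟨v, hv, hqv.symm⟩
      · rintro ⟨v, hv, hqv⟩
        exact ⟨v, hv, hqv.symm⟩
    rw [h3]
    exact h2
  have hU'deg : ∀ q ∈ U', specPt q ∈ degGE s.left n ∧ specPt q ∉ degGE s.left (n + 1) := by
    rintro q ⟨v, hv, hqv⟩
    rw [degGE_iff_of_ofPt_eq p s t sq n hqv, degGE_iff_of_ofPt_eq p s t sq (n + 1) hqv]
    refine ⟨hle hv, fun h => ?_⟩
    exact (Set.disjoint_left.1 ((TopologicalSpace.Opens.coe_disjoint).2 hdisj)) hv h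
  obtain ⟨I, hI⟩ := (PrimeSpectrum.isClosed_iff_zeroLocus_ideal _).1 hU'open.isClosed_compl
  have hIU' : ∀ q : PrimeSpectrum A, ¬ (I ≤ q.asIdeal) → q ∈ U' := by
    intro q hq
    by_contra hno
    have : q ∈ U'ᶜ := hno
    rw [hI] at this
    exact hq this
  have hO : ∀ q ∈ hOfin.toFinset, ¬ (I ≤ q.asIdeal) := by
    intro q hq hle'
    have hq' : Points.ofPt p (specPt q) = Points.ofPt p (specPt u₁) :=
      (Set.Finite.mem_toFinset hOfin).1 hq
    have : q ∈ PrimeSpectrum.zeroLocus (I : Set A) := hle'
    rw [← hI] at this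
    exact this ⟨u₁, hu₁, hq'⟩
  obtain ⟨g, hgI, hgO⟩ := exists_mem_forall_notMem I hOfin.toFinset hO
  have hDg : ∀ q : PrimeSpectrum A, g ∉ q.asIdeal → q ∈ U' := fun q hq =>
    hIU' q (fun hle' => hq (hle' hgI))
  -- finiteness over `D(g)`
  have hpb : IsPullback (pullback.fst s (jg str g)) (pullback.snd s (jg str g)) s (jg str g) :=
    IsPullback.of_hasPullback _ _
  have hpb' : IsPullback (pullback.fst s (jg str g)).left (pullback.snd s (jg str g)).left s.left
      (jg str g).left := hpb.map (Over.forget S)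
  have hπe : Etale (pullback.snd s (jg str g)).left :=
    MorphismProperty.of_isPullback (P := @Etale) hpb' hse
  have hπs : IsSeparated (pullback.snd s (jg str g)).left :=
    MorphismProperty.of_isPullback (P := @IsSeparated) hpb' hsep
  have hjg : ∀ z : ↥(Ug str g).left, primePt (B := A) ((jg str g).left z) ∈ U' := by
    intro z
    apply hDg
    change g ∉ (PrimeSpectrum.comap (algebraMap A (Localization.Away g)) (primePt z)).asIdeal
    intro hmem
    have hu : IsUnit (algebraMap A (Localization.Away g) g) :=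
      IsLocalization.Away.algebraMap_isUnit g
    exact (primePt z).2.ne_top (Ideal.eq_top_of_isUnit_mem _ hmem hu)
  have h1 : degGE (pullback.snd s (jg str g)).left n = Set.univ := by
    rw [Set.eq_univ_iff_forall]
    intro z
    rw [mem_degGE_iff_of_isPullback hpb' n z]
    exact (hU'deg _ (hjg z)).1
  have h2 : degGE (pullback.snd s (jg str g)).left (n + 1) = ∅ := by
    rw [Set.eq_empty_iff_forall_notMem]
    intro z
    rw [mem_degGE_iff_of_isPullback hpb' (n + 1) z]
    exact (hU'deg _ (hjg z)).2
  have hfin : IsFinite (pullback.snd s (jg str g)).left := isFinite_of_degGE n _ h1 h2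
  apply mem_schematicSet_of_finite_over_basicOpen str p hp s t sq g _ _ hpb hfin u₁
  intro u' hu'
  exact hgO u' ((Set.Finite.mem_toFinset hOfin).2 hu')

/-- a nonempty decent algebraic space has a nonempty schematic locus -/
theorem nonempty_schematicSet_of_isDecent {X : Sp S} (hX : IsAlgSpace X) (hd : IsDecent X)
    [Nonempty (Points X)] : (schematicSet X).Nonempty := by
  obtain ⟨x⟩ := ‹Nonempty (Points X)›
  obtain ⟨A, str, p, u, hp, hu⟩ := exists_affine_etale_chart hX x
  have : Nonempty (PrimeSpectrum A) := ⟨primePt u⟩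
  obtain ⟨u₁, hu₁⟩ := exists_mem_schematicSet_of_affine_chart hd str p hp
  exact ⟨_, hu₁⟩

/-- **The schematic locus of a decent algebraic space is dense** (Stacks 086U). -/
theorem dense_schematicSet_of_isDecent {X : Sp S} (hX : IsAlgSpace X) (hd : IsDecent X) :
    Dense (schematicSet X) := by
  rw [dense_iff_inter_open]
  intro W hW hne
  have hXW := isAlgSpace_openSub hX hW
  have hdW : IsDecent (openSub X W) := isDecent_of_representable (repWith_openSubι hW).rep hd
  have hneW : Nonempty (Points (openSub X W)) := by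
    obtain ⟨x, hx⟩ := hne
    have hx' : x ∈ Set.range (Points.map (openSubι X W)) := by
      rw [range_points_map_openSubι W]; exact hx
    obtain ⟨z, -⟩ := hx'
    exact ⟨z⟩
  obtain ⟨z, T, j, hj, t, rfl⟩ := nonempty_schematicSet_of_isDecent hXW hdW
  refine ⟨Points.map (openSubι X W) (Points.ofPt j t), ?_, ?_⟩
  · exact (range_points_map_openSubι W).subset ⟨_, rfl⟩
  · refine ⟨T, j ≫ openSubι X W, MorphismProperty.comp_mem _ _ _ hj (repWith_openSubι hW), t, ?_⟩
    rw [Points.map_ofPt]

end Groth.Agent.H3.Decent
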