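import Mathlib
import Groth.Agent.Lib.Helper3.Decent.IrrCompTop
import Groth.Agent.Lib.Helper3.Decent.OpenSubscheme
import Groth.Agent.Lib.Helper3.Decent.Sober
import Groth.Agent.Lib.Helper3.Decent.FiniteFibres
import Groth.Agent.Lib.Helper3.EtaleDeg.Fibre
import Groth.Agent.Lib.Helper3.EtaleDeg.Bound
import Groth.Agent.Lib.Helper5.AlgSp.DecentGen
import Groth.Agent.Lib.Helper5.AlgSp.PointsTop

/-!
# Decent spaces with finitely many irreducible components (helper3)
-/

set_option autoImplicit false
set_option linter.unusedSectionVars false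

universe u

open CategoryTheory CategoryTheory.Limits AlgebraicGeometry MorphismProperty Opposite Topology Order
open TopologicalSpace

namespace Groth.Agent.H3.Decent

open _root_.AlgSp Groth.Agent.H5.AlgSp Groth.Agent.H3.EtaleDeg

variable {S : Scheme.{u}}

/-- A decent space has a dense open subscheme (in chart form). -/
theorem exists_dense_open_subscheme_of_isDecent {X : Sp S} (hX : IsAlgSpace X) (hd : IsDecent X) :
    ∃ (X' : Over S) (j : (yon S).obj X' ⟶ X), RepWith @IsOpenImmersion j ∧
      Dense (Set.range (Points.ofPt j)) := by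
  have hW := isOpen_schematicSet X
  obtain ⟨X₁, ⟨e⟩⟩ := exists_iso_openSub_schematicSet hX
  refine ⟨X₁, e.hom ≫ openSubι X (schematicSet X), ?_, ?_⟩
  · exact (MorphismProperty.cancel_left_of_respectsIso (RepWith @IsOpenImmersion) e.hom _).2
      (repWith_openSubι hW)
  · have hr : Set.range (Points.ofPt (e.hom ≫ openSubι X (schematicSet X))) = schematicSet X := by
      conv_rhs => rw [← range_points_map_openSubι (schematicSet X)]
      ext x
      constructor
      · rintro ⟨t, rfl⟩
        exact ⟨Points.ofPt e.hom t, Points.map_ofPt _ _ _⟩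
      · rintro ⟨y, rfl⟩
        obtain ⟨t, ht⟩ := ofScheme_surjective X₁ (Points.map e.inv y)
        refine ⟨t, ?_⟩
        rw [Points.ofPt_eq_map_ofScheme, ht, ← Points.map_comp, e.inv_hom_id_assoc]
    rw [hr]
    exact dense_schematicSet_of_isDecent hX hd

/-- In a decent space every morphism from the spectrum of a field is quasi-compact. -/
theorem repWith_quasiCompact_toHom_of_isDecent {X : Sp S} (hd : IsDecent X) (q : FieldPt X) :
    RepWith @QuasiCompact q.toHom := by
  obtain ⟨p, hp, hm, hq⟩ := hd (Points.mk q)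
  exact repWith_quasiCompact_of_mk_eq p q hm hq hp.symm

/-- the set of generic points of irreducible components of a `T0` space with finitely many
irreducible components is finite -/
lemma finite_setOf_isGenericPoint {A : Type*} [TopologicalSpace A] [T0Space A]
    (hA : (irreducibleComponents A).Finite) :
    {a : A | ∃ T ∈ irreducibleComponents A, IsGenericPoint a T}.Finite := by
  have : {a : A | ∃ T ∈ irreducibleComponents A, IsGenericPoint a T} ⊆
      (fun a : A => closure ({a} : Set A)) ⁻¹' (irreducibleComponents A) := by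
    rintro a ⟨T, hT, ha⟩
    change closure {a} ∈ irreducibleComponents A
    rw [ha.def]
    exact hT
  refine (hA.preimage ?_).subset this
  intro a _ b _ hab
  exact (show IsGenericPoint a (closure {b}) from hab).eq isGenericPoint_closure

section Converse

variable {X : Sp S} (hX : IsAlgSpace X) {X' : Over S} (j : (yon S).obj X' ⟶ X)
  (hdense : Dense (Set.range (Points.ofPt j)))
  (hfin : (irreducibleComponents ↥X'.left).Finite)
  (hqc : ∀ x' : ↥X'.left, (∃ T ∈ irreducibleComponents ↥X'.left, IsGenericPoint x' T) →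
      RepWith @QuasiCompact (FieldPt.ofPt j x').toHom)

include hdense hfin hqc

/-- points of codimension `0` of an étale chart lie over the generic points of the dense open
subscheme -/
lemma exists_generic_of_coheight_zero {U : Over S} {φ : (yon S).obj U ⟶ X}
    (hφ : RepWith @Etale φ) (ξ : ↥U.left) (hξ : ∀ ξ' : ↥U.left, ξ' ⤳ ξ → ξ' = ξ) :
    ∃ x' : ↥X'.left, (∃ T ∈ irreducibleComponents ↥X'.left, IsGenericPoint x' T) ∧
      Points.ofPt φ ξ = Points.ofPt j x' := by
  obtain ⟨x', hgen, hspec⟩ := exists_generic_specializes (Points.continuous_ofPt j) hdense hfin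
    (Points.ofPt φ ξ)
  refine ⟨x', hgen, ?_⟩
  set p := FieldPt.ofPt j x' with hp
  have hq := hqc x' hgen
  have hpm : Points.mk (fpOfHom p.str p.toHom) = Points.ofPt j x' := by
    rw [toHom_eq_fpHom, fpOfHom_fpHom]
    rfl
  obtain ⟨ξ', hξ', hξ'x⟩ := exists_specializes_of_quasiCompact_point hφ p.str p.toHom hq ξ
    (by rw [hpm]; exact hspec)
  rw [← hpm, ← hξ'x, hξ ξ' hξ']

/-- fibres of affine étale charts over the generic points are finite -/
lemma finite_fibre_generic {U : Over S} [IsAffine U.left] {φ : (yon S).obj U ⟶ X}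
    (hφ : RepWith @Etale φ) (x' : ↥X'.left)
    (hgen : ∃ T ∈ irreducibleComponents ↥X'.left, IsGenericPoint x' T) :
    (Points.ofPt φ ⁻¹' {Points.ofPt j x'}).Finite := by
  set p := FieldPt.ofPt j x' with hp
  have hq := hqc x' hgen
  have hpm : Points.mk (fpOfHom p.str p.toHom) = Points.ofPt j x' := by
    rw [toHom_eq_fpHom, fpOfHom_fpHom]
    rfl
  rw [← hpm]
  exact finite_fibre_of_quasiCompact_point hφ p.str p.toHom hq

/-- the points of codimension `0` of an affine étale chart are finite in number -/
lemma finite_coheight_zero {U : Over S} [IsAffine U.left] {φ : (yon S).obj U ⟶ X}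
    (hφ : RepWith @Etale φ) : {ξ : ↥U.left | ∀ ξ' : ↥U.left, ξ' ⤳ ξ → ξ' = ξ}.Finite := by
  have hG := finite_setOf_isGenericPoint hfin
  refine (hG.biUnion (fun x' hx' => finite_fibre_generic j hdense hfin hqc hφ x' hx')).subset ?_
  intro ξ hξ
  obtain ⟨x', hgen, hx'⟩ := exists_generic_of_coheight_zero j hdense hfin hqc hφ ξ hξ
  exact Set.mem_biUnion hgen hx'

/-- the source map of the kernel pair of an affine étale chart has finite fibres -/
lemma finite_fibre_kernelPair {U : Over S} [IsAffine U.left] {φ : (yon S).obj U ⟶ X}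
    (hφ : RepWith @Etale φ) {R : Over S} {s t : R ⟶ U}
    (sq : IsPullback ((yon S).map t) ((yon S).map s) φ φ) (u : ↥U.left) :
    (s.left ⁻¹' {u}).Finite := by
  have hse : Etale s.left :=
    (repWith_yon_map_iff @Etale s).1 (MorphismProperty.of_isPullback (P := RepWith @Etale) sq hφ)
  have hsep : IsSeparated s.left := isSeparated_snd_of_kernelPair φ s t sq
  have hlqf : LocallyQuasiFinite s.left := locallyQuasiFinite_of_etale _
  set G : Set ↥U.left := {ξ : ↥U.left | ∀ ξ' : ↥U.left, ξ' ⤳ ξ → ξ' = ξ} with hG
  have hGfin : G.Finite := finite_coheight_zero j hdense hfin hqc hφ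
  -- the fibres over points of codimension `0` are finite
  have hfibG : ∀ ξ ∈ G, (s.left ⁻¹' {ξ}).Finite := by
    intro ξ hξ
    obtain ⟨x', hgen, hx'⟩ := exists_generic_of_coheight_zero j hdense hfin hqc hφ ξ hξ
    set p := FieldPt.ofPt j x' with hp
    have hq := hqc x' hgen
    have hpm : Points.mk (fpOfHom p.str p.toHom) = Points.ofPt j x' := by
      rw [toHom_eq_fpHom, fpOfHom_fpHom]
      rfl
    have h1 := finite_fibre_kernelPair_of_quasiCompact_point p.str p.toHom hq hφ sq
    refine h1.subset ?_
    intro r hr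
    change Points.ofPt ((yon S).map t ≫ φ) r = _
    rw [sq.w, ofPt_yon_map_comp, hpm, ← hx']
    congr 1
  -- hence the degree is bounded at these points
  have hN : ∀ ξ ∈ G, ∃ N, ξ ∉ degGE s.left N := fun ξ hξ =>
    exists_notMem_degGE_of_finite_fibre s.left ξ (hfibG ξ hξ)
  choose! Nf hNf using hN
  obtain ⟨N, hNmax⟩ : ∃ N, ∀ ξ ∈ G, Nf ξ ≤ N := by
    obtain ⟨N, hN⟩ := (hGfin.image Nf).bddAbove
    exact ⟨N, fun ξ hξ => hN ⟨ξ, hξ, rfl⟩⟩
  have hempty : ∀ v : ↥U.left, v ∉ degGE s.left N := by
    intro v hv
    obtain ⟨η, hη, hdim⟩ := exists_generization_dim_zero U.left v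
    have hηG : η ∈ G := by
      intro η' hη'
      rw [ringKrullDim_stalk_eq_coheight] at hdim
      have h0 : coheight η = 0 := by exact_mod_cast hdim
      rw [coheight_eq_zero] at h0
      have h1 : η ⤳ η' := h0 (show η ≤ η' from hη')
      exact (hη'.antisymm h1).eq
    have hηN : η ∈ degGE s.left N := hη.mem_open (isOpen_degGE N s.left) hv
    exact hNf η hηG (degGE_anti s.left (hNmax η hηG) hηN)
  exact finite_fibre_of_notMem_degGE s.left u N (hempty u)

include hX in
/-- **A space with a dense open subscheme with finitely many irreducible components whose generic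
points are quasi-compact in the space is decent.** -/
theorem isDecent_of_dense_open_subscheme : IsDecent X := by
  rw [isDecent_iff]
  intro x
  refine exists_qc_mono_point_of_finite_fibres hX x (fun U φ hU hφ R s t sq => ?_)
  have hfib : (Points.ofPt φ ⁻¹' {x}).Finite := by
    by_cases hne : (Points.ofPt φ ⁻¹' {x}).Nonempty
    · obtain ⟨u₀, hu₀⟩ := hne
      refine ((finite_fibre_kernelPair j hdense hfin hqc hφ sq u₀).image t.left).subset ?_
      intro u hu
      have h1 : Points.ofPt φ u = Points.ofPt φ u₀ := by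
        rw [show Points.ofPt φ u = x from hu, show Points.ofPt φ u₀ = x from hu₀]
      obtain ⟨r, hr1, hr2⟩ := (ofPt_eq_ofPt_iff sq u u₀).1 h1
      exact ⟨r, hr2, hr1⟩
    · rw [Set.not_nonempty_iff_eq_empty] at hne
      rw [hne]
      exact Set.finite_empty
  refine ⟨hfib, ?_⟩
  refine (hfib.biUnion (fun u _ => finite_fibre_kernelPair j hdense hfin hqc hφ sq u)).subset ?_
  intro r hr
  have h1 : Points.ofPt ((yon S).map t ≫ φ) r = x := hr
  rw [sq.w, ofPt_yon_map_comp] at h1
  exact Set.mem_biUnion (show s.left r ∈ Points.ofPt φ ⁻¹' {x} from h1) rfl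

end Converse

end Groth.Agent.H3.Decent
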