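import Mathlib
import Groth.Agent.Lib.Helper5.AlgSp.DecentT0
import Groth.Agent.Lib.Helper5.AlgSp.DecentGen
import Groth.Agent.Lib.Helper5.AlgSp.ImmChart
import Groth.Agent.Lib.Helper5.AlgSp.Points

/-!
# Dimension functions descend along finite surjective morphisms of decent spaces (helper3)
-/

set_option autoImplicit false
set_option linter.unusedSectionVars false

universe u

open CategoryTheory CategoryTheory.Limits AlgebraicGeometry MorphismProperty Topology

namespace Groth.Agent.H3.FinDimFun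

open _root_.AlgSp Groth.Agent.H5.AlgSp

variable {S : Scheme.{u}}

/-- specializations lift along finite morphisms into decent spaces. -/
theorem exists_specialization_lift {X Y : Sp S} (hXa : IsAlgSpace X) (f : Y ⟶ X)
    (hf : IsFiniteMor f) (hX : IsDecent X) {a b : Points X} (hab : a ⤳ b) (ya : Points Y)
    (hya : Points.map f ya = a) : ∃ yb : Points Y, ya ⤳ yb ∧ Points.map f yb = b := by
  obtain ⟨V, β, hV, hβe, hbV⟩ := exists_affine_chart_covering hXa (K := {b}) isCompact_singleton
  obtain ⟨vb, hvb⟩ := hbV (Set.mem_singleton b)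
  obtain ⟨va, hva, hva'⟩ := exists_specializes_ofPt_of_fieldPt hab (hX a) β hβe vb hvb
  obtain ⟨W, i, fst, sq, hW, hi⟩ := hf hV β
  obtain ⟨wa, hwa1, hwa2⟩ := exists_point_of_isPullback sq ya va (by rw [hya, hva'])
  have hcl : IsClosedMap i.left := i.left.isClosedMap
  have hsp : i.left wa ⤳ vb := by rw [hwa1]; exact hva
  obtain ⟨wb, hwb, hwb'⟩ := hcl.specializingMap hsp
  refine ⟨Points.ofPt fst wb, ?_, ?_⟩
  · rw [← hwa2]
    exact hwb.map (Points.continuous_ofPt fst)
  · rw [Points.map_ofPt, sq.w, ofPt_yon_map_comp, hwb', hvb]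

/-- the fibres of a finite morphism of decent spaces contain no nontrivial specializations. -/
theorem eq_of_specializes_of_fibre {X Y : Sp S} (hXa : IsAlgSpace X) (f : Y ⟶ X)
    (hf : IsFiniteMor f) (hX : IsDecent X) (hY : IsDecent Y) {y c : Points Y} (hyc : y ⤳ c)
    (hfy : Points.map f y = Points.map f c) : y = c := by
  obtain ⟨V, β, hV, hβe, hxV⟩ :=
    exists_affine_chart_covering hXa (K := {Points.map f c}) isCompact_singleton
  obtain ⟨v, hv⟩ := hxV (Set.mem_singleton _)
  obtain ⟨W, i, fst, sq, hW, hi⟩ := hf hV β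
  have hfe : RepWith @Etale fst := MorphismProperty.of_isPullback (P := RepWith @Etale) sq.flip hβe
  obtain ⟨wc, hwc1, hwc2⟩ := exists_point_of_isPullback sq c v hv.symm
  obtain ⟨wy, hwy, hwy'⟩ := exists_specializes_ofPt_of_fieldPt hyc (hY y) fst hfe wc hwc2
  have h1 : i.left wy ⤳ v := by rw [← hwc1]; exact hwy.map i.left.continuous
  have h2 : Points.ofPt β (i.left wy) = Points.ofPt β v := by
    rw [← ofPt_yon_map_comp, ← sq.w, ← Points.map_ofPt, hwy', hfy, hv]
  have h3 : v = i.left wy := eq_of_specializes_of_isDecent hX β hβe v (i.left wy) h2.symm h1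
  have h4 : wy = wc := eq_of_specializes_of_locallyQuasiFinite i.left hwy (by rw [← h3, hwc1])
  rw [← hwy', h4, hwc2]

/-- **S10406.** -/
theorem dimFun_of_comp {X Y : Sp S} (hXa : IsAlgSpace X) (f : Y ⟶ X) (hf : IsFiniteMor f)
    (hs : IsSurjectiveMor f) (hX : IsDecent X) (hY : IsDecent Y) (δ : Points X → ℤ)
    (hδ : ∀ a b : Points Y, a ⤳ b → a ≠ b → (δ ∘ Points.map f) b < (δ ∘ Points.map f) a ∧
      ((∀ c : Points Y, a ⤳ c → c ⤳ b → c = a ∨ c = b) →
        (δ ∘ Points.map f) a = (δ ∘ Points.map f) b + 1)) :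
    ∀ a b : Points X, a ⤳ b → a ≠ b → δ b < δ a ∧
      ((∀ c : Points X, a ⤳ c → c ⤳ b → c = a ∨ c = b) → δ a = δ b + 1) := by
  intro a b hab hne
  obtain ⟨ya, hya⟩ := hs a
  obtain ⟨yb, hyab, hyb⟩ := exists_specialization_lift hXa f hf hX hab ya hya
  have hne' : ya ≠ yb := by
    intro h
    apply hne
    rw [← hya, ← hyb, h]
  obtain ⟨h1, h2⟩ := hδ ya yb hyab hne'
  simp only [Function.comp_apply, hya, hyb] at h1 h2
  refine ⟨h1, fun himm => h2 fun c hac hcb => ?_⟩
  have hac' : a ⤳ Points.map f c := by rw [← hya]; exact hac.map (Points.continuous_map f)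
  have hcb' : Points.map f c ⤳ b := by rw [← hyb]; exact hcb.map (Points.continuous_map f)
  rcases himm _ hac' hcb' with hc | hc
  · left
    exact (eq_of_specializes_of_fibre hXa f hf hX hY hac (by rw [hya, hc])).symm
  · right
    exact eq_of_specializes_of_fibre hXa f hf hX hY hcb (by rw [hyb, hc])

end Groth.Agent.H3.FinDimFun
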