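import Groth.Agent.Lib.Helper3.Decent.ZarLocQSep

/-!
# A space with a finite étale surjective chart from a quasi-separated scheme is quasi-separated
(helper3)
-/

set_option autoImplicit false
set_option linter.unusedSectionVars false
universe u

open CategoryTheory CategoryTheory.Limits AlgebraicGeometry
open AlgSp

namespace Groth.Agent.H3.Decent

open Groth.Agent.H5.AlgSp

variable {S : Scheme.{u}}

/-- **A space with a quasi-compact étale surjective chart from a quasi-separated scheme is
quasi-separated over the base.** -/
theorem isQuasiSeparatedSp_of_quasiCompact_chart {X : Sp S} (hX : IsAlgSpace X)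
    {U : Over S} [QuasiSeparatedSpace ↥U.left] (p : (yon S).obj U ⟶ X)
    (hq : RepWith @QuasiCompact p)
    (he : RepWith @Etale p) (hs : RepWith @Surjective p) : IsQuasiSeparatedSp X := by
  have hrep := he.rep
  let R : Over S := hrep.pullback p
  let t : R ⟶ U := hrep.fst' p
  let s : R ⟶ U := hrep.snd p
  have sq : IsPullback ((yon S).map t) ((yon S).map s) p p := hrep.isPullback' p
  have : Sheaf.IsLocallySurjective p := isLocallySurjective_of_etale_surjective p he hs
  refine (repWith_diag_iff_of_chart hX.diag sq @QuasiCompact).2 ?_
  have hsq : QuasiCompact s.left := hq.property p _ s sq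
  have hUq : QuasiSeparated U.hom := inferInstance
  have h1 : QuasiSeparated (pullback.snd U.hom U.hom) := inferInstance
  have h2 : QuasiSeparated (prod.snd (X := U) (Y := U)).left := by
    rw [← Over.prodLeftIsoPullback_hom_snd]
    infer_instance
  have h3 : (prod.lift t s).left ≫ (prod.snd (X := U) (Y := U)).left = s.left := by
    rw [← Over.comp_left, prod.lift_snd]
  have h4 : QuasiCompact ((prod.lift t s).left ≫ (prod.snd (X := U) (Y := U)).left) := by
    rw [h3]
    exact hsq
  exact QuasiCompact.of_comp (prod.lift t s).left (prod.snd (X := U) (Y := U)).left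

end Groth.Agent.H3.Decent
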