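import Groth.Agent.Lib.Helper3.Decent.FibreTop
import Groth.Agent.Lib.Helper5.AlgSp.Jacobson

/-!
# Jacobson decent spaces (helper3)
-/

set_option autoImplicit false
universe u

open CategoryTheory CategoryTheory.Limits AlgebraicGeometry TensorProduct
open AlgSp Topology

namespace Groth.Agent.H3.Decent

open Groth.Agent.H5.AlgSp Groth.Agent.H3.FinQuot

variable {S : Scheme.{u}}

/-- On a decent space, the fibre of an etale chart over a point is discrete: each of its points has
an open neighbourhood containing no other point of the fibre. -/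
theorem exists_open_isolating_of_isDecent {X : Sp S} (hd : IsDecent X) {V : Over S}
    (b : (yon S).obj V ⟶ X) (hb : RepWith @Etale b) (v : ↥V.left) :
    ∃ N : V.left.Opens, v ∈ N ∧ ∀ v' : ↥V.left, v' ∈ N → Points.ofPt b v' = Points.ofPt b v →
      v' = v := by
  obtain ⟨k, _, str, ρ, hρ, hm, hq⟩ := isDecent_iff.1 hd (Points.ofPt b v)
  let FV : Over S := hq.rep.pullback b
  let g1 : FV ⟶ Over.mk str := hq.rep.fst' b
  let g2 : FV ⟶ V := hq.rep.snd b
  have sqF : IsPullback ((yon S).map g1) ((yon S).map g2) ρ b := hq.rep.isPullback' b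
  have hpre : IsPreimmersion g2.left := isPreimmersion_fibre_of_qc_mono str ρ hq b hb g1 g2 sqF
  have hg1 : Etale g1.left := by
    have := (RepWith @Etale).of_isPullback sqF.flip hb
    exact (repWith_yon_map_iff @Etale g1).1 this
  have hdisc : DiscreteTopology ↥FV.left := discreteTopology_of_etale_field g1.left
  have hpt : ∀ v' : ↥V.left, Points.ofPt b v' = Points.ofPt b v → ∃ e : ↥FV.left,
      g2.left e = v' := by
    intro v' hv'
    obtain ⟨e, he, -⟩ := exists_point_of_isPullback sqF
      (Points.ofScheme (Over.mk str) (IsLocalRing.closedPoint k)) v' (by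
        rw [points_map_field, hρ, hv'])
    exact ⟨e, he⟩
  obtain ⟨e, he⟩ := hpt v rfl
  obtain ⟨N, hN, hNe⟩ := hpre.isEmbedding.isInducing.isOpen_iff.1 (isOpen_discrete {e})
  refine ⟨⟨N, hN⟩, ?_, ?_⟩
  · have : e ∈ g2.left ⁻¹' N := by rw [hNe]; rfl
    rw [← he]; exact this
  · intro v' hv'N hv'
    obtain ⟨e', he'⟩ := hpt v' hv'
    have : e' ∈ g2.left ⁻¹' N := by
      change g2.left e' ∈ N
      rw [he']; exact hv'N
    rw [hNe] at this
    rw [← he', ← he, this]

/-- **On a decent Jacobson space the finite type points are the closed points.** -/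
theorem ftPt_iff_isClosed_of_isDecent_jacobson {X : Sp S} (hX : IsAlgSpace X) (hd : IsDecent X)
    (hJ : EtaleLocally (fun U => JacobsonSpace ↥U) X) (x : Points X) :
    HasAt (fun U u => IsClosed ({u} : Set ↥U)) X x ↔ IsClosed ({x} : Set (Points X)) := by
  constructor
  · intro hx
    rw [← closure_subset_iff_isClosed]
    intro y hy
    have hxy : x ⤳ y := specializes_iff_mem_closure.2 hy
    obtain ⟨V, b, hbe, hbs⟩ := hX.atlas
    obtain ⟨v, hv⟩ := ofPt_surjective_of_repWith hbs y
    obtain ⟨v', hv', hv'x⟩ := exists_specializes_ofPt_of_fieldPt hxy (hd x) b hbe v hv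
    obtain ⟨N, hv'N, hN⟩ := exists_open_isolating_of_isDecent hd b hbe v'
    have hblft : LocP @LocallyOfFiniteType b :=
      locP_of_repWith (fun _ _ f hf => by
        have : Etale f := hf
        exact (inferInstance : LocallyOfFiniteType f)) (repWith_mono (fun _ _ f hf => by
        have : Etale f := hf
        exact (inferInstance : LocallyOfFiniteType f)) hbe)
    have hVJ : JacobsonSpace ↥V.left := jacobsonSpace_of_locP_lft b hblft hJ
    have hge : RepWith @Etale ((yon S).map (overOpenι V N) ≫ b) := repWith_etale_restrict hbe N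
    have hglft : LocP @LocallyOfFiniteType ((yon S).map (overOpenι V N) ≫ b) :=
      locP_of_repWith (fun _ _ f hf => by
        have : Etale f := hf
        exact (inferInstance : LocallyOfFiniteType f)) (repWith_mono (fun _ _ f hf => by
        have : Etale f := hf
        exact (inferInstance : LocallyOfFiniteType f)) hge)
    obtain ⟨w, hwcl, hwx⟩ := exists_isClosed_singleton_ofPt_eq hJ hx
      ((yon S).map (overOpenι V N) ≫ b) hglft ⟨⟨v', hv'N⟩, by rw [ofPt_restrict]; exact hv'x⟩
    have hwv' : w.1 = v' := by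
      apply hN w.1 w.2
      rw [hv'x, ← hwx, ofPt_restrict]
    have hlc : IsLocallyClosed ({v'} : Set ↥V.left) := by
      have hoe : IsOpenEmbedding (Subtype.val : ↥N → ↥V.left) := N.2.isOpenEmbedding_subtypeVal
      let w' : ↥N := w
      have hwcl' : IsClosed ({w'} : Set ↥N) := hwcl
      have : ({v'} : Set ↥V.left) = Subtype.val '' ({w'} : Set ↥N) := by
        rw [Set.image_singleton]
        exact congrArg _ hwv'.symm
      rw [this]
      exact (hwcl'.isLocallyClosed).image hoe.isInducing hoe.isOpen_range.isLocallyClosed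
    have hcl : IsClosed ({v'} : Set ↥V.left) := isClosed_singleton_of_isLocallyClosed_singleton hlc
    have hvv' : v = v' := hv'.mem_closed hcl rfl
    change y = x
    rw [← hv, hvv', hv'x]
  · intro hx
    obtain ⟨U, a, hae, has⟩ := hX.atlas
    obtain ⟨u, hu⟩ := ofPt_surjective_of_repWith has x
    refine ⟨U, a, u, hae, hu, ?_⟩
    change IsClosed ({u} : Set ↥U.left)
    rw [← closure_subset_iff_isClosed]
    intro u' hu'
    have hs : u ⤳ u' := specializes_iff_mem_closure.2 hu'
    have h1 : Points.ofPt a u ⤳ Points.ofPt a u' := hs.map (Points.continuous_ofPt a)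
    rw [hu] at h1
    have h2 : Points.ofPt a u' = x := h1.mem_closed hx rfl
    exact eq_of_specializes_of_isDecent hd a hae u' u (by rw [h2, hu]) hs

/-- **A decent space is Jacobson if and only if its space of points is Jacobson.** -/
theorem jacobson_iff_jacobsonSpace_points_of_isDecent {X : Sp S} (hX : IsAlgSpace X)
    (hd : IsDecent X) :
    EtaleLocally (fun U => JacobsonSpace ↥U) X ↔ JacobsonSpace (Points X) := by
  constructor
  · intro hJ
    rw [jacobsonSpace_iff_locallyClosed]
    intro Z hZne hZ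
    obtain ⟨U, a, hae, has, hU⟩ := hJ
    have hUJ : JacobsonSpace ↥U.left := hU
    have hZ' : IsLocallyClosed (Points.ofPt a ⁻¹' Z) := hZ.preimage (Points.continuous_ofPt a)
    have hne' : (Points.ofPt a ⁻¹' Z).Nonempty := by
      obtain ⟨z, hz⟩ := hZne
      obtain ⟨u, rfl⟩ := ofPt_surjective_of_repWith has z
      exact ⟨u, hz⟩
    obtain ⟨u, huZ, hucl⟩ := nonempty_inter_closedPoints hne' hZ'
    refine ⟨Points.ofPt a u, huZ, ?_⟩
    exact (ftPt_iff_isClosed_of_isDecent_jacobson hX hd ⟨U, a, hae, has, hU⟩ _).1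
      ⟨U, a, u, hae, rfl, hucl⟩
  · intro hJ
    obtain ⟨U, a, hae, has⟩ := hX.atlas
    refine ⟨U, a, hae, has, ?_⟩
    change JacobsonSpace ↥U.left
    rw [jacobsonSpace_iff_locallyClosed]
    intro Z hZne hZ
    obtain ⟨O, z, hzZ, hzcl⟩ := exists_mem_isClosed_singleton_of_isLocallyClosed hZ hZne
    refine ⟨z.1, hzZ, ?_⟩
    obtain ⟨N, hzN, hN⟩ := exists_open_isolating_of_isDecent hd a hae z.1
    set x := Points.ofPt a z.1 with hx
    -- the point `x` is locally closed
    have hOz : IsOpen ((O : Set ↥U.left) ∩ {z.1}ᶜ) := by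
      have h1 : IsOpen ({z}ᶜ : Set ↥O) := hzcl.isOpen_compl
      have h2 := O.2.isOpenEmbedding_subtypeVal.isOpenMap _ h1
      convert h2 using 1
      ext w
      constructor
      · rintro ⟨hwO, hwz⟩
        exact ⟨⟨w, hwO⟩, fun h => hwz (congrArg Subtype.val h), rfl⟩
      · rintro ⟨w', hw', rfl⟩
        exact ⟨w'.2, fun h => hw' (Subtype.ext h)⟩
    have hA : IsOpen (Points.ofPt a '' ((N : Set ↥U.left) ∩ O)) :=
      isOpenMap_ofPt_of_etale hae _ (N.2.inter O.2)
    have hB : IsOpen (Points.ofPt a '' ((N : Set ↥U.left) ∩ ((O : Set ↥U.left) ∩ {z.1}ᶜ))) :=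
      isOpenMap_ofPt_of_etale hae _ (N.2.inter hOz)
    have hxeq : ({x} : Set (Points X)) = Points.ofPt a '' ((N : Set ↥U.left) ∩ O) ∩
        (Points.ofPt a '' ((N : Set ↥U.left) ∩ ((O : Set ↥U.left) ∩ {z.1}ᶜ)))ᶜ := by
      ext y
      constructor
      · rintro rfl
        refine ⟨⟨z.1, ⟨hzN, z.2⟩, rfl⟩, ?_⟩
        rintro ⟨w, ⟨hwN, -, hwz⟩, hwx⟩
        exact hwz (hN w hwN hwx)
      · rintro ⟨⟨w, ⟨hwN, hwO⟩, rfl⟩, hnot⟩
        by_contra hne
        apply hnot
        refine ⟨w, ⟨hwN, hwO, ?_⟩, rfl⟩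
        intro hwz
        apply hne
        rw [Set.mem_singleton_iff.1 hwz]
        rfl
    have hxlc : IsLocallyClosed ({x} : Set (Points X)) := by
      rw [hxeq]
      exact hA.isLocallyClosed.inter hB.isClosed_compl.isLocallyClosed
    have hxcl : IsClosed ({x} : Set (Points X)) :=
      isClosed_singleton_of_isLocallyClosed_singleton hxlc
    change IsClosed ({z.1} : Set ↥U.left)
    rw [← closure_subset_iff_isClosed]
    intro u' hu'
    have hs : z.1 ⤳ u' := specializes_iff_mem_closure.2 hu'
    have h1 : Points.ofPt a z.1 ⤳ Points.ofPt a u' := hs.map (Points.continuous_ofPt a)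
    have h2 : Points.ofPt a u' = x := h1.mem_closed hxcl rfl
    exact eq_of_specializes_of_isDecent hd a hae u' z.1 h2 hs

end Groth.Agent.H3.Decent
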