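import Groth.Agent.Lib.Helper3.Decent.IsolatedPtScheme
import Groth.Agent.Lib.Helper3.Decent.Dim
import Groth.Agent.Lib.Helper3.Decent.DimZero
import Groth.Agent.Lib.Helper3.Decent.JacobsonDecent
import Groth.Agent.Lib.Helper3.AlgSpMor.SpDim
import Groth.Agent.Lib.Helper3.AlgSpProp.HasAt

/-!
# Isolated points of algebraic spaces locally of finite type over a field (helper3)
-/

set_option autoImplicit false
universe u

open CategoryTheory CategoryTheory.Limits AlgebraicGeometry Topology TopologicalSpace
open AlgSp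

namespace Groth.Agent.H3.Decent

open Groth.Agent.H5.AlgSp Groth.Agent.H3.EtaleDim Groth.Agent.H3.AlgSpProp

variable {S : Scheme.{u}}

/-- Two points of an étale chart over the same point of the space have local rings of the same
dimension. -/
lemma ringKrullDim_stalk_eq_of_ofPt_eq {X : Sp S} (hX : IsAlgSpace X) {U : Over S}
    (a : (yon S).obj U ⟶ X) (ha : RepWith @Etale a) (u u' : ↥U.left)
    (h : Points.ofPt a u' = Points.ofPt a u) :
    ringKrullDim ↥(U.left.presheaf.stalk u') = ringKrullDim ↥(U.left.presheaf.stalk u) := by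
  have h1 : HasAt (fun (V : Scheme.{u}) v => ringKrullDim ↥(V.presheaf.stalk v) =
      ringKrullDim ↥(U.left.presheaf.stalk u)) X (Points.ofPt a u) := ⟨U, a, u, ha, rfl, rfl⟩
  exact (hasAt_iff_forall (etaleLocalAt_ringKrullDim_stalk _) hX _).1 h1 U a u' ha h

/-- At an isolated point of an algebraic space every étale chart has local dimension zero. -/
theorem localDim_eq_zero_of_isOpen_singleton_points {X : Sp S} (hX : IsAlgSpace X) {x : Points X}
    (hx : IsOpen ({x} : Set (Points X))) {U : Over S} (a : (yon S).obj U ⟶ X)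
    (ha : RepWith @Etale a) (u : ↥U.left) (hu : Points.ofPt a u = x) :
    FlatMor.localDim ↥U.left u = 0 := by
  let V : U.left.Opens := ⟨Points.ofPt a ⁻¹' {x}, hx.preimage (Points.continuous_ofPt a)⟩
  refine localDim_eq_zero_of_const_stalk_dim V u hu ?_
  intro v hv
  have hv' : Points.ofPt a v = x := hv
  exact ringKrullDim_stalk_eq_of_ofPt_eq hX a ha u v (by rw [hv', hu])

section Field

variable {k : Type u} [Field k] {X : Sp (Spec (CommRingCat.of k))}

lemma isLocallyNoetherian_of_lft_field {U : Scheme.{u}} (g : U ⟶ Spec (CommRingCat.of k))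
    [LocallyOfFiniteType g] : IsLocallyNoetherian U :=
  LocallyOfFiniteType.isLocallyNoetherian g

lemma jacobsonSpace_of_lft_field {U : Scheme.{u}} (g : U ⟶ Spec (CommRingCat.of k))
    [LocallyOfFiniteType g] : JacobsonSpace ↥U :=
  LocallyOfFiniteType.jacobsonSpace g

/-- (3) ⟺ (4): isolated iff the dimension at the point is zero. -/
theorem isOpen_singleton_iff_hasAt_localDim_eq_zero (hX : IsAlgSpace X)
    (p : X ⟶ (yon (Spec (CommRingCat.of k))).obj (Over.mk (𝟙 _)))
    (hp : LocP @LocallyOfFiniteType p) (x : Points X) :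
    IsOpen ({x} : Set (Points X)) ↔
      HasAt (fun U u => FlatMor.localDim ↥U u = 0) X x := by
  constructor
  · intro hx
    obtain ⟨U, a, hae, has⟩ := hX.atlas
    obtain ⟨u, hu⟩ := ofPt_surjective_of_repWith has x
    exact ⟨U, a, u, hae, hu, localDim_eq_zero_of_isOpen_singleton_points hX hx a hae u hu⟩
  · rintro ⟨U, a, u, hae, rfl, h0⟩
    have hlft : LocallyOfFiniteType U.hom := locallyOfFiniteType_hom_of_locP p hp a hae
    have hN : IsLocallyNoetherian U.left := isLocallyNoetherian_of_lft_field U.hom
    have hopen : IsOpen ({u} : Set ↥U.left) :=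
      (isOpen_singleton_iff_localDim_eq_zero_of_isLocallyNoetherian u).2 h0
    have := isOpenMap_ofPt_of_etale hae _ hopen
    rwa [Set.image_singleton] at this

/-- (3) ⟺ (2): isolated iff closed with no proper generization. -/
theorem isOpen_singleton_iff_isClosed_and_no_generization (hX : IsAlgSpace X)
    (p : X ⟶ (yon (Spec (CommRingCat.of k))).obj (Over.mk (𝟙 _)))
    (hp : LocP @LocallyOfFiniteType p) (x : Points X) :
    IsOpen ({x} : Set (Points X)) ↔
      (IsClosed ({x} : Set (Points X)) ∧ ∀ x' : Points X, x' ⤳ x → x' = x) := by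
  obtain ⟨U, a, hae, has⟩ := hX.atlas
  have hlft : LocallyOfFiniteType U.hom := locallyOfFiniteType_hom_of_locP p hp a hae
  have hN : IsLocallyNoetherian U.left := isLocallyNoetherian_of_lft_field U.hom
  have hJ : JacobsonSpace ↥U.left := jacobsonSpace_of_lft_field U.hom
  have hq : IsQuotientMap (Points.ofPt a) := isQuotientMap_ofPt hae has
  constructor
  · intro hx
    refine ⟨?_, fun x' hx' => hx'.mem_open hx rfl⟩
    rw [← hq.isClosed_preimage]
    have ho : ∀ v ∈ Points.ofPt a ⁻¹' {x}, IsOpen ({v} : Set ↥U.left) := by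
      intro v hv
      exact (isOpen_singleton_iff_localDim_eq_zero_of_isLocallyNoetherian v).2
        (localDim_eq_zero_of_isOpen_singleton_points hX hx a hae v hv)
    refine isClosed_of_forall_isOpen_isClosed_singleton ho ?_
    intro v hv
    exact isClosed_singleton_of_isLocallyClosed_singleton (ho v hv).isLocallyClosed
  · rintro ⟨hcl, hgen⟩
    rw [← hq.isOpen_preimage]
    refine isOpen_of_isClosed_of_stableUnderGeneralization
      (hcl.preimage (Points.continuous_ofPt a)) ?_
    intro v v' hvv' hv
    have hv1 : Points.ofPt a v = x := hv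
    have h1 : Points.ofPt a v' ⤳ Points.ofPt a v := hvv'.map (Points.continuous_ofPt a)
    rw [hv1] at h1
    exact hgen _ h1

/-- (1) ⟺ (3) on a decent space. -/
theorem localDim_points_eq_zero_iff_isOpen_singleton (hX : IsAlgSpace X)
    (p : X ⟶ (yon (Spec (CommRingCat.of k))).obj (Over.mk (𝟙 _)))
    (hp : LocP @LocallyOfFiniteType p) (hd : IsDecent X) (x : Points X) :
    FlatMor.localDim (Points X) x = 0 ↔ IsOpen ({x} : Set (Points X)) := by
  rw [isOpen_singleton_iff_hasAt_localDim_eq_zero hX p hp x]
  obtain ⟨U, a, hae, has⟩ := hX.atlas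
  obtain ⟨u, rfl⟩ := ofPt_surjective_of_repWith has x
  rw [← localDim_ofPt_eq hX hd a hae u]
  constructor
  · intro h
    exact ⟨U, a, u, hae, rfl, h⟩
  · intro h
    exact (hasAt_iff_forall (etaleLocalAt_localDim 0) hX _).1 h U a u hae rfl

/-- (2) ⟺ (4) for the whole space. -/
theorem discreteTopology_points_iff_dim_eq_zero (hX : IsAlgSpace X)
    (p : X ⟶ (yon (Spec (CommRingCat.of k))).obj (Over.mk (𝟙 _)))
    (hp : LocP @LocallyOfFiniteType p) [Nonempty (Points X)] :
    DiscreteTopology (Points X) ↔ AlgSp.dim X = 0 := by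
  constructor
  · intro hdisc
    apply le_antisymm
    · unfold AlgSp.dim
      apply iSup_le; intro U
      apply iSup_le; intro a
      apply iSup_le; intro ha
      rw [Groth.Agent.H3.TopDim.dim_eq_iSup_localDim]
      apply iSup_le
      intro u
      exact (localDim_eq_zero_of_isOpen_singleton_points hX (isOpen_discrete _) a ha u rfl).le
    · obtain ⟨U, a, hae, has⟩ := hX.atlas
      obtain ⟨x⟩ := ‹Nonempty (Points X)›
      obtain ⟨u, -⟩ := ofPt_surjective_of_repWith has x
      have : Nonempty ↥U.left := ⟨u⟩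
      refine le_trans (Groth.Agent.H3.TopDim.dim_nonneg (X := ↥U.left)) ?_
      unfold AlgSp.dim
      exact le_iSup_of_le U (le_iSup_of_le a (le_iSup_of_le hae le_rfl))
  · intro h0
    rw [discreteTopology_iff_isOpen_singleton]
    intro x
    rw [isOpen_singleton_iff_hasAt_localDim_eq_zero hX p hp x]
    obtain ⟨U, a, hae, has⟩ := hX.atlas
    obtain ⟨u, hu⟩ := ofPt_surjective_of_repWith has x
    refine ⟨U, a, u, hae, hu, le_antisymm ?_ (localDim_nonneg u)⟩
    refine (Groth.Agent.H3.TopDim.localDim_le_dim u).trans ?_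
    rw [← h0]
    unfold AlgSp.dim
    exact le_iSup_of_le U (le_iSup_of_le a (le_iSup_of_le hae le_rfl))

/-- A finite `T0` Jacobson space is discrete. -/
lemma discreteTopology_of_finite_of_jacobsonSpace {W : Type*} [TopologicalSpace W] [Finite W]
    [T0Space W] [JacobsonSpace W] : DiscreteTopology W := by
  have hcl : ∀ w : W, IsClosed ({w} : Set W) := by
    intro w
    apply isClosed_singleton_of_isLocallyClosed_singleton
    -- `{w} = closure {w} ∩ (⋃_{v ∈ closure {w}, v ≠ w} closure {v})ᶜ`
    let T : Set W := ⋃ v ∈ {v : W | v ∈ closure ({w} : Set W) ∧ v ≠ w}, closure ({v} : Set W)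
    have hT : IsClosed T := (Set.toFinite _).isClosed_biUnion (fun _ _ => isClosed_closure)
    have heq : ({w} : Set W) = closure ({w} : Set W) ∩ Tᶜ := by
      ext z
      constructor
      · intro hz
        rw [Set.mem_singleton_iff] at hz
        subst hz
        refine ⟨subset_closure rfl, ?_⟩
        intro hzT
        obtain ⟨v, ⟨hv1, hv2⟩, hzv⟩ := Set.mem_iUnion₂.1 hzT
        have h1 : v ⤳ z := specializes_iff_mem_closure.2 hzv
        have h2 : z ⤳ v := specializes_iff_mem_closure.2 hv1
        exact hv2 (h1.antisymm h2).eq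
      · rintro ⟨hz1, hz2⟩
        by_contra hne
        exact hz2 (Set.mem_iUnion₂.2 ⟨z, ⟨hz1, hne⟩, subset_closure rfl⟩)
    rw [heq]
    exact isClosed_closure.isLocallyClosed.inter hT.isOpen_compl.isLocallyClosed
  have : T1Space W := ⟨hcl⟩
  infer_instance

/-- (1) ⟹ (4) on a decent space: finitely many points implies dimension zero. -/
theorem dim_eq_zero_of_finite_points (hX : IsAlgSpace X)
    (p : X ⟶ (yon (Spec (CommRingCat.of k))).obj (Over.mk (𝟙 _)))
    (hp : LocP @LocallyOfFiniteType p) [Nonempty (Points X)] (hd : IsDecent X)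
    (hfin : Finite (Points X)) : AlgSp.dim X = 0 := by
  rw [← discreteTopology_points_iff_dim_eq_zero hX p hp]
  have : T0Space (Points X) := t0Space_points_of_isDecent hX hd
  have : JacobsonSpace (Points X) := by
    rw [← jacobson_iff_jacobsonSpace_points_of_isDecent hX hd]
    obtain ⟨U, a, hae, has⟩ := hX.atlas
    have hlft : LocallyOfFiniteType U.hom := locallyOfFiniteType_hom_of_locP p hp a hae
    exact ⟨U, a, hae, has, jacobsonSpace_of_lft_field U.hom⟩
  exact discreteTopology_of_finite_of_jacobsonSpace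

end Field

end Groth.Agent.H3.Decent
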