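import Mathlib
import Groth.Prelude.Def_Flat
import Groth.Agent.Lib.Helper3.TopDim
import Groth.Agent.Lib.Helper3.AlgSpMor.EtaleDim
import Groth.Agent.Lib.Helper5.AlgSp.PointsTop

/-!
# Isolated points of locally Noetherian schemes (helper3)
-/

set_option autoImplicit false
universe u

open CategoryTheory AlgebraicGeometry Topology TopologicalSpace

namespace Groth.Agent.H3.Decent

open Groth.Agent.H3.EtaleDim Groth.Agent.H5.AlgSp

section Top

variable {W : Type*} [TopologicalSpace W]

lemma localDim_nonneg (x : W) : 0 ≤ FlatMor.localDim W x := by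
  apply le_iInf
  rintro ⟨U, hU⟩
  have : Nonempty ↥(U : Set W) := ⟨⟨x, hU⟩⟩
  exact Groth.Agent.H3.TopDim.dim_nonneg

lemma localDim_eq_zero_of_isOpen_singleton {x : W} (h : IsOpen ({x} : Set W)) :
    FlatMor.localDim W x = 0 := by
  apply le_antisymm _ (localDim_nonneg x)
  let U : Opens W := ⟨{x}, h⟩
  refine (Groth.Agent.H3.TopDim.localDim_le_dim_of_mem U rfl).trans ?_
  have : DiscreteTopology ↥(U : Set W) := by
    have : Subsingleton ↥(U : Set W) := by
      constructor
      rintro ⟨a, ha⟩ ⟨b, hb⟩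
      have ha' : a = x := ha
      have hb' : b = x := hb
      subst ha' hb'
      rfl
    infer_instance
  exact topologicalKrullDim_zero_of_discreteTopology _

/-- In a Noetherian sober space a closed set stable under generization is open. -/
lemma isOpen_of_isClosed_of_stableUnderGeneralization_of_noetherianSpace [NoetherianSpace W]
    [QuasiSober W] {V : Set W} (hc : IsClosed V) (hg : StableUnderGeneralization V) :
    IsOpen V := by
  have hfin := NoetherianSpace.finite_irreducibleComponents (α := W)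
  let T : Set (Set W) := {Z | Z ∈ irreducibleComponents W ∧ ¬ Z ⊆ V}
  have hTfin : T.Finite := hfin.subset (fun Z hZ => hZ.1)
  have hcl : IsClosed (⋃₀ T) := by
    rw [Set.sUnion_eq_biUnion]
    exact Set.Finite.isClosed_biUnion hTfin
      (fun Z hZ => isClosed_of_mem_irreducibleComponents Z hZ.1)
  have heq : Vᶜ = ⋃₀ T := by
    ext w
    constructor
    · intro hw
      refine ⟨irreducibleComponent w, ⟨irreducibleComponent_mem_irreducibleComponents w, ?_⟩,
        mem_irreducibleComponent⟩
      intro hsub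
      exact hw (hsub mem_irreducibleComponent)
    · rintro ⟨Z, ⟨hZ, hZV⟩, hwZ⟩ hwV
      apply hZV
      obtain ⟨ξ, hξ⟩ := QuasiSober.sober hZ.1 (isClosed_of_mem_irreducibleComponents Z hZ)
      have hξ' : closure {ξ} = Z := hξ
      have hsp : ξ ⤳ w := by
        rw [specializes_iff_mem_closure, hξ']; exact hwZ
      have hξV : ξ ∈ V := hg hsp hwV
      rw [← hξ']
      exact hc.closure_subset_iff.2 (Set.singleton_subset_iff.2 hξV)
  rw [← isClosed_compl_iff, heq]
  exact hcl

end Top

section Scheme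

variable {U : Scheme.{u}}

/-- In a locally Noetherian scheme a closed set stable under generization is open. -/
theorem isOpen_of_isClosed_of_stableUnderGeneralization [IsLocallyNoetherian U] {V : Set ↥U}
    (hc : IsClosed V) (hg : StableUnderGeneralization V) : IsOpen V := by
  rw [isOpen_iff_forall_mem_open]
  intro v hv
  obtain ⟨W, hW, hvW, -⟩ := exists_isAffineOpen_mem_and_subset (x := v) (U := ⊤) trivial
  have hN : IsNoetherianRing Γ(U, W) := IsLocallyNoetherian.component_noetherian ⟨W, hW⟩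
  have hNS : NoetherianSpace ↥W := noetherianSpace_of_isAffineOpen W hW
  have hQS : QuasiSober ↥W := W.isOpen.isOpenEmbedding_subtypeVal.quasiSober
  have hopen : IsOpen ((↑) ⁻¹' V : Set ↥W) := by
    apply isOpen_of_isClosed_of_stableUnderGeneralization_of_noetherianSpace
      (hc.preimage continuous_subtype_val)
    intro a b hab ha
    exact hg (hab.map continuous_subtype_val) ha
  refine ⟨(↑) '' ((↑) ⁻¹' V : Set ↥W), ?_, W.isOpen.isOpenEmbedding_subtypeVal.isOpenMap _ hopen,
    ⟨⟨v, hvW⟩, (show (⟨v, hvW⟩ : ↥W) ∈ ((↑) ⁻¹' V : Set ↥W) from hv), rfl⟩⟩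
  rintro _ ⟨w, hw, rfl⟩
  exact hw

/-- A point of a locally Noetherian scheme is isolated iff the local dimension there is zero. -/
theorem isOpen_singleton_iff_localDim_eq_zero_of_isLocallyNoetherian [IsLocallyNoetherian U]
    (x : ↥U) : IsOpen ({x} : Set ↥U) ↔ FlatMor.localDim ↥U x = 0 := by
  constructor
  · exact localDim_eq_zero_of_isOpen_singleton
  · intro h
    have : Nonempty {V : Opens ↥U // x ∈ V} := ⟨⟨⊤, trivial⟩⟩
    obtain ⟨⟨V, hxV⟩, hV⟩ := ciInf_mem (fun V : {V : Opens ↥U // x ∈ V} =>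
      topologicalKrullDim (V.1 : Set ↥U))
    have hV0 : topologicalKrullDim ↥(V : Set ↥U) = 0 := hV.trans h
    have hA : IsLocallyArtinian (Scheme.Opens.toScheme (X := U) V) :=
      IsLocallyArtinian.of_topologicalKrullDim_le_zero hV0.le
    have hdisc : DiscreteTopology ↥(Scheme.Opens.toScheme (X := U) V) := inferInstance
    have hdisc' : DiscreteTopology ↥(V : Set ↥U) := hdisc
    have hopen : IsOpen ({⟨x, hxV⟩} : Set ↥(V : Set ↥U)) := isOpen_discrete _
    have := V.isOpen.isOpenEmbedding_subtypeVal.isOpenMap _ hopen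
    simpa using this

/-- If all local rings on an open neighbourhood of a point have the same dimension, the local
dimension at the point is zero. -/
theorem localDim_eq_zero_of_const_stalk_dim (V : U.Opens) (x : ↥U) (hx : x ∈ V)
    (h : ∀ v ∈ V, ringKrullDim ↥(U.presheaf.stalk v) = ringKrullDim ↥(U.presheaf.stalk x)) :
    FlatMor.localDim ↥U x = 0 := by
  apply le_antisymm _ (localDim_nonneg x)
  obtain ⟨η, hη, hd⟩ := exists_generization_dim_zero U x
  have hηV : η ∈ V := hη.mem_open V.isOpen hx
  have hx0 : ringKrullDim ↥(U.presheaf.stalk x) = 0 := by rw [← h η hηV, hd]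
  refine (Groth.Agent.H3.TopDim.localDim_le_dim_of_mem V hx).trans ?_
  rw [scheme_dim_opens_eq_iSup_coheight]
  apply iSup_le
  rintro ⟨v, hv⟩
  rw [← ringKrullDim_stalk_eq_coheight, h v hv, hx0]

/-- An open set of isolated closed points in a locally Noetherian scheme is closed. -/
theorem isClosed_of_forall_isOpen_isClosed_singleton [IsLocallyNoetherian U] {V : Set ↥U}
    (ho : ∀ v ∈ V, IsOpen ({v} : Set ↥U)) (hcl : ∀ v ∈ V, IsClosed ({v} : Set ↥U)) :
    IsClosed V := by
  rw [← closure_subset_iff_isClosed]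
  intro u' hu'
  obtain ⟨W, hW, hu'W, -⟩ := exists_isAffineOpen_mem_and_subset (x := u') (U := ⊤) trivial
  have hN : IsNoetherianRing Γ(U, W) := IsLocallyNoetherian.component_noetherian ⟨W, hW⟩
  have hNS : NoetherianSpace ↥W := noetherianSpace_of_isAffineOpen W hW
  have hcomp : IsCompact ((W : Set ↥U) ∩ V) := by
    have h1 : IsCompact ((↑) ⁻¹' V : Set ↥W) := NoetherianSpace.isCompact _
    have h2 := h1.image continuous_subtype_val
    convert h2 using 1
    ext z
    constructor
    · rintro ⟨hzW, hzV⟩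
      exact ⟨⟨z, hzW⟩, hzV, rfl⟩
    · rintro ⟨w, hw, rfl⟩
      exact ⟨w.2, hw⟩
  have hfin : ((W : Set ↥U) ∩ V).Finite := by
    obtain ⟨t, ht⟩ := hcomp.elim_finite_subcover (fun v : ↥((W : Set ↥U) ∩ V) => ({v.1} : Set ↥U))
      (fun v => ho v.1 v.2.2) (fun z hz => Set.mem_iUnion.2 ⟨⟨z, hz⟩, rfl⟩)
    refine (t.finite_toSet.image (fun v => v.1)).subset ?_
    intro z hz
    obtain ⟨v, hv, hzv⟩ := Set.mem_iUnion₂.1 (ht hz)
    exact ⟨v, hv, (Set.mem_singleton_iff.1 hzv).symm⟩
  have hclosed : IsClosed ((W : Set ↥U) ∩ V) := by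
    have : (W : Set ↥U) ∩ V = ⋃ v ∈ (W : Set ↥U) ∩ V, {v} := (Set.biUnion_of_singleton _).symm
    rw [this]
    exact hfin.isClosed_biUnion (fun v hv => hcl v hv.2)
  have h3 : u' ∈ closure ((W : Set ↥U) ∩ V) := W.isOpen.inter_closure ⟨hu'W, hu'⟩
  rw [hclosed.closure_eq] at h3
  exact h3.2

end Scheme

end Groth.Agent.H3.Decent
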