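import Groth.Agent.Lib.Helper3.AlgSpMor.EtaleDim
import Groth.Agent.Lib.Helper3.AlgSpCov.RedNoeth
import Groth.Agent.Lib.Helper5.AlgSp.Points

set_option autoImplicit false
universe u
open CategoryTheory CategoryTheory.Limits AlgebraicGeometry Topology TopologicalSpace Order
open AlgSp

namespace Groth.Agent.H3.Decent
open Groth.Agent.H5.AlgSp
variable {S : Scheme.{u}}

/-- on a locally Noetherian algebraic space, fibres of etale charts have no specializations -/
theorem eq_of_specializes_of_isLocNoethSp {X : Sp S} (hX : IsLocNoethSp X) {U : Over S}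
    (a : (yon S).obj U ⟶ X) (ha : RepWith @Etale a) (u u' : ↥U.left)
    (he : Points.ofPt a u = Points.ofPt a u') (hs : u' ⤳ u) : u = u' := by
  have hN : IsLocallyNoetherian U.left :=
    Groth.Agent.H3.AlgSpCov.isLocallyNoetherian_of_etale_of_isLocNoethSp hX a ha
  have hrep := ha.rep
  let R : Over S := hrep.pullback a
  let t : R ⟶ U := hrep.fst' a
  let s : R ⟶ U := hrep.snd a
  have sq : IsPullback ((yon S).map t) ((yon S).map s) a a := hrep.isPullback' a
  have hse : Etale s.left := ha.property_snd a
  have hte : Etale t.left := by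
    have : RepWith @Etale ((yon S).map t) :=
      MorphismProperty.of_isPullback (P := RepWith @Etale) sq.flip ha
    exact (repWith_yon_map_iff @Etale t).1 this
  obtain ⟨r, hr1, hr2⟩ := exists_point_of_isPullback sq (Points.ofScheme U u) u' (by
    rw [← Points.ofPt_eq_map_ofScheme]; exact he)
  have hr2' : t.left r = u := by
    have := congrArg (Points.toScheme U) hr2
    rw [Points.toScheme_ofScheme] at this
    rw [← this, Points.toScheme_ofPt]
  have h1 : coheight u = coheight r := by rw [← hr2']; exact Groth.Agent.H3.EtaleDim.coheight_eq_of_etale t.left r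
  have h2 : coheight u' = coheight r := by rw [← hr1]; exact Groth.Agent.H3.EtaleDim.coheight_eq_of_etale s.left r
  by_contra hne
  have hlt : u < u' := by
    refine ⟨hs, fun h => hne ?_⟩
    exact (h.antisymm hs).eq
  have hfin : coheight u' < ⊤ := by
    have h3 := ringKrullDim_stalk_eq_coheight u'
    have h4 : ringKrullDim ↥(U.left.presheaf.stalk u') < ⊤ := ringKrullDim_lt_top
    rw [h3] at h4
    by_contra hc
    rw [not_lt, top_le_iff] at hc
    rw [hc] at h4
    exact lt_irrefl _ h4
  have := coheight_strictAnti hlt hfin
  rw [h1, h2] at this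
  exact lt_irrefl _ this

end Groth.Agent.H3.Decent
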