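import Groth.Agent.Lib.Helper3.Decent.FiniteFibres
import Groth.Agent.Lib.Helper3.Decent.Etale
import Groth.Agent.Lib.Helper3.Decent.DecentMor
import Groth.Agent.Lib.Helper5.AlgSp.GeneralizingChart

/-!
# Descent of decency along quasi-compact etale coverings (helper3)
-/

set_option autoImplicit false
universe u

open CategoryTheory CategoryTheory.Limits AlgebraicGeometry TensorProduct
open AlgSp

namespace Groth.Agent.H3.Decent

open Groth.Agent.H5.AlgSp Groth.Agent.H3.FinQuot

variable {S : Scheme.{u}}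

/-- Finiteness of the kernel pair of `p ≫ f` for a monomorphism `p` from the spectrum of a field,
when the fibre of `f` over the point is a scheme etale over the field and the kernel pair has
finitely many points. -/
theorem isFinite_kernelPair_of_mono_of_etale_fibre {X Y : Sp S} (f : X ⟶ Y) {k : Type u} [Field k]
    (str : Spec (CommRingCat.of k) ⟶ S) (p : (yon S).obj (Over.mk str) ⟶ X) [Mono p]
    {F₀ : Over S} (pr2 : (yon S).obj F₀ ⟶ X) (g₀ : F₀ ⟶ Over.mk str)
    (sqF : IsPullback pr2 ((yon S).map g₀) f (p ≫ f)) (hg₀ : Etale g₀.left)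
    {R : Over S} (s t : R ⟶ Over.mk str)
    (sq : IsPullback ((yon S).map t) ((yon S).map s) (p ≫ f) (p ≫ f)) (hfin : Finite ↥R.left) :
    IsFinite s.left := by
  obtain ⟨j, hj⟩ := (yon S).map_surjective (sqF.lift ((yon S).map t ≫ p) ((yon S).map s)
    (by rw [Category.assoc]; exact sq.w))
  have hj2 : (yon S).map j ≫ pr2 = (yon S).map t ≫ p := by rw [hj, sqF.lift_fst]
  have hj1 : j ≫ g₀ = s := by
    apply (yon S).map_injective
    rw [Functor.map_comp, hj, sqF.lift_snd]
  have big : IsPullback ((yon S).map j ≫ (yon S).map g₀) ((yon S).map t) (p ≫ f) (p ≫ f) := by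
    rw [← Functor.map_comp, hj1]
    exact sq.flip
  have left : IsPullback ((yon S).map j) ((yon S).map t) pr2 p :=
    IsPullback.of_right big hj2 sqF.flip
  have hjm : Mono ((yon S).map j) := left.mono_fst_of_mono
  have hjm' : Mono j := (yon S).mono_of_mono_map hjm
  have hjmono : Mono j.left := inferInstance
  have hjo : IsOpenImmersion j.left :=
    @isOpenImmersion_of_mono_of_etale_field _ _ _ _ g₀.left hg₀ j.left hjmono
  have hsu : s.left = j.left ≫ g₀.left := by rw [← hj1]; rfl
  have hse : Etale s.left := by rw [hsu]; infer_instance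
  have hart : IsLocallyArtinian (Over.mk str).left := by
    change IsLocallyArtinian (Spec (CommRingCat.of k))
    rw [Scheme.isLocallyArtinianScheme_Spec]
    infer_instance
  have : LocallyQuasiFinite s.left := locallyQuasiFinite_of_etale s.left
  have : QuasiCompact s.left := by
    rw [quasiCompact_iff]
    intro W _ _
    exact (Set.toFinite _).isCompact
  exact IsFinite.of_locallyQuasiFinite s.left

/-- The fibre of a quasi-compact etale morphism over a field point is a finite scheme etale over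
the field. -/
theorem exists_finite_etale_fibre {X Y : Sp S} (hX : IsAlgSpace X) (hY : IsAlgSpace Y)
    (f : X ⟶ Y) (hq : IsQuasiCompactMor f) (he : IsEtaleMor f) {k : Type u} [Field k]
    (str : Spec (CommRingCat.of k) ⟶ S) (φ : (yon S).obj (Over.mk str) ⟶ Y) :
    ∃ (F₀ : Over S) (pr2 : (yon S).obj F₀ ⟶ X) (g₀ : F₀ ⟶ Over.mk str),
      IsPullback pr2 ((yon S).map g₀) f φ ∧ Etale g₀.left ∧ Finite ↥F₀.left := by
  have sqP := IsPullback.of_hasPullback f φ
  have hPalg : IsAlgSpace (pullback f φ) :=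
    isAlgSpace_pullback hY.diag hX (IsAlgSpace.yon_obj _) sqP
  have hsnd : IsEtaleMor (pullback.snd f φ) :=
    isEtaleMor_of_isPullback sqP hX hY (IsAlgSpace.yon_obj _) he
  have hPrep := isRepresentable_of_isEtaleMor_to_field hPalg k str _ hsnd
  obtain ⟨F₀, ⟨r⟩⟩ := hPrep
  let e : (yon S).obj F₀ ≅ pullback f φ := isoOfRepresentableBy r
  obtain ⟨g₀, hg₀⟩ := (yon S).map_surjective (e.hom ≫ pullback.snd f φ)
  have sqF : IsPullback (e.hom ≫ pullback.fst f φ) ((yon S).map g₀) f φ := by
    rw [hg₀]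
    exact IsPullback.of_iso sqP e.symm (Iso.refl _) (Iso.refl _) (Iso.refl _)
      (by simp) (by simp) (by simp) (by simp)
  have hg₀e : Etale g₀.left := by
    rw [← isEtaleMor_yon_map_iff, hg₀]
    intro W ψ hψ
    rw [← Category.assoc]
    exact hsnd _ (MorphismProperty.RespectsIso.postcomp _ _ _ hψ)
  have hPqc : IsQuasiCompactSp (pullback f φ) :=
    hq (IsAlgSpace.yon_obj _) ((isQuasiCompactSp_yon_iff _).2 (by
      change CompactSpace ↥(Spec (CommRingCat.of k)); infer_instance)) φ _ _ sqP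
  have hF₀c : CompactSpace ↥F₀.left :=
    (isQuasiCompactSp_yon_iff F₀).1 (isQuasiCompactSp_of_iso e.symm hPqc)
  have hlqf : LocallyQuasiFinite g₀.left := locallyQuasiFinite_of_etale g₀.left
  have haff : IsAffine (Over.mk str).left := inferInstanceAs (IsAffine (Spec (CommRingCat.of k)))
  have hqc0 : QuasiCompact g₀.left := inferInstance
  have hF₀fin : Finite ↥F₀.left := by
    have h2 := Scheme.Hom.finite_preimage_singleton g₀.left (IsLocalRing.closedPoint k)
    have h3 : g₀.left ⁻¹' {IsLocalRing.closedPoint k} = Set.univ := by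
      ext y
      simp only [Set.mem_preimage, Set.mem_univ, iff_true]
      exact Subsingleton.elim (α := ↥(Spec (CommRingCat.of k))) _ _
    exact Set.finite_univ_iff.1 (h3 ▸ h2)
  exact ⟨F₀, _, g₀, sqF, hg₀e, hF₀fin⟩

/-- A quasi-compact etale morphism has finite fibres on points. -/
theorem finite_fibre_of_qc_etale {X Y : Sp S} (hX : IsAlgSpace X) (hY : IsAlgSpace Y)
    (f : X ⟶ Y) (hq : IsQuasiCompactMor f) (he : IsEtaleMor f) (y : Points Y) :
    (Points.map f ⁻¹' {y}).Finite := by
  obtain ⟨k, _, str, φ, rfl⟩ := exists_fpOfHom y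
  obtain ⟨F₀, pr2, g₀, sqF, -, hfin⟩ := exists_finite_etale_fibre hX hY f hq he str φ
  refine (Set.finite_range (Points.ofPt pr2)).subset ?_
  intro x hx
  obtain ⟨z, hz1, -⟩ := points_pullback_surjective sqF x (Points.mk (fpOfHom str (𝟙 _))) (by
    rw [map_mk_fpOfHom, Category.id_comp]; exact hx)
  obtain ⟨v, rfl⟩ := ofScheme_surjective F₀ z
  exact ⟨v, by rw [Points.ofPt_eq_map_ofScheme, hz1]⟩

/-- **Monomorphic points descend along quasi-compact etale morphisms.** -/
theorem exists_mono_point_of_qc_etale {X Y : Sp S} (hX : IsAlgSpace X) (hY : IsAlgSpace Y)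
    (f : X ⟶ Y) (hq : IsQuasiCompactMor f) (he : IsEtaleMor f) {k : Type u} [Field k]
    (str : Spec (CommRingCat.of k) ⟶ S) (p : (yon S).obj (Over.mk str) ⟶ X) [Mono p] :
    ∃ (k' : Type u) (_ : Field k') (str' : Spec (CommRingCat.of k') ⟶ S)
      (cm : Over.mk str ⟶ Over.mk str') (q : (yon S).obj (Over.mk str') ⟶ Y),
      Mono q ∧ (yon S).map cm ≫ q = p ≫ f := by
  set φ := p ≫ f with hφ
  obtain ⟨F₀, pr2, g₀, sqF, hg₀e, hF₀fin⟩ := exists_finite_etale_fibre hX hY f hq he str φ
  have hrep : Representable φ := hY.representable_from_yon φ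
  let R : Over S := hrep.pullback φ
  let t : R ⟶ Over.mk str := hrep.fst' φ
  let s : R ⟶ Over.mk str := hrep.snd φ
  have sq : IsPullback ((yon S).map t) ((yon S).map s) φ φ := hrep.isPullback' φ
  -- finitely many points
  obtain ⟨j, hj⟩ := (yon S).map_surjective (sqF.lift ((yon S).map t ≫ p) ((yon S).map s)
    (by rw [Category.assoc]; exact sq.w))
  have hj2 : (yon S).map j ≫ pr2 = (yon S).map t ≫ p := by
    rw [hj, sqF.lift_fst]
  have hj1 : j ≫ g₀ = s := by
    apply (yon S).map_injective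
    rw [Functor.map_comp, hj, sqF.lift_snd]
  have big : IsPullback ((yon S).map j ≫ (yon S).map g₀) ((yon S).map t) φ (p ≫ f) := by
    rw [← Functor.map_comp, hj1]
    exact sq.flip
  have left : IsPullback ((yon S).map j) ((yon S).map t) pr2 p :=
    IsPullback.of_right big hj2 sqF.flip
  have hjm : Mono ((yon S).map j) := left.mono_fst_of_mono
  have hjm' : Mono j := (yon S).mono_of_mono_map hjm
  have hjmono : Mono j.left := inferInstance
  have hRfin : Finite ↥R.left := Finite.of_injective _ (Scheme.Hom.injective j.left)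
  have hsfin : IsFinite s.left :=
    isFinite_kernelPair_of_mono_of_etale_fibre f str p pr2 g₀ sqF hg₀e s t sq hRfin
  obtain ⟨k', hk', str', cm, q, hq1, hq2, -⟩ :=
    @exists_mono_of_finite_kernelPair S Y _ _ str φ R s t sq hsfin
  exact ⟨k', hk', str', cm, q, hq1, hq2⟩

/-- **Decency descends along jointly surjective families of quasi-compact etale morphisms.** -/
theorem isDecent_of_qc_etale_cover {Y : Sp S} (hY : IsAlgSpace Y) {J : Type*} (X : J → Sp S)
    (hX : ∀ j, IsAlgSpace (X j)) (f : ∀ j, X j ⟶ Y) (hq : ∀ j, IsQuasiCompactMor (f j))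
    (he : ∀ j, IsEtaleMor (f j)) (hs : ∀ y : Points Y, ∃ j x, Points.map (f j) x = y)
    (hXd : ∀ j, IsDecent (X j)) : IsDecent Y := by
  rw [isDecent_iff]
  intro y
  obtain ⟨j, x, rfl⟩ := hs y
  obtain ⟨K, _, str, ξ, rfl, hm, hqc⟩ := isDecent_iff.1 (hXd j) x
  obtain ⟨k', hk', str', cm, q, hq1, hq2⟩ :=
    exists_mono_point_of_qc_etale (hX j) hY (f j) (hq j) (he j) str ξ
  have hpt : Points.mk (fpOfHom str' q) = Points.mk (fpOfHom str (ξ ≫ f j)) := by
    rw [← hq2, mk_fpOfHom_comp]
  refine ⟨k', hk', str', q, ?_, hq1, ?_⟩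
  · rw [map_mk_fpOfHom, hpt]
  -- the family of charts
  choose U₀ a hae has using fun j => (hX j).atlas
  let V : (Σ j, (U₀ j).left.affineOpens) → Over S := fun W => overOpen (U₀ W.1) W.2.1
  let ψ₀ : ∀ W, (yon S).obj (V W) ⟶ X W.1 := fun W =>
    (yon S).map (overOpenι (U₀ W.1) W.2.1) ≫ a W.1
  let ψ : ∀ W, (yon S).obj (V W) ⟶ Y := fun W => ψ₀ W ≫ f W.1
  have hψ₀ : ∀ W, RepWith @Etale (ψ₀ W) := fun W => repWith_etale_restrict (hae W.1) W.2.1
  have hψ : ∀ W, RepWith @Etale (ψ W) := fun W => he W.1 _ (hψ₀ W)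
  have hVaff : ∀ W, IsAffine (V W).left := fun W => W.2.2
  have hsurj : ∀ y : Points Y, ∃ (W : Σ j, (U₀ j).left.affineOpens) (v : ↥(V W).left),
      Points.ofPt (ψ W) v = y := by
    intro y
    obtain ⟨j', x', rfl⟩ := hs y
    obtain ⟨u, rfl⟩ := ofPt_surjective_of_repWith (has j') x'
    obtain ⟨_, ⟨W, hW, rfl⟩, huW, -⟩ := (U₀ j').left.isBasis_affineOpens.exists_subset_of_mem_open
      (Set.mem_univ u) isOpen_univ
    refine ⟨⟨j', ⟨W, hW⟩⟩, ⟨u, huW⟩, ?_⟩
    rw [← Points.map_ofPt]
    congr 1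
    exact ofPt_restrict (a j') W ⟨u, huW⟩
  refine repWith_quasiCompact_of_mono_of_finite_fibres hY str' q V ψ hψ hsurj (fun W => ?_)
  rw [hpt]
  have hfib := finite_fibre_of_qc_etale (hX W.1) hY (f W.1) (hq W.1) (he W.1)
    (Points.mk (fpOfHom str (ξ ≫ f j)))
  have h1 : ∀ x' ∈ Points.map (f W.1) ⁻¹' {Points.mk (fpOfHom str (ξ ≫ f j))},
      (Points.ofPt (ψ₀ W) ⁻¹' {x'}).Finite := fun x' _ => by
    have := hVaff W
    exact finite_fibre_of_isDecent (hXd W.1) (hψ₀ W) x'
  refine (hfib.biUnion h1).subset ?_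
  intro v hv
  rw [Set.mem_preimage, Set.mem_singleton_iff, ← Points.map_ofPt] at hv
  exact Set.mem_biUnion (x := Points.ofPt (ψ₀ W) v) hv rfl

/-- **Decency descends along quasi-compact etale surjective morphisms.** -/
theorem isDecent_of_qc_etale_surjective {X Y : Sp S} (hX : IsAlgSpace X) (hY : IsAlgSpace Y)
    (f : X ⟶ Y) (hq : IsQuasiCompactMor f) (he : IsEtaleMor f) (hs : IsSurjectiveMor f)
    (hXd : IsDecent X) : IsDecent Y :=
  isDecent_of_qc_etale_cover hY (fun _ : PUnit.{1} => X) (fun _ => hX) (fun _ => f) (fun _ => hq)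
    (fun _ => he) (fun y => by obtain ⟨x, hx⟩ := hs y; exact ⟨⟨⟩, x, hx⟩) (fun _ => hXd)

/-- **Decency of a morphism may be checked after an etale surjective base change by a scheme.** -/
theorem isDecentMor_of_etale_cover {X Y : Sp S} (hX : IsAlgSpace X) (hY : IsAlgSpace Y)
    (f : X ⟶ Y) {V : Over S} (p : (yon S).obj V ⟶ Y) (hp : RepWith @Etale p)
    (hps : RepWith @Surjective p) (X' : Sp S) (fst : X' ⟶ X) (snd : X' ⟶ (yon S).obj V)
    (hsq : IsPullback fst snd f p) (h : IsDecentMor snd) : IsDecentMor f := by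
  apply isDecentMor_of_forall_affine hX hY f
  intro T g P pfst psnd hT sqP
  have hP : IsAlgSpace P := isAlgSpace_pullback hY.diag hX (IsAlgSpace.yon_obj T) sqP
  let VT : Over S := hp.rep.pullback g
  let vt1 : VT ⟶ V := hp.rep.fst' g
  let vt2 : VT ⟶ T := hp.rep.snd g
  have sqV : IsPullback ((yon S).map vt1) ((yon S).map vt2) p g := hp.rep.isPullback' g
  have hvt2e : Etale vt2.left := hp.property_snd g
  have hvt2s : Surjective vt2.left := hps.property_snd g
  let c : ∀ W : VT.left.affineOpens, overOpen VT W.1 ⟶ T := fun W => overOpenι VT W.1 ≫ vt2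
  let Xj : VT.left.affineOpens → Sp S := fun W => pullback psnd ((yon S).map (c W))
  have sqj : ∀ W, IsPullback (pullback.fst psnd ((yon S).map (c W)))
      (pullback.snd psnd ((yon S).map (c W))) psnd ((yon S).map (c W)) :=
    fun W => IsPullback.of_hasPullback _ _
  have hXj : ∀ W, IsAlgSpace (Xj W) := fun W =>
    isAlgSpace_pullback (IsAlgSpace.yon_obj T).diag hP (IsAlgSpace.yon_obj _) (sqj W)
  have hce : ∀ W, RepWith @Etale ((yon S).map (c W)) := fun W => by
    rw [repWith_yon_map_iff]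
    change Etale (W.1.ι ≫ vt2.left)
    infer_instance
  have hcq : ∀ W, RepWith @QuasiCompact ((yon S).map (c W)) := fun W => by
    rw [repWith_yon_map_iff]
    have h1 : IsAffine (overOpen VT W.1).left := W.2
    infer_instance
  have hfe : ∀ W, RepWith @Etale (pullback.fst psnd ((yon S).map (c W))) := fun W =>
    MorphismProperty.of_isPullback (P := RepWith @Etale) (sqj W).flip (hce W)
  have hfq : ∀ W, RepWith @QuasiCompact (pullback.fst psnd ((yon S).map (c W))) := fun W =>
    MorphismProperty.of_isPullback (P := RepWith @QuasiCompact) (sqj W).flip (hcq W)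
  refine isDecent_of_qc_etale_cover hP Xj hXj (fun W => pullback.fst _ _)
    (fun W => isQuasiCompactMor_of_repWith (hfq W))
    (fun W U φ hφ => MorphismProperty.comp_mem _ _ _ hφ (hfe W)) (fun z => ?_) (fun W => ?_)
  · obtain ⟨t, ht⟩ := ofScheme_surjective T (Points.map psnd z)
    obtain ⟨v, rfl⟩ := hvt2s.surj t
    obtain ⟨_, ⟨W, hW, rfl⟩, hvW, -⟩ := VT.left.isBasis_affineOpens.exists_subset_of_mem_open
      (Set.mem_univ v) isOpen_univ
    have hz : z ∈ Set.range (Points.map (pullback.fst psnd ((yon S).map (c ⟨W, hW⟩)))) := by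
      rw [range_points_map_fst (sqj ⟨W, hW⟩)]
      refine ⟨Points.ofScheme _ ⟨v, hvW⟩, ?_⟩
      rw [← Points.ofPt_eq_map_ofScheme, ← Category.comp_id ((yon S).map (c ⟨W, hW⟩)),
        ofPt_yon_map_comp, Points.ofPt_eq_map_ofScheme, Points.map_id, ← ht]
      rfl
    obtain ⟨x, hx⟩ := hz
    exact ⟨⟨W, hW⟩, x, hx⟩
  · have big : IsPullback (pullback.fst psnd ((yon S).map (c W)) ≫ pfst)
        (pullback.snd psnd ((yon S).map (c W))) f ((yon S).map (c W) ≫ g) :=
      (sqj W).paste_horiz sqP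
    have hcg : (yon S).map (c W) ≫ g = (yon S).map (overOpenι VT W.1 ≫ vt1) ≫ p := by
      rw [Functor.map_comp, Functor.map_comp, Category.assoc, Category.assoc, sqV.w]
    rw [hcg] at big
    have w : (pullback.fst psnd ((yon S).map (c W)) ≫ pfst) ≫ f =
        (pullback.snd psnd ((yon S).map (c W)) ≫ (yon S).map (overOpenι VT W.1 ≫ vt1)) ≫ p := by
      rw [Category.assoc _ _ p]
      exact big.w
    have left : IsPullback (hsq.lift _ _ w) (pullback.snd psnd ((yon S).map (c W))) snd
        ((yon S).map (overOpenι VT W.1 ≫ vt1)) := by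
      apply IsPullback.of_right (h₁₂ := fst) (h₂₂ := p) _ _ hsq
      · rw [hsq.lift_fst]; exact big
      · exact hsq.lift_snd _ _ _
    exact h _ _ _ left

end Groth.Agent.H3.Decent
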