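import Groth.Agent.Lib.Helper3.Decent.FibreTop
import Groth.Agent.Lib.Helper3.AlgSpCov.RedNoeth

/-!
# Reduced spaces mapping to a point factor through the residue field (helper3)

* `exists_factor_residueField_of_isReduced_affine`, `exists_factor_mono_field_of_isReduced`:
  a morphism from a reduced scheme with image one point factors through the residue field.
* `exists_factor_fibre_of_isReduced`: a reduced scheme mapping into the fibre of an etale chart
  over a quasi-compact monomorphic point factors through the fibre scheme.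
* `exists_factor_qc_mono_point_of_reduced`: the statement for algebraic spaces.
-/

set_option autoImplicit false
universe u

open CategoryTheory CategoryTheory.Limits AlgebraicGeometry TensorProduct
open AlgSp Topology

namespace Groth.Agent.H3.Decent

open Groth.Agent.H5.AlgSp Groth.Agent.H3.FinQuot

variable {S : Scheme.{u}}

/-- A morphism from a reduced scheme to an affine scheme whose image is a single point factors
through the spectrum of the residue field. -/
theorem exists_factor_residueField_of_isReduced_affine {T V : Scheme.{u}} [IsReduced T] [IsAffine V]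
    (m : T ⟶ V) (v : ↥V) (hm : ∀ t : ↥T, m t = v) :
    ∃ n : T ⟶ Spec (V.residueField v), n ≫ V.fromSpecResidueField v = m := by
  have hV := isAffineOpen_top V
  let A := Γ(V, ⊤)
  let B := Γ(T, ⊤)
  let φ : A ⟶ B := m.appTop
  let _ : Algebra ↑A ↑(V.presheaf.stalk v) := (V.presheaf.germ ⊤ v trivial).hom.toAlgebra
  have hloc : IsLocalization.AtPrime (V.presheaf.stalk v) (hV.primeIdealOf ⟨v, trivial⟩).asIdeal :=
    hV.isLocalization_stalk ⟨v, trivial⟩
  have hev : ∀ x : A, V.Γevaluation v x = 0 ↔ v ∉ V.basicOpen x := fun x =>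
    V.evaluation_eq_zero_iff_notMem_basicOpen (U := ⊤) v trivial x
  have hmem : ∀ x : A, x ∈ (hV.primeIdealOf ⟨v, trivial⟩).asIdeal ↔ v ∉ V.basicOpen x := by
    intro x
    rw [← hev, ← IsLocalization.AtPrime.to_map_mem_maximal_iff (V.presheaf.stalk v)
      (hV.primeIdealOf ⟨v, trivial⟩).asIdeal x]
    change _ ↔ (V.residue v) ((V.presheaf.germ ⊤ v trivial) x) = 0
    exact (IsLocalRing.residue_eq_zero_iff _).symm
  have hpre : ∀ x : A, T.basicOpen (φ x) = m ⁻¹ᵁ V.basicOpen x := fun x =>
    (Scheme.preimage_basicOpen_top m x).symm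
  have hunit : ∀ y : (hV.primeIdealOf ⟨v, trivial⟩).asIdeal.primeCompl, IsUnit (φ.hom y) := by
    intro y
    have hy : v ∈ V.basicOpen (y : A) := by
      by_contra h
      exact y.2 ((hmem y).2 h)
    have htop : T.basicOpen (φ y) = ⊤ := by
      rw [hpre]
      ext t
      simp only [TopologicalSpace.Opens.coe_top, Set.mem_univ, iff_true]
      change m t ∈ V.basicOpen (y : A)
      rw [hm t]
      exact hy
    apply RingedSpace.isUnit_of_isUnit_germ T.toRingedSpace ⊤ (φ y)
    intro t ht
    have : t ∈ T.basicOpen (φ y) := by rw [htop]; trivial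
    exact (T.mem_basicOpen_top (φ y) t).1 this
  have hzero : ∀ x : A, x ∈ (hV.primeIdealOf ⟨v, trivial⟩).asIdeal → φ.hom x = 0 := by
    intro x hx
    have hbot : T.basicOpen (φ x) = ⊥ := by
      rw [hpre]
      ext t
      simp only [TopologicalSpace.Opens.coe_bot, Set.mem_empty_iff_false, iff_false]
      change ¬ (m t ∈ V.basicOpen x)
      rw [hm t]
      exact (hmem x).1 hx
    exact eq_zero_of_basicOpen_eq_bot _ hbot
  let ψ : ↑(V.presheaf.stalk v) →+* ↑B :=
    IsLocalization.lift (M := (hV.primeIdealOf ⟨v, trivial⟩).asIdeal.primeCompl) (g := φ.hom) hunit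
  have hψ : ∀ x : A, ψ (algebraMap ↑A ↑(V.presheaf.stalk v) x) = φ.hom x := fun x =>
    IsLocalization.lift_eq _ x
  have hψ0 : ∀ a ∈ IsLocalRing.maximalIdeal ↑(V.presheaf.stalk v), ψ a = 0 := by
    intro a ha
    obtain ⟨⟨x, s⟩, hxs⟩ := IsLocalization.surj (hV.primeIdealOf ⟨v, trivial⟩).asIdeal.primeCompl a
    have h1 : algebraMap ↑A ↑(V.presheaf.stalk v) x ∈
        IsLocalRing.maximalIdeal ↑(V.presheaf.stalk v) := by
      rw [← hxs]
      exact Ideal.mul_mem_right _ _ ha
    rw [IsLocalization.AtPrime.to_map_mem_maximal_iff (V.presheaf.stalk v)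
      (hV.primeIdealOf ⟨v, trivial⟩).asIdeal x] at h1
    have h2 : ψ a * φ.hom s = 0 := by
      rw [← hψ, ← map_mul, hxs, hψ, hzero x h1]
    exact (hunit s).mul_left_eq_zero.1 h2
  let θ : V.residueField v ⟶ B :=
    CommRingCat.ofHom (Ideal.Quotient.lift (IsLocalRing.maximalIdeal ↑(V.presheaf.stalk v)) ψ hψ0)
  have hθ : V.Γevaluation v ≫ θ = φ := by
    ext x
    change (Ideal.Quotient.lift _ ψ hψ0) (Ideal.Quotient.mk _ ((V.presheaf.germ ⊤ v trivial) x)) = _
    rw [Ideal.Quotient.lift_mk]
    exact hψ x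
  refine ⟨T.toSpecΓ ≫ Spec.map θ, ?_⟩
  have hfrom : V.fromSpecResidueField v = Spec.map (V.Γevaluation v) ≫ V.isoSpec.inv := by
    rw [Scheme.fromSpecResidueField, ← hV.fromSpecStalk_eq_fromSpecStalk (x := v) trivial,
      IsAffineOpen.fromSpecStalk, IsAffineOpen.fromSpec_top, ← Category.assoc, ← Spec.map_comp]
    rfl
  rw [hfrom, Category.assoc, ← Category.assoc (Spec.map θ), ← Spec.map_comp, hθ,
    ← Scheme.toSpecΓ_naturality_assoc]
  simp [Scheme.isoSpec]

/-- A morphism from a reduced scheme whose image is the image point of a monomorphism from the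
spectrum of a field factors through this monomorphism. -/
theorem exists_factor_mono_field_of_isReduced {T V : Scheme.{u}} [IsReduced T] {L : Type u}
    [Field L] (c : Spec (CommRingCat.of L) ⟶ V) [Mono c] (m : T ⟶ V)
    (hm : ∀ t : ↥T, m t = c (IsLocalRing.closedPoint L)) : ∃ n : T ⟶ Spec (CommRingCat.of L), n ≫ c = m := by
  obtain ⟨_, ⟨(N : V.Opens), hN, rfl⟩, hvN, -⟩ := V.isBasis_affineOpens.exists_subset_of_mem_open
    (Set.mem_univ (c (IsLocalRing.closedPoint L))) isOpen_univ
  have hNaff : IsAffine N.toScheme := hN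
  have hrm : Set.range m ⊆ Set.range N.ι := by
    rintro _ ⟨t, rfl⟩
    rw [hm t, Scheme.Opens.range_ι]
    exact hvN
  have hrc : Set.range c ⊆ Set.range N.ι := by
    rintro _ ⟨z, rfl⟩
    have : z = IsLocalRing.closedPoint L := Subsingleton.elim (α := PrimeSpectrum L) _ _
    rw [this, Scheme.Opens.range_ι]
    exact hvN
  let m' : T ⟶ N.toScheme := IsOpenImmersion.lift N.ι m hrm
  let c' : Spec (CommRingCat.of L) ⟶ N.toScheme := IsOpenImmersion.lift N.ι c hrc
  have hm' : m' ≫ N.ι = m := IsOpenImmersion.lift_fac _ _ _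
  have hc' : c' ≫ N.ι = c := IsOpenImmersion.lift_fac _ _ _
  have hc'mono : Mono c' := by
    have : Mono (c' ≫ N.ι) := by rw [hc']; infer_instance
    exact mono_of_mono c' N.ι
  set v' := c' (IsLocalRing.closedPoint L) with hv'
  have hm't : ∀ t : ↥T, m' t = v' := by
    intro t
    apply N.ι.isOpenEmbedding.injective
    rw [← Scheme.Hom.comp_apply, ← Scheme.Hom.comp_apply, hm', hc']
    exact hm t
  have hfac := Scheme.descResidueField_stalkClosedPointTo_fromSpecResidueField L N.toScheme c'
  set θ := Scheme.descResidueField (Scheme.stalkClosedPointTo c') with hθ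
  have hmono : Mono (Spec.map θ ≫ N.toScheme.fromSpecResidueField v') := by
    rw [hfac]; infer_instance
  have hmono' : Mono (Spec.map θ) := mono_of_mono _ (N.toScheme.fromSpecResidueField _)
  have hne : Nonempty ↥(Spec (CommRingCat.of L)) := ⟨IsLocalRing.closedPoint L⟩
  have hiso : IsIso (Spec.map θ) :=
    isIso_of_mono_to_field_scheme (L := ↑(N.toScheme.residueField v')) (Spec.map θ)
  obtain ⟨n₀, hn₀⟩ := exists_factor_residueField_of_isReduced_affine m' v' hm't
  refine ⟨n₀ ≫ inv (Spec.map θ), ?_⟩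
  rw [← hc', ← hfac, Category.assoc, Category.assoc, IsIso.inv_hom_id_assoc, ← Category.assoc, hn₀,
    hm']

/-- A morphism from a reduced scheme into the fibre of an etale chart over a point represented by
a quasi-compact monomorphism factors through the fibre scheme. -/
theorem exists_factor_fibre_of_isReduced {X : Sp S} {k : Type u} [Field k]
    (str : Spec (CommRingCat.of k) ⟶ S) (ρ : (yon S).obj (Over.mk str) ⟶ X) [Mono ρ]
    (hq : RepWith @QuasiCompact ρ) {V : Over S} (b : (yon S).obj V ⟶ X) (hb : RepWith @Etale b)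
    {FV : Over S} (g1 : FV ⟶ Over.mk str) (g2 : FV ⟶ V)
    (sq : IsPullback ((yon S).map g1) ((yon S).map g2) ρ b) {U : Over S} [IsReduced U.left]
    (h : U ⟶ V) (hh : ∀ u : ↥U.left, Points.ofPt b (h.left u) = Points.mk (fpOfHom str ρ)) :
    ∃ n : U ⟶ FV, n ≫ g2 = h := by
  have hpre : IsPreimmersion g2.left := isPreimmersion_fibre_of_qc_mono str ρ hq b hb g1 g2 sq
  have hg1 : Etale g1.left := by
    have := (RepWith @Etale).of_isPullback sq.flip hb
    exact (repWith_yon_map_iff @Etale g1).1 this
  have hdisc : DiscreteTopology ↥FV.left := discreteTopology_of_etale_field g1.left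
  have hinj : Function.Injective g2.left := hpre.isEmbedding.injective
  have hmono2 : Mono g2.left := inferInstance
  -- the point of the fibre below a point of `U`
  have hpt : ∀ u : ↥U.left, ∃ e : ↥FV.left, g2.left e = h.left u := by
    intro u
    obtain ⟨e, he, -⟩ := exists_point_of_isPullback sq
      (Points.ofScheme (Over.mk str) (IsLocalRing.closedPoint k)) (h.left u) (by
        rw [points_map_field, hh u])
    exact ⟨e, he⟩
  choose e he using hpt
  have hNex : ∀ u : ↥U.left, ∃ N : V.left.Opens, g2.left ⁻¹' (N : Set ↥V.left) = {e u} := by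
    intro u
    obtain ⟨N, hN, hNe⟩ := hpre.isEmbedding.isInducing.isOpen_iff.1 (isOpen_discrete {e u})
    exact ⟨⟨N, hN⟩, hNe⟩
  choose N hN using hNex
  have hchart := fun u : ↥U.left => exists_field_chart_of_etale_field g1.left (e u)
  choose L hL c hc hcz using hchart
  have hcpt : ∀ u, c u (IsLocalRing.closedPoint (L u)) = e u := by
    intro u
    obtain ⟨z, hz⟩ := hcz u
    have : z = IsLocalRing.closedPoint (L u) := Subsingleton.elim (α := PrimeSpectrum (L u)) _ _
    rw [← this, hz]
  let T : ↥U.left → U.left.Opens := fun u => h.left ⁻¹ᵁ N u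
  have huT : ∀ u, u ∈ T u := by
    intro u
    change h.left u ∈ (N u : Set ↥V.left)
    rw [← he u]
    have : e u ∈ g2.left ⁻¹' (N u : Set ↥V.left) := by rw [hN u]; rfl
    exact this
  have hTpt : ∀ u (t : ↥(T u)), h.left t.1 = g2.left (e u) := by
    intro u t
    rw [← he t.1]
    congr 1
    have : e t.1 ∈ g2.left ⁻¹' (N u : Set ↥V.left) := by
      change g2.left (e t.1) ∈ (N u : Set ↥V.left)
      rw [he t.1]
      exact t.2
    rw [hN u] at this
    exact this
  have hfac : ∀ u, ∃ n : (T u).toScheme ⟶ Spec (CommRingCat.of (L u)),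
      n ≫ (c u ≫ g2.left) = (T u).ι ≫ h.left := by
    intro u
    have := hc u
    have : Mono (c u ≫ g2.left) := mono_comp _ _
    apply exists_factor_mono_field_of_isReduced (c u ≫ g2.left) ((T u).ι ≫ h.left)
    intro t
    rw [Scheme.Hom.comp_apply, Scheme.Hom.comp_apply, hcpt u]
    exact hTpt u t
  choose n hn using hfac
  let 𝒰 : U.left.OpenCover := Scheme.Cover.mkOfCovers ↥U.left (fun u => (T u).toScheme)
    (fun u => (T u).ι) (fun u => ⟨u, ⟨u, huT u⟩, rfl⟩) (fun u => inferInstance)
  let f : ∀ u : 𝒰.I₀, 𝒰.X u ⟶ FV.left := fun u => n u ≫ c u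
  have hf : ∀ x y, pullback.fst (𝒰.f x) (𝒰.f y) ≫ f x = pullback.snd _ _ ≫ f y := by
    intro x y
    rw [← cancel_mono g2.left]
    change (pullback.fst (T x).ι (T y).ι ≫ n x ≫ c x) ≫ g2.left =
      (pullback.snd (T x).ι (T y).ι ≫ n y ≫ c y) ≫ g2.left
    rw [Category.assoc, Category.assoc, Category.assoc, Category.assoc, hn x, hn y,
      ← Category.assoc, ← Category.assoc, pullback.condition]
  let n₀ : U.left ⟶ FV.left := 𝒰.glueMorphisms f hf
  have hn₀ : n₀ ≫ g2.left = h.left := by
    apply 𝒰.hom_ext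
    intro u
    rw [← Category.assoc, 𝒰.ι_glueMorphisms f hf u]
    change (n u ≫ c u) ≫ g2.left = (T u).ι ≫ h.left
    rw [Category.assoc, hn u]
  refine ⟨Over.homMk n₀ ?_, ?_⟩
  · rw [← Over.w g2, ← Category.assoc, hn₀, Over.w h]
  · ext
    exact hn₀

/-- **A morphism from a reduced algebraic space with image a point represented by a quasi-compact
monomorphism from the spectrum of a field factors through this monomorphism.** -/
theorem exists_factor_qc_mono_point_of_reduced {Y X : Sp S} (hY : IsAlgSpace Y)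
    (hX : IsAlgSpace X) (f : Y ⟶ X) {k : Type u} [Field k] (str : Spec (CommRingCat.of k) ⟶ S)
    (ρ : (yon S).obj (Over.mk str) ⟶ X) [Mono ρ] (hq : RepWith @QuasiCompact ρ)
    (hYr : IsReducedSp Y) (hf : ∀ y : Points Y, Points.map f y = Points.mk (fpOfHom str ρ)) :
    ∃ g : Y ⟶ (yon S).obj (Over.mk str), g ≫ ρ = f := by
  obtain ⟨V, b, hbe, hbs⟩ := hX.atlas
  obtain ⟨U', a', h, hae', has', comm⟩ := exists_chart_diagram_surj hY f hbe hbs
  have hU'r : IsReduced U'.left :=
    Groth.Agent.H3.AlgSpCov.isReduced_of_etale_of_isReducedSp hYr a' hae'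
  let FV : Over S := hq.rep.pullback b
  let g1 : FV ⟶ Over.mk str := hq.rep.fst' b
  let g2 : FV ⟶ V := hq.rep.snd b
  have sqF : IsPullback ((yon S).map g1) ((yon S).map g2) ρ b := hq.rep.isPullback' b
  have hh : ∀ u : ↥U'.left, Points.ofPt b (h.left u) = Points.mk (fpOfHom str ρ) := by
    intro u
    rw [← ofPt_yon_map_comp, ← comm, ← Points.map_ofPt, hf]
  obtain ⟨n, hn⟩ := exists_factor_fibre_of_isReduced str ρ hq b hbe g1 g2 sqF h hh
  have sqZ := IsPullback.of_hasPullback f ρ
  have hmono : Mono (pullback.fst f ρ) := sqZ.mono_fst_of_mono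
  have w : a' ≫ f = (yon S).map (n ≫ g1) ≫ ρ := by
    rw [comm, ← hn, Functor.map_comp, Functor.map_comp, Category.assoc, Category.assoc, sqF.w]
  have hχ : pullback.lift a' ((yon S).map (n ≫ g1)) w ≫ pullback.fst f ρ = a' :=
    pullback.lift_fst _ _ _
  have hls : Sheaf.IsLocallySurjective a' := isLocallySurjective_of_etale_surjective a' hae' has'
  have hls' : Sheaf.IsLocallySurjective (pullback.fst f ρ) :=
    Presheaf.isLocallySurjective_of_isLocallySurjective_fac (J S)
      (f₁ := (pullback.lift a' ((yon S).map (n ≫ g1)) w).hom) (f₂ := (pullback.fst f ρ).hom)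
      (f₃ := a'.hom) (congrArg (fun m => m.hom) hχ)
  have hiso : IsIso (pullback.fst f ρ) := isIso_of_mono_of_isLocallySurjective _
  refine ⟨inv (pullback.fst f ρ) ≫ pullback.snd f ρ, ?_⟩
  rw [Category.assoc, ← pullback.condition, IsIso.inv_hom_id_assoc]

end Groth.Agent.H3.Decent
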