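import Groth.Agent.Lib.Helper3.Decent.QSepGeneric
import Groth.Agent.Lib.Helper3.Decent.Sober
import Groth.Agent.Lib.Helper5.AlgSp.PointsTop

/-!
# The space of points of a quasi-compact quasi-separated algebraic space is spectral (helper3)
-/

set_option autoImplicit false
set_option linter.unusedSectionVars false
universe u

open CategoryTheory CategoryTheory.Limits AlgebraicGeometry TopologicalSpace
open AlgSp

namespace Groth.Agent.H3.Decent

open Groth.Agent.H5.AlgSp

variable {S : Scheme.{u}}

/-- images of affine opens of an étale surjective chart form a basis of `|X|` -/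
lemma isTopologicalBasis_image_affineOpens {X : Sp S} {U : Over S} {p : (yon S).obj U ⟶ X}
    (hp : RepWith @Etale p) (hs : RepWith @Surjective p) :
    IsTopologicalBasis (Set.range fun V : U.left.affineOpens =>
      Points.ofPt p '' ((V : U.left.Opens) : Set U.left)) := by
  refine isTopologicalBasis_of_isOpen_of_nhds ?_ ?_
  · rintro _ ⟨V, rfl⟩
    exact isOpenMap_ofPt_of_etale hp _ V.1.2
  · intro x W hxW hW
    obtain ⟨u, rfl⟩ := ofPt_surjective_of_repWith hs x
    have hW' : IsOpen (Points.ofPt p ⁻¹' W) := hW.preimage (Points.continuous_ofPt p)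
    obtain ⟨_, ⟨V, hV, rfl⟩, hu, hVW⟩ :=
      U.left.isBasis_affineOpens.exists_subset_of_mem_open (show u ∈ Points.ofPt p ⁻¹' W from hxW) hW'
    refine ⟨_, ⟨⟨V, hV⟩, rfl⟩, ⟨u, hu, rfl⟩, ?_⟩
    rintro _ ⟨v, hv, rfl⟩
    exact hVW hv

/-- over a quasi-separated base, the intersection of the images of two quasi-compact opens of a
chart of a quasi-separated space is quasi-compact -/
lemma isCompact_inter_image_ofPt [QuasiSeparatedSpace ↥S] {X : Sp S} (hqs : IsQuasiSeparatedSp X)
    {U : Over S} {p : (yon S).obj U ⟶ X} (hp : RepWith @Etale p) (V W : U.left.Opens)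
    (hV : IsCompact (V : Set U.left)) (hW : IsCompact (W : Set U.left)) :
    IsCompact (Points.ofPt p '' (V : Set U.left) ∩ Points.ofPt p '' (W : Set U.left)) := by
  have hpV := repWith_etale_restrict hp V
  have hpW := repWith_etale_restrict hp W
  set pV := (yon S).map (overOpenι U V) ≫ p with hpVdef
  set pW := (yon S).map (overOpenι U W) ≫ p with hpWdef
  let R : Over S := hpV.rep.pullback pW
  let t : R ⟶ overOpen U V := hpV.rep.fst' pW
  let s : R ⟶ overOpen U W := hpV.rep.snd pW
  have sq : IsPullback ((yon S).map t) ((yon S).map s) pV pW := hpV.rep.isPullback' pW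
  have h1 : QuasiCompact (prod.lift t s).left := prop_prodLift_of_repWith_diag hqs sq
  have hVc : CompactSpace ↥(overOpen U V).left := isCompact_iff_compactSpace.1 hV
  have hWc : CompactSpace ↥(overOpen U W).left := isCompact_iff_compactSpace.1 hW
  have hqcW : QuasiCompact (overOpen U W).hom := inferInstance
  have h2 : CompactSpace ↥(pullback (overOpen U V).hom (overOpen U W).hom) :=
    QuasiCompact.compactSpace_of_compactSpace (pullback.fst (overOpen U V).hom (overOpen U W).hom)
  have h3 : CompactSpace ↥(overOpen U V ⨯ overOpen U W).left :=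
    (Over.prodLeftIsoPullback (overOpen U V) (overOpen U W)).hom.homeomorph.symm.compactSpace
  have hRc : CompactSpace ↥R.left := QuasiCompact.compactSpace_of_compactSpace (prod.lift t s).left
  have key : Points.ofPt p '' (V : Set U.left) ∩ Points.ofPt p '' (W : Set U.left) =
      Set.range (Points.ofPt ((yon S).map t ≫ pV)) := by
    ext x
    constructor
    · rintro ⟨⟨v, hv, rfl⟩, ⟨w, hw, hvw⟩⟩
      have h : Points.map pV (Points.ofScheme (overOpen U V) ⟨v, hv⟩) = Points.ofPt pW ⟨w, hw⟩ := by
        rw [← Points.ofPt_eq_map_ofScheme, ofPt_restrict, ofPt_restrict]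
        exact hvw.symm
      obtain ⟨r, hr, hr'⟩ := exists_point_of_isPullback sq _ _ h
      refine ⟨r, ?_⟩
      rw [ofPt_yon_map_comp]
      have := congrArg (Points.toScheme (overOpen U V)) hr'
      rw [Points.toScheme_ofPt, Points.toScheme_ofScheme] at this
      rw [this, ofPt_restrict]
    · rintro ⟨r, rfl⟩
      constructor
      · refine ⟨(t.left r).1, (t.left r).2, ?_⟩
        rw [ofPt_yon_map_comp, ofPt_restrict]
      · refine ⟨(s.left r).1, (s.left r).2, ?_⟩
        rw [sq.w, ofPt_yon_map_comp, ofPt_restrict]
  rw [key]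
  exact isCompact_range (Points.continuous_ofPt _)

/-- **The space of points of a quasi-compact and quasi-separated algebraic space over a
quasi-separated base is spectral.** -/
theorem spectralSpace_points [QuasiSeparatedSpace ↥S] {X : Sp S} (hX : IsAlgSpace X)
    (hqc : IsQuasiCompactSp X) (hqs : IsQuasiSeparatedSp X) : SpectralSpace (Points X) := by
  have hd : IsDecent X := isDecent_of_isQuasiSeparatedSp hX hqs
  obtain ⟨U, p, hp, hs⟩ := hX.atlas
  have hbasis := isTopologicalBasis_image_affineOpens hp hs
  have h1 : T0Space (Points X) := t0Space_points_of_isDecent hX hd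
  have h2 : CompactSpace (Points X) := (isQuasiCompactSp_iff_compactSpace hX).1 hqc
  have h3 : QuasiSober (Points X) := quasiSober_points_of_isDecent hX hd
  have h4 : QuasiSeparatedSpace (Points X) :=
    QuasiSeparatedSpace.of_isTopologicalBasis hbasis fun V W =>
      isCompact_inter_image_ofPt hqs hp V.1 W.1 V.2.isCompact W.2.isCompact
  have h5 : PrespectralSpace (Points X) :=
    PrespectralSpace.of_isTopologicalBasis' hbasis fun V =>
      V.2.isCompact.image (Points.continuous_ofPt p)
  exact { }

end Groth.Agent.H3.Decent
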