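import Groth.Agent.Lib.Helper3.Decent.QSepGeneric
import Groth.Agent.Lib.Helper5.AlgSp.Cover

/-!
# Zariski locally quasi-separated spaces via quasi-compact affine charts (helper3)
-/

set_option autoImplicit false
set_option linter.unusedSectionVars false
universe u

open CategoryTheory CategoryTheory.Limits AlgebraicGeometry TensorProduct
open AlgSp

namespace Groth.Agent.H3.Decent

open Groth.Agent.H5.AlgSp Groth.Agent.H3.FinQuot Groth.Agent.H3.EtaleDeg
  Groth.Agent.H3.AlgSpProp

variable {S : Scheme.{u}}

/-- **A space with a quasi-compact étale surjective chart from an affine scheme is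
quasi-separated.** -/
theorem isQuasiSeparatedSp_of_quasiCompact_affine_chart {X : Sp S} (hX : IsAlgSpace X)
    {U : Over S} [IsAffine U.left] (p : (yon S).obj U ⟶ X) (hq : RepWith @QuasiCompact p)
    (he : RepWith @Etale p) (hs : RepWith @Surjective p) : IsQuasiSeparatedSp X := by
  have hrep := he.rep
  let R : Over S := hrep.pullback p
  let t : R ⟶ U := hrep.fst' p
  let s : R ⟶ U := hrep.snd p
  have sq : IsPullback ((yon S).map t) ((yon S).map s) p p := hrep.isPullback' p
  have : Sheaf.IsLocallySurjective p := isLocallySurjective_of_etale_surjective p he hs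
  refine (repWith_diag_iff_of_chart hX.diag sq @QuasiCompact).2 ?_
  -- `R` is quasi-compact
  have hsq : QuasiCompact s.left := hq.property p _ s sq
  have hRc : CompactSpace ↥R.left := QuasiCompact.compactSpace_of_compactSpace s.left
  -- `U ×_S U` is quasi-separated
  let q : S ⟶ Spec Γ(S, ⊤) := S.toSpecΓ
  have h1 : QuasiSeparatedSpace ↥(pullback (U.hom ≫ q) (U.hom ≫ q)) := inferInstance
  have h2 : QuasiSeparatedSpace ↥(pullback U.hom U.hom) :=
    quasiSeparatedSpace_of_quasiSeparated (pullback.mapDesc U.hom U.hom q)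
  have h3 : QuasiSeparatedSpace ↥(U ⨯ U).left :=
    quasiSeparatedSpace_of_quasiSeparated (Over.prodLeftIsoPullback U U).hom
  infer_instance

/-- composing both legs of a pullback square with a monomorphism gives a pullback square -/
theorem isPullback_comp_mono {C : Type*} [Category C] {P A B D E : C} {a : P ⟶ A} {b : P ⟶ B}
    {c : A ⟶ D} {d : B ⟶ D} (r : D ⟶ E) [Mono r] (sq : IsPullback a b c d) :
    IsPullback a b (c ≫ r) (d ≫ r) := by
  have w : a ≫ c ≫ r = b ≫ d ≫ r := by
    rw [← Category.assoc, sq.w, Category.assoc]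
  refine ⟨⟨w⟩, ⟨PullbackCone.IsLimit.mk w
    (fun s => sq.lift s.fst s.snd (by
      rw [← cancel_mono r, Category.assoc, Category.assoc]
      exact s.condition))
    (fun s => sq.lift_fst _ _ _) (fun s => sq.lift_snd _ _ _)
    (fun s m h1 h2 => sq.hom_ext (by rw [h1, sq.lift_fst]) (by rw [h2, sq.lift_snd]))⟩⟩

/-- **Every point of a quasi-separated algebraic space has an open neighbourhood admitting a
quasi-compact étale surjective chart from an affine scheme.** -/
theorem exists_open_quasiCompact_affine_chart {X : Sp S} (hX : IsAlgSpace X)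
    (hqs : IsQuasiSeparatedSp X) (x : Points X) :
    ∃ (X' : Sp S) (j : X' ⟶ X), IsAlgSpace X' ∧ RepWith @IsOpenImmersion j ∧
      x ∈ Set.range (Points.map j) ∧
      ∃ (U : Over S) (p : (yon S).obj U ⟶ X'), IsAffine U.left ∧ RepWith @QuasiCompact p ∧
        RepWith @Etale p ∧ RepWith @Surjective p := by
  obtain ⟨A, str, p, u, S₀, hp, hpx, hS₀, hr⟩ := exists_affine_etale_chart_small hX x
  let W : Set (Points X) := Set.range (Points.ofPt p)
  have hW : IsOpen W := by
    have := isOpenMap_ofPt_of_etale hp _ isOpen_univ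
    rwa [Set.image_univ] at this
  have hX' : IsAlgSpace (openSub X W) := isAlgSpace_openSub hX hW
  obtain ⟨p', hp'⟩ := (factors_openSubι_iff X W p).2 (fun t => ⟨t, rfl⟩)
  have hp'e : RepWith @Etale p' := repWith_of_comp_mono (openSubι X W) (by rw [hp']; exact hp)
  have hp'rep : Representable p' := hp'e.rep
  have hp's : RepWith @Surjective p' := by
    apply repWith_surjective_of_ofPt hp'rep
    intro y
    have hy : Points.map (openSubι X W) y ∈ W := by
      have h := Set.mem_range_self (f := Points.map (openSubι X W)) y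
      rwa [range_points_map_openSubι] at h
    obtain ⟨t, ht⟩ := hy
    refine ⟨t, ?_⟩
    apply points_map_injective_of_mono (openSubι X W)
    rw [Points.map_ofPt, hp', ht]
  -- the kernel pair
  let R : Over S := hp'rep.pullback p'
  let t : R ⟶ Over.mk str := hp'rep.fst' p'
  let s : R ⟶ Over.mk str := hp'rep.snd p'
  have sq' : IsPullback ((yon S).map t) ((yon S).map s) p' p' := hp'rep.isPullback' p'
  have sq : IsPullback ((yon S).map t) ((yon S).map s) p p := by
    rw [← hp']
    exact isPullback_comp_mono (openSubι X W) sq'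
  -- the open subspace is quasi-separated
  have hls : Sheaf.IsLocallySurjective p' := isLocallySurjective_of_etale_surjective p' hp'e hp's
  have hqs' : IsQuasiSeparatedSp (openSub X W) :=
    (repWith_diag_iff_of_chart hX'.diag sq' @QuasiCompact).2
      (prop_prodLift_of_repWith_diag hqs sq)
  refine ⟨openSub X W, openSubι X W, hX', repWith_openSubι hW, ?_, Over.mk str, p',
    (inferInstance : IsAffine (Spec A)), ?_, hp'e, hp's⟩
  · rw [range_points_map_openSubι W]
    exact ⟨u, hpx⟩
  -- quasi-compactness of the chart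
  refine ⟨hp'rep, fun T V g fst snd sqV => ?_⟩
  obtain ⟨f₁, rfl⟩ := (yon S).map_surjective fst
  change QuasiCompact snd.left
  have h1 : QuasiCompact (prod.lift f₁ snd).left := prop_prodLift_of_repWith_diag hqs' sqV
  have hsurj : Surjective snd.left := hp's.property g _ snd sqV
  -- the structure morphism of `T` factors through `S₀`
  have hrT : Set.range T.hom ⊆ Set.range S₀.ι := by
    rw [Scheme.Opens.range_ι]
    rintro _ ⟨τ, rfl⟩
    obtain ⟨v, rfl⟩ := hsurj.surj τ
    have h2 : snd.left ≫ T.hom = f₁.left ≫ str := (Over.w snd).trans (Over.w f₁).symm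
    have h3 : T.hom (snd.left v) = str (f₁.left v) := by
      rw [← Scheme.Hom.comp_apply, h2, Scheme.Hom.comp_apply]
    rw [h3]
    exact hr ⟨_, rfl⟩
  have hrS : Set.range str ⊆ Set.range S₀.ι := by
    rw [Scheme.Opens.range_ι]
    exact hr
  let cT : T.left ⟶ S₀.toScheme := IsOpenImmersion.lift S₀.ι T.hom hrT
  have hcT : cT ≫ S₀.ι = T.hom := IsOpenImmersion.lift_fac _ _ _
  let c : Spec A ⟶ S₀.toScheme := IsOpenImmersion.lift S₀.ι str hrS
  have hc : c ≫ S₀.ι = str := IsOpenImmersion.lift_fac _ _ _
  have : IsAffine S₀.toScheme := hS₀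
  have hcq : QuasiCompact c := inferInstance
  have : IsIso (pullback.mapDesc c cT S₀.ι) := isIso_mapDesc_of_mono c cT S₀.ι
  have h4 : QuasiCompact (pullback.snd (c ≫ S₀.ι) (cT ≫ S₀.ι)) := by
    have h5 : pullback.snd (c ≫ S₀.ι) (cT ≫ S₀.ι) =
        inv (pullback.mapDesc c cT S₀.ι) ≫ pullback.snd c cT := by
      rw [IsIso.eq_inv_comp, pullback.lift_snd, Category.comp_id]
    rw [h5]
    infer_instance
  rw [hc, hcT] at h4
  have h4' : QuasiCompact (pullback.snd (Over.mk str).hom T.hom) := h4
  have h6 : QuasiCompact (prod.snd (X := Over.mk str) (Y := T)).left := by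
    rw [← Over.prodLeftIsoPullback_hom_snd]
    infer_instance
  have h7 : snd.left = (prod.lift f₁ snd).left ≫ (prod.snd (X := Over.mk str) (Y := T)).left := by
    rw [← Over.comp_left, prod.lift_snd]
  rw [h7]
  infer_instance

end Groth.Agent.H3.Decent
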